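import Cfsg.Agent.Cit.Nil.RTwo.SMain
import Cfsg.Agent.OddHalf.Table.OutSpSix
import Cfsg.Agent.Lib.GenFitting

/-!
# S1309 (n6a), AllOne branch, (M3): automorphisms of the world (S)

`SW.not_sqrt`: in the world `SW Om` with `F*(Y) ≃ PSp 3 F₂` there is no automorphism `α` of `Y` with
`α r = r` for `r ∈ R_z` and `α² = ` conjugation by `z`.
-/

set_option autoImplicit false
set_option linter.style.haveILetI false
set_option linter.unusedSectionVars false

namespace Cfsg.Agent.Cit.Nil.Comp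

open Subgroup Cfsg Cfsg.Agent.Cit
open Cfsg.Agent.Cit.Nil.RTwo (SW CC CX RZ InZ Mem PPAll Abel CFA)

variable {Y : Type*} [Group Y]

/-- an automorphism which is inner on a characteristic subgroup `N` with `C(N) = 1` is inner -/
theorem aut_inner {N : Subgroup Y} (hN : N.Characteristic) (hC : centralizer (N : Set Y) = ⊥)
    (hin : ∀ β : MulAut N, ∃ x, β = MulAut.conj x) (α : MulAut Y) : ∃ y ∈ N, ∀ g, α g = y * g * y⁻¹ := by
  have h1 : ∀ x ∈ N, α x ∈ N := by
    intro x hx
    have h2 := characteristic_iff_map_le.1 hN α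
    exact h2 (mem_map_of_mem _ hx)
  have h2 : ∀ x ∈ N, α.symm x ∈ N := by
    intro x hx
    have h2 := characteristic_iff_map_le.1 hN α.symm
    exact h2 (mem_map_of_mem _ hx)
  let β : MulAut N :=
    { toFun := fun x => ⟨α x, h1 x x.2⟩
      invFun := fun x => ⟨α.symm x, h2 x x.2⟩
      left_inv := fun x => Subtype.ext (α.symm_apply_apply x)
      right_inv := fun x => Subtype.ext (α.apply_symm_apply x)
      map_mul' := fun x y => Subtype.ext (map_mul α _ _) }
  obtain ⟨x, hx⟩ := hin β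
  have h3 : ∀ w ∈ N, α w = x * w * (x : Y)⁻¹ := by
    intro w hw
    have h4 : β ⟨w, hw⟩ = MulAut.conj x ⟨w, hw⟩ := by rw [hx]
    exact congrArg Subtype.val h4
  haveI : N.Normal := by
    haveI := hN
    exact normal_of_characteristic N
  refine ⟨x, x.2, fun g => ?_⟩
  have h4 : (x * g : Y)⁻¹ * α g * x ∈ centralizer (N : Set Y) := by
    rw [mem_centralizer_iff]
    intro w hw
    have h5 := h3 (g * w * g⁻¹) (Normal.conj_mem inferInstance w hw g)
    rw [map_mul, map_mul, map_inv, h3 w hw] at h5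
    -- `α g x w x⁻¹ (α g)⁻¹ = x g w g⁻¹ x⁻¹`
    calc w * ((x * g : Y)⁻¹ * α g * x) = (x * g : Y)⁻¹ * ((x : Y) * (g * w * g⁻¹) * (x : Y)⁻¹) * α g * x := by group
      _ = (x * g : Y)⁻¹ * (α g * ((x : Y) * w * (x : Y)⁻¹) * (α g)⁻¹) * α g * x := by rw [h5]
      _ = (x * g : Y)⁻¹ * α g * x * w := by group
  rw [hC, mem_bot] at h4
  calc α g = (x * g : Y) * ((x * g : Y)⁻¹ * α g * x) * (x : Y)⁻¹ := by group
    _ = x * g * (x : Y)⁻¹ := by rw [h4, mul_one]

/-- transport of `hin` -/
theorem inner_congr {A B : Type*} [Group A] [Group B] (e : A ≃* B) (h : ∀ β : MulAut B, ∃ x, β = MulAut.conj x)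
    (α : MulAut A) : ∃ x, α = MulAut.conj x := by
  obtain ⟨x, hx⟩ := h ((e.symm.trans α).trans e)
  refine ⟨e.symm x, MulEquiv.ext fun a => ?_⟩
  have h1 : e (α (e.symm (e a))) = x * e a * x⁻¹ := by
    have h2 : ((e.symm.trans α).trans e) (e a) = MulAut.conj x (e a) := by rw [hx]
    exact h2
  rw [e.symm_apply_apply] at h1
  apply e.injective
  rw [h1, MulAut.conj_apply, map_mul, map_mul, map_inv, e.apply_symm_apply]

variable [Finite Y] {Om : Set (Subgroup Y)} {z : Y}

/-- the element `y` : no square root of `z` centralises the members over `z` -/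
theorem SW.sq_ne (S : SW Om) (hz : InZ Om z) {y : Y} (hy : y ∈ CX Om z) : y * y ≠ z := by
  intro h1
  have hz1 := hz.z1 S.w
  have hz2 := hz.z2 S.w
  rcases S.cx z hz y hy with h2 | h2 | h2 | h2
  · rw [h2, one_mul] at h1; exact hz1 h1.symm
  · rw [h2, hz2] at h1; exact hz1 h1.symm
  · rw [CC.sq h2] at h1; exact hz1 h1.symm
  · have h3 : (z * y) * (z * y) = 1 := CC.sq h2
    have h4 : y * z = z * y := by
      rw [← h1, mul_assoc]
    have h5 : (z * y) * (z * y) = y * y := by
      calc (z * y) * (z * y) = z * (y * z) * y := by group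
        _ = (z * z) * (y * y) := by rw [h4]; group
        _ = y * y := by rw [hz2, one_mul]
    rw [h5, h1] at h3
    exact hz1 h3

/-- see the head of the file -/
theorem SW.not_sqrt (S : SW Om) (hz : InZ Om z) (hC : centralizer (generalizedFittingSubgroup Y : Set Y) = ⊥)
    (hin : ∀ β : MulAut ↥(generalizedFittingSubgroup Y), ∃ x, β = MulAut.conj x) (α : MulAut Y)
    (hR : ∀ K, Mem Om z K → ∀ r ∈ K, α r = r) (hα : ∀ g, α (α g) = z * g * z⁻¹) : False := by
  obtain ⟨y, -, hy⟩ := aut_inner (Lib.GenFitting.genFitting_characteristic (G := Y)) hC hin α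
  have h1 : y ∈ CX Om z := by
    rw [RTwo.mem_CX]
    intro K hK r hr
    have h2 := hR K hK r hr
    rw [hy] at h2
    rwa [mul_inv_eq_iff_eq_mul] at h2
  refine SW.sq_ne S hz h1 ?_
  have h2 : z⁻¹ * (y * y) ∈ centralizer (generalizedFittingSubgroup Y : Set Y) := by
    rw [mem_centralizer_iff]
    intro g _
    have h3 := hα g
    rw [hy, hy] at h3
    calc g * (z⁻¹ * (y * y)) = z⁻¹ * (z * g * z⁻¹) * (y * y) := by group
      _ = z⁻¹ * (y * (y * g * y⁻¹) * y⁻¹) * (y * y) := by rw [h3]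
      _ = z⁻¹ * (y * y) * g := by group
  rw [hC, mem_bot] at h2
  calc y * y = z * (z⁻¹ * (y * y)) := by group
    _ = z := by rw [h2, mul_one]

/-- the automorphisms of `Sp₆(2)` are inner -/
theorem aut_spSix {X : Type*} [Group X] (h : ∃ (F : Type) (_ : Field F) (_ : Fintype F), Fintype.card F = 2 ∧
    Nonempty (X ≃* Cfsg.PSp 3 F)) (β : MulAut X) : ∃ x, β = MulAut.conj x := by
  obtain ⟨F, hF1, hF2, hF3, ⟨e⟩⟩ := h
  exact inner_congr e (OddHalf.Table.OutSpSix.inner (le_refl 3) (by rw [Nat.card_eq_fintype_card, hF3])) β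

end Cfsg.Agent.Cit.Nil.Comp
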