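import Cfsg.Agent.Cit.Nil.AN.Inst
import Cfsg.Agent.Cit.Nil.Comp.Frame
import Cfsg.Agent.Cit.Nil.Comp.MThreeAbs

/-!
# S1309 (n6a), AllOne branch, (M3): three pairwise commuting members are impossible

`SecSW Z K z a φ OmY` : the group `Y = φ(X)`, `X = ⟨K b : b ∈ Cl Z K z a⟩`, `Ker φ = Z(X)`, is in the world (S) with
the family `OmY` of the images of the `K b`.

`Tri.label` : in the section of `z` there is an element `c` with `c² = z`, centralising `K z`, `K a`, `K b`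
(a lift of a label at the image of `a`).  `Tri.false_of` : the contradiction in the section of `a`.
-/

set_option autoImplicit false
set_option linter.style.haveILetI false
set_option linter.unusedSectionVars false

namespace Cfsg.Agent.Cit.Nil.Comp

open Subgroup Cfsg Cfsg.Agent.Cit Cfsg.Agent.Cit.Nil.ROne Cfsg.Agent.Cit.Nil.AN
open Cfsg.Agent.OddOrderLocal.NilParts
open Cfsg.Agent.Cit.Nil.RTwo (SW CC CX RZ InZ Mem Lab W2 mem_CX RZ_le)

variable {G : Type*} [Group G] {Z : Set G} {K : G → Subgroup G} {z a b u v x y g : G}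

/-- see the head of the file -/
structure SecSW (Z : Set G) (K : G → Subgroup G) (z a : G) {Y : Type*} [Group Y]
    (φ : ↥(Gp K (Cl Z K z a)) →* Y) (OmY : Set (Subgroup Y)) : Prop where
  surj : Function.Surjective φ
  ker : φ.ker = center ↥(Gp K (Cl Z K z a))
  mem : ∀ P, P ∈ OmY ↔ ∃ b ∈ Cl Z K z a, P = ((K b).subgroupOf (Gp K (Cl Z K z a))).map φ
  sw : SW OmY

/-- a triple of pairwise commuting members -/
structure Tri (Z : Set G) (K : G → Subgroup G) (z a b : G) : Prop where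
  hz : z ∈ Z
  ha : a ∈ Z
  hb : b ∈ Z
  cza : CP K z a
  czb : CP K z b
  cab : CP K a b

theorem cp_sym {K : G → Subgroup G} (h : CP K z u) : CP K u z := ⟨h.1.symm, fun a ha b hb => (h.2 b hb a ha).symm⟩

theorem Tri.rot (t : Tri Z K z a b) : Tri Z K a b z := ⟨t.ha, t.hb, t.hz, t.cab, cp_sym t.cza, cp_sym t.czb⟩

theorem Tri.swp (t : Tri Z K z a b) : Tri Z K z b a := ⟨t.hz, t.hb, t.ha, t.czb, t.cza, cp_sym t.cab⟩

/-- an automorphism which normalises the kernel induces an automorphism of the image -/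
theorem exists_aut_of_ker {X Y : Type*} [Group X] [Group Y] {φ : X →* Y} (hφ : Function.Surjective φ) (γ : MulAut X)
    (hk : φ.ker.map γ.toMonoidHom = φ.ker) : ∃ α : MulAut Y, ∀ x, α (φ x) = φ (γ x) := by
  let E := QuotientGroup.quotientKerEquivOfSurjective φ hφ
  let c := QuotientGroup.congr φ.ker φ.ker γ hk
  refine ⟨(E.symm.trans c).trans E, fun x => ?_⟩
  have h1 : E.symm (φ x) = (x : X ⧸ φ.ker) := by
    rw [MulEquiv.symm_apply_eq]
    rfl
  change E (c (E.symm (φ x))) = _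
  rw [h1]
  rfl

section

variable [Finite G] (h : W Z K) (ao : AllOne Z K) (t : Tri Z K z a b)

include h ao t

theorem Tri.aO : a ∈ Om Z K z := om_of_cm h t.hz t.ha t.cza.2

theorem Tri.nn : a ∉ oP 2 (centralizer {z}) := ao.not_nil z t.hz a t.ha t.cza

theorem Tri.b_mem : b ∈ Cl Z K z a := ao.cls z t.hz a t.ha b t.hb t.cza t.czb

theorem Tri.mul : a * b = z := by
  have h1 := ao.three z t.hz a t.ha b t.hb t.cza t.czb t.cab
  rw [mul_assoc] at h1
  calc a * b = z⁻¹ * (z * (a * b)) := by group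
    _ = z := by rw [h1, mul_one, h.inv t.hz]

theorem Tri.clZ (hu : u ∈ Cl Z K z a) : u ∈ Z := (cl_sub (t.aO h ao) hu).1

theorem Tri.cp (hu : u ∈ Cl Z K z a) : CP K z u := by
  have h1 := cl_sub (t.aO h ao) hu
  have hne : u ≠ z := by
    rintro rfl
    exact not_mem_of_not_nil h t.hz (t.aO h ao) (t.nn h ao) hu
  exact ⟨hne.symm, cm_of_om h t.hz h1 hne⟩

/-- an element of the class centralising `K a` is `a` or `b` -/
theorem Tri.eq_or (hu : u ∈ Cl Z K z a) (hc : Ce u (K a)) : u = a ∨ u = b := by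
  by_cases h1 : u = a
  · exact Or.inl h1
  right
  have huZ := t.clZ h ao hu
  have h2 : CP K a u := h.csymm t.ha huZ (Ne.symm h1) hc
  have h3 := ao.three z t.hz a t.ha u huZ t.cza (t.cp h ao hu) h2
  have h4 := ao.three z t.hz a t.ha b t.hb t.cza t.czb t.cab
  exact mul_left_cancel (h3.trans h4.symm)

theorem Tri.eq_or' (hu : u ∈ Cl Z K z a) (hc : Ce u (K b)) : u = a ∨ u = b := by
  by_cases h1 : u = b
  · exact Or.inr h1
  left
  have huZ := t.clZ h ao hu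
  have h2 : CP K b u := h.csymm t.hb huZ (Ne.symm h1) hc
  have h3 := ao.three z t.hz b t.hb u huZ t.czb (t.cp h ao hu) h2
  have h4 := ao.three z t.hz b t.hb a t.ha t.czb t.cza (cp_sym t.cab)
  exact mul_left_cancel (h3.trans h4.symm)

/-- no nontrivial element of `K u` is central in `X` -/
theorem Tri.inf (hu : u ∈ Cl Z K z a) (hx : x ∈ K u)
    (hc : ∀ g ∈ Gp K (Cl Z K z a), g * x = x * g) : x = 1 := by
  have huZ := t.clZ h ao hu
  rcases h.eq_of_cen huZ hx (fun k hk => (hc k (le_Gp hu hk)).symm) with h1 | h1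
  · exact h1
  exfalso
  subst h1
  refine ao.not_nil z t.hz x huZ (t.cp h ao hu) ?_
  refine nil_of_ce h (cl_sub (t.aO h ao) hu) fun v hv k hk => ?_
  rw [cl_eq (t.aO h ao) hu] at hv
  exact (hc k (le_Gp hv hk)).symm

end

section sec

variable [Finite G] (h : W Z K) (ao : AllOne Z K) (t : Tri Z K z a b)
variable {Y : Type*} [Group Y] [Finite Y] {φ : ↥(Gp K (Cl Z K z a)) →* Y} {OmY : Set (Subgroup Y)}
variable (s : SecSW Z K z a φ OmY)

omit [Finite G] [Finite Y] in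
include s in
theorem SecSW.eq_one_iff (hx : x ∈ Gp K (Cl Z K z a)) :
    φ ⟨x, hx⟩ = 1 ↔ ∀ g ∈ Gp K (Cl Z K z a), g * x = x * g := by
  rw [← MonoidHom.mem_ker, s.ker, mem_center_iff]
  constructor
  · intro h1 g hg
    exact congrArg Subtype.val (h1 ⟨g, hg⟩)
  · intro h1 g
    exact Subtype.ext (h1 g g.2)

include h ao t s

theorem SecSW.phi_ne (hu : u ∈ Cl Z K z a) (hx : x ∈ K u) (h1 : x ≠ 1) : φ ⟨x, le_Gp hu hx⟩ ≠ 1 := fun h2 =>
  h1 (t.inf h ao hu hx ((s.eq_one_iff _).1 h2))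

/-- the involution of a member of the section -/
theorem SecSW.zz_eq (hu : u ∈ Cl Z K z a) :
    zz (((K u).subgroupOf (Gp K (Cl Z K z a))).map φ) = φ ⟨u, le_Gp hu (h.mem u (t.clZ h ao hu))⟩ := by
  have huZ := t.clZ h ao hu
  have h1 : ((K u).subgroupOf (Gp K (Cl Z K z a))).map φ ∈ OmY := (s.mem _).2 ⟨u, hu, rfl⟩
  refine (s.sw.w.hyp.eq_zz h1 ?_ ?_ (s.phi_ne h ao t hu (h.mem u huZ) (h.ne u huZ))).symm
  · exact mem_map_of_mem _ (mem_subgroupOf.2 (h.mem u huZ))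
  · rw [← map_mul]
    exact (congrArg φ (Subtype.ext (h.sq u huZ))).trans (map_one φ)

/-- the images of `a` and `b` agree -/
theorem SecSW.phi_eq : φ ⟨b, le_Gp (t.b_mem h ao) (h.mem b t.hb)⟩ = φ ⟨a, le_Gp (cl_refl z a) (h.mem a t.ha)⟩ := by
  have ha : a ∈ Gp K (Cl Z K z a) := le_Gp (cl_refl z a) (h.mem a t.ha)
  have hb : b ∈ Gp K (Cl Z K z a) := le_Gp (t.b_mem h ao) (h.mem b t.hb)
  have hab := t.mul h ao
  have hz : z ∈ Gp K (Cl Z K z a) := by
    have h0 := mul_mem ha hb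
    rwa [hab] at h0
  have h1 : φ ⟨z, hz⟩ = 1 := by
    rw [s.eq_one_iff]
    intro g hg
    have h2 : Ce z (Gp K (Cl Z K z a)) := Gp_ce fun u hu => (cl_sub (t.aO h ao) hu).2
    exact (h2 g hg).symm
  have h2 : φ ⟨a, ha⟩ * φ ⟨b, hb⟩ = 1 := by
    rw [← h1, ← map_mul]
    exact congrArg φ (Subtype.ext hab)
  have h3 : φ ⟨a, ha⟩ * φ ⟨a, ha⟩ = 1 := by
    rw [← map_mul]
    exact (congrArg φ (Subtype.ext (h.sq a t.ha))).trans (map_one φ)
  exact mul_left_cancel (h2.trans h3.symm)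

/-- a member over the image of `a` is the image of `K a` or `K b` -/
theorem SecSW.mem_over {P : Subgroup Y} (hP : Mem OmY (φ ⟨a, le_Gp (cl_refl z a) (h.mem a t.ha)⟩) P) :
    P = ((K a).subgroupOf (Gp K (Cl Z K z a))).map φ ∨ P = ((K b).subgroupOf (Gp K (Cl Z K z a))).map φ := by
  obtain ⟨u, hu, rfl⟩ := (s.mem P).1 hP.1
  have h1 := hP.2
  rw [s.zz_eq h ao t hu] at h1
  have huZ := t.clZ h ao hu
  have h2 : ∀ g ∈ Gp K (Cl Z K z a), g * (a⁻¹ * u) = (a⁻¹ * u) * g := by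
    have h3 : a⁻¹ * u ∈ Gp K (Cl Z K z a) :=
      mul_mem (inv_mem (le_Gp (cl_refl z a) (h.mem a t.ha))) (le_Gp hu (h.mem u huZ))
    apply (s.eq_one_iff h3).1
    have h4 : φ ⟨a⁻¹ * u, h3⟩ = (φ ⟨a, le_Gp (cl_refl z a) (h.mem a t.ha)⟩)⁻¹ * φ ⟨u, le_Gp hu (h.mem u huZ)⟩ := by
      rw [← map_inv, ← map_mul]
      rfl
    rw [h4, h1, inv_mul_cancel]
  have h3 : Ce u (K a) := by
    have h4 : Ce (a * (a⁻¹ * u)) (K a) :=
      Ce.mul (fun k hk => (h.cent t.ha hk).symm) fun k hk => (h2 k (le_Gp (cl_refl z a) hk)).symm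
    rwa [mul_inv_cancel_left] at h4
  rcases t.eq_or h ao hu h3 with h4 | h4
  · left; rw [h4]
  · right; rw [h4]

theorem SecSW.memA : Mem OmY (φ ⟨a, le_Gp (cl_refl z a) (h.mem a t.ha)⟩)
    (((K a).subgroupOf (Gp K (Cl Z K z a))).map φ) :=
  ⟨(s.mem _).2 ⟨a, cl_refl z a, rfl⟩, s.zz_eq h ao t (cl_refl z a)⟩

theorem SecSW.memB : Mem OmY (φ ⟨a, le_Gp (cl_refl z a) (h.mem a t.ha)⟩)
    (((K b).subgroupOf (Gp K (Cl Z K z a))).map φ) :=
  ⟨(s.mem _).2 ⟨b, t.b_mem h ao, rfl⟩, (s.zz_eq h ao t (t.b_mem h ao)).trans (s.phi_eq h ao t)⟩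

/-- elements of `R` at the image of `a` -/
theorem SecSW.mem_RZ {r : Y} (hr : r ∈ RZ OmY (φ ⟨a, le_Gp (cl_refl z a) (h.mem a t.ha)⟩)) :
    ∃ k ∈ K a, ∃ l ∈ K b, ∃ hkl : k * l ∈ Gp K (Cl Z K z a), r = φ ⟨k * l, hkl⟩ := by
  let f : K a × K b →* G := (K a).subtype.noncommCoprod (K b).subtype fun x y => t.cab.2 x x.2 y y.2
  have hf : f.range = K a ⊔ K b := by
    have h0 := MonoidHom.noncommCoprod_range (K a).subtype (K b).subtype fun x y => t.cab.2 x x.2 y y.2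
    rwa [range_subtype, range_subtype] at h0
  have h1 : RZ OmY (φ ⟨a, le_Gp (cl_refl z a) (h.mem a t.ha)⟩) ≤
      ((K a ⊔ K b).subgroupOf (Gp K (Cl Z K z a))).map φ := by
    refine RZ_le fun P hP => ?_
    rcases s.mem_over h ao t hP with h2 | h2
    · rw [h2]; exact map_mono (comap_mono le_sup_left)
    · rw [h2]; exact map_mono (comap_mono le_sup_right)
  obtain ⟨⟨w, hw⟩, hw1, rfl⟩ := h1 hr
  have hw2 : w ∈ K a ⊔ K b := hw1
  rw [← hf] at hw2
  obtain ⟨⟨k, l⟩, hkl⟩ := hw2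
  have h3 : (k : G) * l = w := hkl
  exact ⟨k, k.2, l, l.2, by rw [h3]; exact hw, by congr 1; exact Subtype.ext h3.symm⟩

/-- an element of `X` which centralises the image of `K u` centralises `K u` -/
theorem SecSW.lift_ce (hu : u ∈ Cl Z K z a) {c : G} (hc : c ∈ Gp K (Cl Z K z a))
    (h1 : ∀ k ∈ ((K u).subgroupOf (Gp K (Cl Z K z a))).map φ, φ ⟨c, hc⟩ * k = k * φ ⟨c, hc⟩) : Ce c (K u) := by
  have huZ := t.clZ h ao hu
  -- the commutator is central
  have h2 : ∀ k ∈ K u, ∀ g ∈ Gp K (Cl Z K z a), g * (c * k * c⁻¹ * k⁻¹) = (c * k * c⁻¹ * k⁻¹) * g := by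
    intro k hk
    have hkX := le_Gp hu hk
    have h3 : c * k * c⁻¹ * k⁻¹ ∈ Gp K (Cl Z K z a) := mul_mem (mul_mem (mul_mem hc hkX) (inv_mem hc)) (inv_mem hkX)
    apply (s.eq_one_iff h3).1
    have h4 := h1 (φ ⟨k, hkX⟩) (mem_map_of_mem _ (mem_subgroupOf.2 hk))
    have h5 : φ ⟨c * k * c⁻¹ * k⁻¹, h3⟩ = φ ⟨c, hc⟩ * φ ⟨k, hkX⟩ * (φ ⟨c, hc⟩)⁻¹ * (φ ⟨k, hkX⟩)⁻¹ := by
      rw [← map_inv, ← map_inv, ← map_mul, ← map_mul, ← map_mul]
      rfl
    rw [h5, h4]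
    group
  -- it is a homomorphism
  have h3 : ∀ k ∈ K u, ∀ l ∈ K u, c * (k * l) * c⁻¹ * (k * l)⁻¹ = (c * k * c⁻¹ * k⁻¹) * (c * l * c⁻¹ * l⁻¹) := by
    intro k hk l hl
    have h4 := h2 l hl k⁻¹ (le_Gp hu (inv_mem hk))
    calc c * (k * l) * c⁻¹ * (k * l)⁻¹ = (c * k * c⁻¹) * ((c * l * c⁻¹ * l⁻¹) * k⁻¹) := by group
      _ = (c * k * c⁻¹) * (k⁻¹ * (c * l * c⁻¹ * l⁻¹)) := by rw [h4]
      _ = _ := by group
  obtain ⟨i, hi, j, hj, -, -, hji, -⟩ := h.exists_ij huZ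
  have hcom : (c * i * c⁻¹ * i⁻¹) * (c * j * c⁻¹ * j⁻¹) = (c * j * c⁻¹ * j⁻¹) * (c * i * c⁻¹ * i⁻¹) := by
    apply h2 j hj
    exact mul_mem (mul_mem (mul_mem hc (le_Gp hu hi)) (inv_mem hc)) (inv_mem (le_Gp hu hi))
  have h4 : c * u * c⁻¹ * u⁻¹ = 1 := by
    have h5 := h3 j hj i hi
    rw [hji, h3 u (h.mem u huZ) (i * j) (mul_mem hi hj), h3 i hi j hj, hcom] at h5
    exact mul_eq_right.1 h5
  have h5 : c * u = u * c := by
    calc c * u = (c * u * c⁻¹ * u⁻¹) * (u * c) := by group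
      _ = u * c := by rw [h4, one_mul]
  intro k hk
  have h6 : c * k * c⁻¹ * k⁻¹ ∈ K u := mul_mem (h.norm_mem huZ h5 hk) (inv_mem hk)
  have h7 := t.inf h ao hu h6 (h2 k hk)
  calc c * k = (c * k * c⁻¹ * k⁻¹) * (k * c) := by group
    _ = k * c := by rw [h7, one_mul]

/-- **Lemma B** -/
theorem SecSW.label : ∃ c, c * c = z ∧ Ce c (K z) ∧ Ce c (K a) ∧ Ce c (K b) := by
  set q := φ ⟨a, le_Gp (cl_refl z a) (h.mem a t.ha)⟩ with hq
  have haX : a ∈ Gp K (Cl Z K z a) := le_Gp (cl_refl z a) (h.mem a t.ha)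
  have hqZ : InZ OmY q := ⟨_, s.memA h ao t⟩
  obtain ⟨c0, c1, c2, hCC, -⟩ := s.sw.three q hqZ
  have hc0 : c0 ∈ CC OmY q := by rw [hCC]; exact Or.inl rfl
  obtain ⟨tt, l⟩ := hc0
  -- `tt = φ x`
  obtain ⟨P, hP⟩ := l.ti.2.1
  obtain ⟨x, hx, rfl⟩ := (s.mem P).1 hP.1
  have hxZ := t.clZ h ao hx
  have hxX : x ∈ Gp K (Cl Z K z a) := le_Gp hx (h.mem x hxZ)
  have htt : φ ⟨x, hxX⟩ = tt := by rw [← s.zz_eq h ao t hx]; exact hP.2
  have hxx := h.sq x hxZ
  -- `tt * c0 = φ (k2 * k3)`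
  obtain ⟨k, hk, m, hm, hkm, hr⟩ := s.mem_RZ h ao t l.wz
  have hcX : x * (k * m) ∈ Gp K (Cl Z K z a) := mul_mem hxX hkm
  set c := x * (k * m) with hc
  have hφc : φ ⟨c, hcX⟩ = c0 := by
    have h1 : φ ⟨c, hcX⟩ = φ ⟨x, hxX⟩ * φ ⟨k * m, hkm⟩ := by
      rw [← map_mul]
      rfl
    rw [h1, htt, ← hr, ← mul_assoc]
    have h2 : tt * tt = 1 := by
      rw [← htt, ← map_mul]
      exact (congrArg φ (Subtype.ext hxx)).trans (map_one φ)
    rw [h2, one_mul]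
  -- `c` centralises `K a`, `K b`
  have hca : Ce c (K a) := by
    refine s.lift_ce h ao t (cl_refl z a) hcX fun y hy => ?_
    rw [hφc]
    exact mem_CX.1 l.cz _ (s.memA h ao t) y hy
  have hcb : Ce c (K b) := by
    refine s.lift_ce h ao t (t.b_mem h ao) hcX fun y hy => ?_
    rw [hφc]
    exact mem_CX.1 l.cz _ (s.memB h ao t) y hy
  have hcz : Ce c (K z) := fun y hy => by
    have h1 : Gp K (Cl Z K z a) ≤ centralizer (K z : Set G) := Gp_le fun u hu k' hk' => by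
      rw [mem_centralizer_iff]
      intro w hw
      exact (t.cp h ao hu).2 w hw k' hk'
    exact (mem_centralizer_iff.1 (h1 hcX) y hy).symm
  -- `x ∉ {a, b}`
  have hxa : x ≠ a := by
    rintro rfl
    exact l.ti.2.2.1 htt
  have hxb : x ≠ b := by
    rintro rfl
    exact l.ti.2.2.1 ((s.phi_eq h ao t).symm.trans htt)
  have hxc : x * c = k * m := by rw [hc, ← mul_assoc, hxx, one_mul]
  have hxe : x = k * m * c⁻¹ := by rw [← hxc, mul_inv_cancel_right]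
  have hma : Ce m (K a) := fun y hy => (t.cab.2 y hy m hm).symm
  have hkb : Ce k (K b) := fun y hy => t.cab.2 k hk y hy
  have hk2 : k * k = a := by
    apply h.sq_eq t.ha hk
    · rintro rfl
      have h1 : Ce x (K a) := by
        rw [hxe, one_mul]
        exact hma.mul hca.inv
      rcases t.eq_or h ao hx h1 with h2 | h2
      · exact hxa h2
      · exact hxb h2
    · intro h0
      have h1 : Ce x (K a) := by
        rw [hxe, h0]
        exact (Ce.mul (fun y hy => (h.cent t.ha hy).symm) hma).mul hca.inv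
      rcases t.eq_or h ao hx h1 with h2 | h2
      · exact hxa h2
      · exact hxb h2
  have hm2 : m * m = b := by
    apply h.sq_eq t.hb hm
    · rintro rfl
      have h1 : Ce x (K b) := by
        rw [hxe, mul_one]
        exact hkb.mul hcb.inv
      rcases t.eq_or' h ao hx h1 with h2 | h2
      · exact hxa h2
      · exact hxb h2
    · intro h0
      have h1 : Ce x (K b) := by
        rw [hxe, h0]
        exact (hkb.mul fun y hy => (h.cent t.hb hy).symm).mul hcb.inv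
      rcases t.eq_or' h ao hx h1 with h2 | h2
      · exact hxa h2
      · exact hxb h2
  have hkm' : k * m = m * k := t.cab.2 k hk m hm
  have hck : c * k = k * c := hca k hk
  have hcm : c * m = m * c := hcb m hm
  have hcx : c * x = x * c := by
    have h1 : c * (k * m) = (k * m) * c := by
      rw [← mul_assoc, hck, mul_assoc, hcm, ← mul_assoc]
    calc c * x = c * (k * m) * c⁻¹ := by rw [hxe]; group
      _ = k * m := by rw [h1, mul_inv_cancel_right]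
      _ = x * c := hxc.symm
  refine ⟨c, ?_, hcz, hca, hcb⟩
  have h1 : (x * c) * (x * c) = c * c := by
    calc (x * c) * (x * c) = x * (c * x) * c := by group
      _ = (x * x) * (c * c) := by rw [hcx]; group
      _ = c * c := by rw [hxx, one_mul]
  rw [← h1, hxc]
  calc (k * m) * (k * m) = k * (m * k) * m := by group
    _ = (k * k) * (m * m) := by rw [← hkm']; group
    _ = z := by rw [hk2, hm2, t.mul h ao]

end sec

/-- **(M3)** -/
theorem Tri.false_of [Finite G] (h : W Z K) (ao : AllOne Z K) (t : Tri Z K z a b)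
    {Y₁ Y₂ : Type*} [Group Y₁] [Finite Y₁] [Group Y₂] [Finite Y₂]
    {φ₁ : ↥(Gp K (Cl Z K z a)) →* Y₁} {Om₁ : Set (Subgroup Y₁)} (s₁ : SecSW Z K z a φ₁ Om₁)
    {φ₂ : ↥(Gp K (Cl Z K a b)) →* Y₂} {Om₂ : Set (Subgroup Y₂)} (s₂ : SecSW Z K a b φ₂ Om₂)
    (hC : centralizer (generalizedFittingSubgroup Y₂ : Set Y₂) = ⊥)
    (hin : ∀ β : MulAut ↥(generalizedFittingSubgroup Y₂), ∃ x, β = MulAut.conj x) : False := by
  obtain ⟨c, hcc, hcz, hca, hcb⟩ := s₁.label h ao t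
  have t' := t.rot
  have hac : c * a = a * c := hca a (h.mem a t.ha)
  have hbc : c * b = b * c := hcb b (h.mem b t.hb)
  have hac' : c⁻¹ * a = a * c⁻¹ := hca.inv a (h.mem a t.ha)
  have hbc' : c⁻¹ * b = b * c⁻¹ := hcb.inv b (h.mem b t.hb)
  have hsub : Cl Z K a b ⊆ Z := fun u hu => t'.clZ h ao hu
  have key : ∀ d : G, d * a = a * d → d * b = b * d → ∀ u ∈ Cl Z K a b, d * u * d⁻¹ ∈ Cl Z K a b := by
    intro d hd1 hd2 u hu
    have h1 := cl_conj' h (t'.aO h ao) hd1 hu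
    rwa [hd2, mul_inv_cancel_right] at h1
  have k1 : ∀ x ∈ Gp K (Cl Z K a b), c * x * c⁻¹ ∈ Gp K (Cl Z K a b) := fun x hx =>
    gp_conj h hsub (key c hac hbc) hx
  have k2 : ∀ x ∈ Gp K (Cl Z K a b), c⁻¹ * x * c ∈ Gp K (Cl Z K a b) := fun x hx => by
    have h1 := gp_conj h hsub (key c⁻¹ hac' hbc') hx
    rwa [inv_inv] at h1
  let γ : MulAut ↥(Gp K (Cl Z K a b)) :=
    { toFun := fun x => ⟨c * x * c⁻¹, k1 x x.2⟩
      invFun := fun x => ⟨c⁻¹ * x * c, k2 x x.2⟩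
      left_inv := fun x => Subtype.ext (by show c⁻¹ * (c * (x : G) * c⁻¹) * c = x; group)
      right_inv := fun x => Subtype.ext (by show c * (c⁻¹ * (x : G) * c) * c⁻¹ = x; group)
      map_mul' := fun x y => Subtype.ext (by
        show c * ((x : G) * y) * c⁻¹ = (c * x * c⁻¹) * (c * y * c⁻¹); group) }
  have hγ : ∀ x, ((γ x : ↥(Gp K (Cl Z K a b))) : G) = c * x * c⁻¹ := fun _ => rfl
  obtain ⟨α, hα⟩ := exists_aut_of_ker s₂.surj γ (by
    rw [s₂.ker]
    exact characteristic_iff_map_eq.1 inferInstance γ)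
  have hab : Gp K (Cl Z K a b) = Gp K (Cl Z K a b) := rfl
  have hb0 : b ∈ Gp K (Cl Z K a b) := le_Gp (cl_refl a b) (h.mem b t.hb)
  have hz0 : z ∈ Gp K (Cl Z K a b) := le_Gp (t'.b_mem h ao) (h.mem z t.hz)
  have hqe : φ₂ ⟨z, hz0⟩ = φ₂ ⟨b, hb0⟩ := s₂.phi_eq h ao t'
  have hfix : ∀ {u : G}, Ce c (K u) → ∀ r ∈ ((K u).subgroupOf (Gp K (Cl Z K a b))).map φ₂, α r = r := by
    rintro u hu _ ⟨⟨r, hr⟩, hr1, rfl⟩
    rw [hα]
    congr 1
    apply Subtype.ext
    rw [hγ]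
    show c * r * c⁻¹ = r
    rw [hu r hr1, mul_inv_cancel_right]
  refine SW.not_sqrt (z := φ₂ ⟨b, hb0⟩) s₂.sw ⟨_, s₂.memA h ao t'⟩ hC hin α ?_ ?_
  · intro P hP r hr
    rcases s₂.mem_over h ao t' hP with h1 | h1
    · exact hfix hcb r (h1 ▸ hr)
    · exact hfix hcz r (h1 ▸ hr)
  · intro y
    obtain ⟨g, rfl⟩ := s₂.surj y
    rw [hα, hα, ← hqe, ← map_inv, ← map_mul, ← map_mul]
    congr 1
    apply Subtype.ext
    rw [hγ, hγ]
    show c * (c * (g : G) * c⁻¹) * c⁻¹ = z * g * z⁻¹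
    rw [← hcc]
    group

end Cfsg.Agent.Cit.Nil.Comp
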