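import Cfsg.Agent.Cit.Nil.Comp.TBOdd

/-!
# S1309 (6b), `r = 1`, COMP: the product situation with `m = 2` and two blocks, K-free: the end (helper61)

* `Ax K y u k` : `k` is an axis of `y` in `K u` (`y` acts on `K u` as `k`, or as a transposition inverting `k`);
* `TB.om_conj` : the members of `C(z u)` are conjugates of `z` and `u` in `C(z u)`;
* `TB.exists_fix` : Frattini's argument in `C(K u)`;
* `TB.exists_bu` : the block of `u` contains an element commuting with `u` and different from `u` (Z*);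
* `TB.false_of` : no element of `Z` is an N-partner of both `z` and `u`.
-/

set_option autoImplicit false
set_option linter.style.haveILetI false
set_option linter.unusedSectionVars false

namespace Cfsg.Agent.Cit.Nil.Comp

open Subgroup Cfsg Cfsg.Agent.Cit Cfsg.Agent.Cit.Nil.ROne Cfsg.Agent.StdEven.Syl

variable {G : Type*} [Group G]

/-- `k` is an axis of `y` in `K u` -/
def Ax (K : G → Subgroup G) (y u k : G) : Prop := Inn K y u k ∨ Trn K y u k

section ax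

variable {Z : Set G} {K : G → Subgroup G} (w : W Z K) {y u k l g : G}

theorem Ax.mem (h : Ax K y u k) : k ∈ K u := h.elim (fun h => h.mem) fun h => h.mem

theorem Ax.sq (h : Ax K y u k) : k * k = u := h.elim (fun h => h.sq) fun h => h.sq

include w

theorem Ax.conj (hu : u ∈ Z) (h : Ax K y u k) (hg : g * u = u * g) : Ax K (g * y * g⁻¹) u (g * k * g⁻¹) := by
  have h1 : g * u * g⁻¹ = u := by rw [hg, mul_inv_cancel_right]
  rcases h with h | h
  · left
    have h2 := w.inn_conj hu g h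
    rwa [h1] at h2
  · right
    have h2 := w.trn_conj hu g h
    rwa [h1] at h2

theorem Ax.uniq (hu : u ∈ Z) (h : Ax K y u k) (h' : Ax K y u l) : l = k ∨ l = k⁻¹ := by
  by_contra hcon
  push Not at hcon
  rcases h with h | h <;> rcases h' with h' | h'
  · have h1 := w.inv_of_ne hu h.mem h.sq h'.mem h'.sq hcon.1 hcon.2
    rw [← h.act l h'.mem, h'.act l h'.mem, mul_inv_cancel_right] at h1
    have h2 : l * l = 1 := by
      nth_rewrite 1 [h1]
      exact inv_mul_cancel l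
    rw [h'.sq] at h2
    exact w.ne u hu h2
  · exact w.not_inn_trn hu h h'
  · exact w.not_inn_trn hu h' h
  · exact (h.ne l h'.mem h'.sq hcon.1 hcon.2).2 h'.inv

theorem exists_ax (hy : y ∈ Z) (hu : u ∈ Z) (h : NP K y u) : ∃ k, Ax K y u k := by
  rcases w.np_cases hy hu h with ⟨p, p', -, h1⟩ | ⟨p, p', -, h1⟩
  · exact ⟨p', Or.inl h1⟩
  · exact ⟨p', Or.inr h1⟩

/-- the third axis -/
theorem third_axis (hu : u ∈ Z) {k l m : G} (hk : k ∈ K u) (hkk : k * k = u) (hl : l ∈ K u) (hll : l * l = u)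
    (h1 : l ≠ k) (h2 : l ≠ k⁻¹) (hm : m ∈ K u) (hmm : m * m = u) (h3 : m ≠ k) (h4 : m ≠ k⁻¹) (h5 : m ≠ l)
    (h6 : m ≠ l⁻¹) : m = k * l ∨ m = (k * l)⁻¹ := by
  have key : ∀ p q r : QEight.Q, p * p = QuaternionGroup.a 2 → q * q = QuaternionGroup.a 2 →
      r * r = QuaternionGroup.a 2 → q ≠ p → q ≠ p⁻¹ → r ≠ p → r ≠ p⁻¹ → r ≠ q → r ≠ q⁻¹ →
      r = p * q ∨ r = (p * q)⁻¹ := by decide
  have hsq : ∀ {y : G} (hy : y ∈ K u), y * y = u → w.e hu ⟨y, hy⟩ * w.e hu ⟨y, hy⟩ = QuaternionGroup.a 2 := by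
    intro y hy h4
    rw [← w.e_mul hu hy hy, ← w.e_z hu]
    exact congrArg (w.e hu) (Subtype.ext h4)
  have ne : ∀ {a c : G} (ha : a ∈ K u) (hc : c ∈ K u), a ≠ c → w.e hu ⟨a, ha⟩ ≠ w.e hu ⟨c, hc⟩ :=
    fun ha hc h7 h8 => h7 (w.e_inj hu ha hc h8)
  have ne' : ∀ {a c : G} (ha : a ∈ K u) (hc : c ∈ K u), a ≠ c⁻¹ → w.e hu ⟨a, ha⟩ ≠ (w.e hu ⟨c, hc⟩)⁻¹ :=
    fun ha hc h7 h8 => h7 (w.e_inj hu ha (inv_mem hc) (by rw [h8, w.e_inv hu hc]))
  rcases key _ _ _ (hsq hk hkk) (hsq hl hll) (hsq hm hmm) (ne hl hk h1) (ne' hl hk h2) (ne hm hk h3) (ne' hm hk h4)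
    (ne hm hl h5) (ne' hm hl h6) with h7 | h7
  · left
    rw [← w.e_mul hu hk hl] at h7
    exact w.e_inj hu _ _ h7
  · right
    rw [← w.e_mul hu hk hl, ← w.e_inv hu (mul_mem hk hl)] at h7
    exact w.e_inj hu _ _ h7

end ax

namespace TB

variable {Z : Set G} {K : G → Subgroup G} {z u : G} [Finite G] (t : TB Z K z u) {v x y c b g k : G}

include t

/-- a Sylow subgroup with the members `K z`, `K u` -/
theorem exists_S : ∃ S : Sylow 2 G, z ∈ CS Z K (S : Subgroup G) ∧ u ∈ CS Z K (S : Subgroup G) ∧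
    ∀ v ∈ CS Z K (S : Subgroup G), v = z ∨ v = u := by
  obtain ⟨S, h1, h2⟩ := t.w.exists_sylow_of_cp t.hz t.hu t.cp
  refine ⟨S, h1, h2, fun v hv => ?_⟩
  by_contra hcon
  push Not at hcon
  exact t.n3 v hv.1 z t.hz u t.hu (t.w.com hv.1 t.hz S.isPGroup' hv.2 h1.2 hcon.1)
    (t.w.com hv.1 t.hu S.isPGroup' hv.2 h2.2 hcon.2) t.cp

/-- the members of `C(z u)` are conjugates of `z` and `u` in `C(z u)` -/
theorem om_conj (hv : v ∈ Z) (hc : Cen K (z * u) v) :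
    ∃ g, g * (z * u) = z * u * g ∧ (v = g * z * g⁻¹ ∨ v = g * u * g⁻¹) := by
  obtain ⟨S, h1, h2, h3⟩ := t.exists_S
  have hcS : ∀ s ∈ (S : Subgroup G), ∀ y ∈ CS Z K (S : Subgroup G), s * y * s⁻¹ ∈ CS Z K (S : Subgroup G) := by
    intro s hs y hy
    refine ⟨t.w.conjZ y hy.1 s, ?_⟩
    rw [t.w.conjK y hy.1]
    intro k hk
    have h2 := mul_mem (mul_mem hs (hy.2 (mem_cj.1 hk))) (inv_mem hs)
    simpa [mul_assoc] using h2
  have hSC : (S : Subgroup G) ≤ centralizer {z * u} := by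
    intro s hs
    rw [mem_centralizer_singleton_iff]
    have inj : s * z * s⁻¹ ≠ s * u * s⁻¹ := fun h5 => t.cp.1 (mul_left_cancel (mul_right_cancel h5))
    have h5 : s * (z * u) * s⁻¹ = z * u := by
      have e : s * (z * u) * s⁻¹ = (s * z * s⁻¹) * (s * u * s⁻¹) := by group
      rw [e]
      rcases h3 _ (hcS s hs z h1) with h6 | h6 <;> rcases h3 _ (hcS s hs u h2) with h7 | h7
      · exact absurd (h6.trans h7.symm) inj
      · rw [h6, h7]
      · rw [h6, h7, ← t.comm]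
      · exact absurd (h6.trans h7.symm) inj
    exact mul_inv_eq_iff_eq_mul.1 h5
  have hKv : K v ≤ centralizer {z * u} := fun k hk => mem_centralizer_singleton_iff.2 (hc k hk).symm
  have hSy : IsSyl (S : Subgroup G) (centralizer {z * u}) := (isSyl_top_of_sylow S).mono hSC le_top
  obtain ⟨n, hn, hnS⟩ := hSy.exists_conj (t.w.two hv) hKv
  have hn1 : n⁻¹ * (z * u) = z * u * n⁻¹ := mem_centralizer_singleton_iff.1 (inv_mem hn)
  have h4 : n * v * n⁻¹ ∈ CS Z K (S : Subgroup G) := by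
    refine ⟨t.w.conjZ v hv n, ?_⟩
    rw [t.w.conjK v hv]
    intro k hk
    have h5 := hnS _ (mem_cj.1 hk)
    have e : n * (n⁻¹ * k * n) * n⁻¹ = k := by group
    rwa [e] at h5
  have e : v = n⁻¹ * (n * v * n⁻¹) * n⁻¹⁻¹ := by group
  refine ⟨n⁻¹, hn1, ?_⟩
  rcases h3 _ h4 with h5 | h5
  · left
    rw [h5] at e
    exact e
  · right
    rw [h5] at e
    exact e

/-- Frattini's argument in `C(K u)` -/
theorem exists_fix (hg : g * u = u * g) : ∃ n, Cen K n u ∧ n * (g * z * g⁻¹) * n⁻¹ = z := by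
  set D := centralizer (K u : Set G) with hD
  have hle : ∀ {v : G}, CP K v u → K v ≤ D := fun h1 a ha => mem_centralizer_iff.2 fun b hb => (h1.2 a ha b hb).symm
  obtain ⟨R, hR, hzR⟩ := exists_isSyl (t.w.two t.hz) (hle t.cp)
  have hgu : g * u * g⁻¹ = u := by rw [hg, mul_inv_cancel_right]
  have h1 : CP K (g * z * g⁻¹) u := by
    have h2 := t.w.cp_conj t.hz t.hu t.cp g
    rwa [hgu] at h2
  have hvZ : g * z * g⁻¹ ∈ Z := t.w.conjZ z t.hz g
  obtain ⟨n, hn, hnR⟩ := hR.exists_conj (t.w.two hvZ) (hle h1)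
  have hn' : Cen K n u := fun k hk => (mem_centralizer_iff.1 hn k hk).symm
  refine ⟨n, hn', ?_⟩
  set v := n * (g * z * g⁻¹) * n⁻¹ with hv
  have hvZ' : v ∈ Z := t.w.conjZ _ hvZ n
  have hKv : K v ≤ R := by
    rw [hv, t.w.conjK _ hvZ]
    intro k hk
    have h5 := hnR _ (mem_cj.1 hk)
    have e : n * (n⁻¹ * k * n) * n⁻¹ = k := by group
    rwa [e] at h5
  by_contra hne
  have hvu : CP K v u := by
    have h2 := t.w.cp_conj hvZ t.hu h1 n
    have h3 : n * u * n⁻¹ = u := by rw [hn' u (t.w.mem u t.hu), mul_inv_cancel_right]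
    rwa [h3] at h2
  exact t.n3 v hvZ' z t.hz u t.hu (t.w.com hvZ' t.hz hR.two hKv hzR hne) hvu t.cp

/-- (C3) in `C(z) ∩ C(u)` -/
theorem c3' (c3 : C3 Z K) (hk : k ∈ K u) (hkk : k * k = u) :
    ∃ d, d * z = z * d ∧ d * u = u * d ∧ d * k * d⁻¹ ≠ k ∧ d * k * d⁻¹ ≠ k⁻¹ := by
  obtain ⟨g, hg, h1, h2⟩ := c3 u t.hu k hk hkk
  obtain ⟨n, hn, h3⟩ := t.exists_fix hg
  have hnu := hn u (t.w.mem u t.hu)
  have h4 : n * g * k * (n * g)⁻¹ = g * k * g⁻¹ := by
    have h5 := hn _ (t.w.norm_mem t.hu hg hk)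
    calc n * g * k * (n * g)⁻¹ = n * (g * k * g⁻¹) * n⁻¹ := by group
      _ = g * k * g⁻¹ := by rw [h5, mul_inv_cancel_right]
  refine ⟨n * g, ?_, ?_, by rwa [h4], by rwa [h4]⟩
  · rw [← mul_inv_eq_iff_eq_mul]
    calc n * g * z * (n * g)⁻¹ = n * (g * z * g⁻¹) * n⁻¹ := by group
      _ = z := h3
  · rw [mul_assoc, hg, ← mul_assoc, hnu, mul_assoc]

/-- conjugation of `BU` by `C(z) ∩ C(u)` -/
theorem bu_conj' (hc : BU Z K z u c) {d : G} (h1 : d * z = z * d) (h2 : d * u = u * d) :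
    BU Z K z u (d * c * d⁻¹) := by
  have e1 : d * z * d⁻¹ = z := by rw [h1, mul_inv_cancel_right]
  have e2 : d * u * d⁻¹ = u := by rw [h2, mul_inv_cancel_right]
  have h3 := t.w.cp_conj hc.1 t.hz hc.2.1 d
  have h4 := t.w.np_conj hc.1 t.hu d hc.2.2
  rw [e1] at h3
  rw [e2] at h4
  exact ⟨t.w.conjZ c hc.1 d, h3, h4⟩

/-- elements of `BU` with the axis `±k` and with another axis -/
theorem exists_axes (c3 : C3 Z K) (hc : BU Z K z u c) (hk : k ∈ K u) (hkk : k * k = u) :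
    ∃ c₁ c₂ k₁ k₂, BU Z K z u c₁ ∧ BU Z K z u c₂ ∧ Ax K c₁ u k₁ ∧ Ax K c₂ u k₂ ∧ (k₁ = k ∨ k₁ = k⁻¹) ∧
      k₂ ≠ k ∧ k₂ ≠ k⁻¹ := by
  obtain ⟨l, hl⟩ := exists_ax t.w hc.1 t.hu hc.2.2
  have inv_ne : ∀ {a b : G}, a ≠ b⁻¹ → b ≠ a⁻¹ := fun h1 h2 => h1 (by rw [h2, inv_inv])
  by_cases h1 : l = k ∨ l = k⁻¹
  · obtain ⟨d, d1, d2, d3, d4⟩ := t.c3' c3 hl.mem hl.sq
    refine ⟨c, d * c * d⁻¹, l, d * l * d⁻¹, hc, t.bu_conj' hc d1 d2, hl, hl.conj t.w t.hu d2, h1, ?_, ?_⟩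
    · rcases h1 with h1 | h1
      · rwa [h1] at d3 ⊢
      · rw [h1, inv_inv] at d4
        rwa [h1]
    · rcases h1 with h1 | h1
      · rwa [h1] at d4 ⊢
      · rw [h1] at d3
        rwa [h1]
  · push Not at h1
    -- it is enough to find `c₁`
    suffices h2 : ∃ d, d * z = z * d ∧ d * u = u * d ∧ (d * l * d⁻¹ = k ∨ d * l * d⁻¹ = k⁻¹) by
      obtain ⟨d, d1, d2, d3⟩ := h2
      exact ⟨d * c * d⁻¹, c, d * l * d⁻¹, l, t.bu_conj' hc d1 d2, hc, hl.conj t.w t.hu d2, hl, d3, h1.1, h1.2⟩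
    obtain ⟨d, d1, d2, d3, d4⟩ := t.c3' c3 hl.mem hl.sq
    obtain ⟨e, e1, e2, e3, e4⟩ := t.c3' c3 hk hkk
    by_cases h2 : d * l * d⁻¹ = k ∨ d * l * d⁻¹ = k⁻¹
    · exact ⟨d, d1, d2, h2⟩
    push Not at h2
    have inv1 : ∀ {a b : G}, a * b = b * a → a⁻¹ * b = b * a⁻¹ := fun {a b} h3 => by
      rw [inv_mul_eq_iff_eq_mul, ← mul_assoc, h3, mul_inv_cancel_right]
    have hem : e * k * e⁻¹ ∈ K u := t.w.norm_mem t.hu e2 hk
    have hesq : e * k * e⁻¹ * (e * k * e⁻¹) = u := by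
      calc e * k * e⁻¹ * (e * k * e⁻¹) = e * (k * k) * e⁻¹ := by group
        _ = u := by rw [hkk, e2, mul_inv_cancel_right]
    have hdm : d * l * d⁻¹ ∈ K u := t.w.norm_mem t.hu d2 hl.mem
    have hdsq : d * l * d⁻¹ * (d * l * d⁻¹) = u := by
      calc d * l * d⁻¹ * (d * l * d⁻¹) = d * (l * l) * d⁻¹ := by group
        _ = u := by rw [hl.sq, d2, mul_inv_cancel_right]
    by_cases h3 : e * k * e⁻¹ = l ∨ e * k * e⁻¹ = l⁻¹
    · refine ⟨e⁻¹, inv1 e1, inv1 e2, ?_⟩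
      rcases h3 with h3 | h3
      · left; rw [← h3]; group
      · right
        have h4 : l = (e * k * e⁻¹)⁻¹ := by rw [h3, inv_inv]
        rw [h4]; group
    push Not at h3
    -- both are on the third axis
    have q1 := third_axis t.w t.hu hk hkk hl.mem hl.sq h1.1 h1.2 hem hesq e3 e4 h3.1 h3.2
    have q2 := third_axis t.w t.hu hk hkk hl.mem hl.sq h1.1 h1.2 hdm hdsq h2.1 h2.2 d3 d4
    refine ⟨e⁻¹ * d, ?_, ?_, ?_⟩
    · rw [mul_assoc, d1, ← mul_assoc, inv1 e1, mul_assoc]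
    · rw [mul_assoc, d2, ← mul_assoc, inv1 e2, mul_assoc]
    · have h4 : d * l * d⁻¹ = e * k * e⁻¹ ∨ d * l * d⁻¹ = (e * k * e⁻¹)⁻¹ := by
        rcases q1 with q1 | q1 <;> rcases q2 with q2 | q2
        · left; rw [q1, q2]
        · right; rw [q1, q2]
        · right; rw [q1, q2, inv_inv]
        · left; rw [q1, q2]
      have h5 : e⁻¹ * d * l * (e⁻¹ * d)⁻¹ = e⁻¹ * (d * l * d⁻¹) * e := by group
      rw [h5]
      rcases h4 with h4 | h4
      · left; rw [h4]; group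
      · right; rw [h4]; group

/-- the block of `u` contains an element commuting with `u` and different from `u` -/
theorem exists_bu (cf : ∀ N : Subgroup G, N ≤ centralizer {z} → centralizer {z} ≤ normalizer (N : Set G) →
      Odd (Nat.card N) → N = ⊥)
    (hn : ∃ g, g * z = z * g ∧ g * u ≠ u * g) : ∃ c, BU Z K z u c := by
  by_contra hcon
  push Not at hcon
  -- conjugates of `u` in `C(z)`
  have hz1 : ∀ {g : G}, g * z = z * g → CP K (g * u * g⁻¹) z := fun {g} hg => by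
    have h1 := t.w.cp_conj t.hu t.hz t.cp.symm g
    rwa [hg, mul_inv_cancel_right] at h1
  have key : ∀ {g : G}, g * z = z * g → u * (g * u * g⁻¹) = g * u * g⁻¹ * u → g * u * g⁻¹ = u := by
    intro g hg h1
    by_contra hne
    exact hcon _ (t.bu_of (t.w.conjZ u t.hu g) (hz1 hg) h1.symm hne)
  obtain ⟨g, hg, hgu⟩ := hn
  apply hgu
  have hzpow : ∀ x, x ∈ zpowers z ↔ x = 1 ∨ x = z := by
    intro x
    constructor
    · intro hx
      obtain ⟨n, rfl⟩ := mem_zpowers_iff.1 hx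
      rcases Int.even_or_odd' n with ⟨k, rfl | rfl⟩
      · left
        rw [zpow_mul, zpow_two, t.zz, one_zpow]
      · right
        rw [zpow_add, zpow_mul, zpow_two, t.zz, one_zpow, one_mul, zpow_one]
    · rintro (rfl | rfl)
      · exact one_mem _
      · exact mem_zpowers _
  have hm : ∀ {x : G}, x ∈ centralizer ({z} : Set G) ↔ x * z = z * x := mem_centralizer_singleton_iff
  have h1 : u * (g * u * g⁻¹) = g * u * g⁻¹ * u := by
    refine zstar_four (X := centralizer {z}) (V := zpowers z) ?_ ?_ (hm.2 t.comm.symm) t.uu ?_ ?_ ?_ (hm.2 hg)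
    · intro v hv x hx
      rcases (hzpow v).1 hv with rfl | rfl
      · rw [one_mul, mul_one]
      · exact (hm.1 hx).symm
    · exact (t.w.two t.hz).to_le (by rw [zpowers_le]; exact t.w.mem z t.hz)
    · intro h2
      rcases (hzpow u).1 h2 with h3 | h3
      · exact t.w.ne u t.hu h3
      · exact t.cp.1 h3.symm
    · intro x hx h2
      have hx' := hm.1 hx
      set v := x * u * x⁻¹ with hv
      have hvZ : v ∈ Z := t.w.conjZ u t.hu x
      have hvz : v * z = z * v := t.w.comm_of_cp hvZ t.hz (hz1 hx')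
      rcases (hzpow _).1 h2 with h3 | h3
      · rw [mul_inv_eq_one] at h3
        have h4 : v = u := key hx' h3
        rw [h4, mul_inv_cancel]
        exact one_mem _
      · -- `u v = z v u`
        exfalso
        rw [mul_inv_eq_iff_eq_mul] at h3
        have h4 : v * u * v⁻¹ = z * u := by
          have h5 : v * u = z * (u * v) := by rw [h3, ← mul_assoc, t.zz, one_mul]
          rw [h5]; group
        have h5 : z * u ∈ Z := by
          rw [← h4]
          exact t.w.conjZ u t.hu v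
        rcases (t.w.cen_iff t.hz h5).1 t.cen_z with h6 | h6
        · exact t.w.ne u t.hu (mul_eq_left.1 h6.symm)
        · rcases (t.w.cen_iff t.hu h5).1 t.cen_u with h7 | h7
          · exact t.w.ne z t.hz (mul_eq_right.1 h7.symm)
          · exact t.n3 _ h5 z t.hz u t.hu h6.symm h7.symm t.cp
    · intro N hN hNn hNo n hn
      have h2 : N = ⊥ := cf N hN (fun x hx => by
        rw [mem_normalizer_iff]
        intro y
        refine ⟨fun hy => hNn x hx y hy, fun hy => ?_⟩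
        have h3 := hNn x⁻¹ (inv_mem hx) _ hy
        have e : x⁻¹ * (x * y * x⁻¹) * x⁻¹⁻¹ = y := by group
        rwa [e] at h3) hNo
      rw [h2, mem_bot] at hn
      rw [hn, mul_one, one_mul]
  exact mul_inv_eq_iff_eq_mul.1 (key hg h1)

/-- **no element of `Z` is an N-partner of both `z` and `u`** -/
theorem false_of (c3 : C3 Z K) (hc : BU Z K z u c) (hx : x ∈ Z) (n1 : NP K x z) (n2 : NP K x u) : False := by
  obtain ⟨g, hg, hxg⟩ := t.om_conj hx (t.om_of_np hx n1 n2)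
  have hgu' := t.conj_u hg
  -- `g` does not stabilise `{z, u}`
  have hgz : g * z * g⁻¹ ≠ z := by
    intro h1
    rw [h1, t.zuz] at hgu'
    rcases hxg with h2 | h2
    · exact n1.1 (h2.trans h1)
    · exact n2.1 (h2.trans hgu')
  have hgu : g * z * g⁻¹ ≠ u := by
    intro h1
    rw [h1, t.zuu] at hgu'
    rcases hxg with h2 | h2
    · exact n2.1 (h2.trans h1)
    · exact n1.1 (h2.trans hgu')
  obtain ⟨k, hk⟩ := exists_ax t.w hx t.hu n2
  obtain ⟨c₁, c₂, k₁, k₂, b1, b2, a1, a2, hk1, hk2, hk2'⟩ := t.exists_axes c3 hc hk.mem hk.sq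
  obtain ⟨c', hc'⟩ : ∃ c', c' = g * c * g⁻¹ := ⟨_, rfl⟩
  have hcZ : c' ∈ Z := by rw [hc']; exact t.w.conjZ c hc.1 g
  have hch : c' * (z * u) = z * u * c' := by
    have h1 : g⁻¹ * (z * u) = z * u * g⁻¹ := by
      rw [inv_mul_eq_iff_eq_mul, ← mul_assoc, hg, mul_inv_cancel_right]
    calc c' * (z * u) = g * c * (g⁻¹ * (z * u)) := by rw [hc']; group
      _ = g * (c * (z * u)) * g⁻¹ := by rw [h1]; group
      _ = (g * (z * u)) * c * g⁻¹ := by rw [t.bu_comm_h hc]; group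
      _ = z * u * c' := by rw [hg, hc']; group
  -- the involutions interchanging `c₁` (`c₂`) and `c'`
  have swap : ∀ {c₁ : G}, BU Z K z u c₁ → ∃ y, y * y = 1 ∧ y * c₁ * y⁻¹ = c' ∧ y * c' * y⁻¹ = c₁ ∧
      y * (z * u) = z * u * y ∧ y * z * y⁻¹ = g * z * g⁻¹ ∧ y * (g * z * g⁻¹) * y⁻¹ = z := by
    intro c₁ b1
    have h1 := t.odd_of b1 hc hg hgz hgu
    rw [← hc'] at h1
    obtain ⟨y, hyy, h2, h3, h4⟩ := exists_swap (t.w.sq c₁ b1.1) (t.w.sq c' hcZ) h1
    have hyh : y * (z * u) = z * u * y := (h4 (z * u) (t.bu_comm_h b1).symm hch.symm).symm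
    have h5 : g⁻¹ * y * c₁ * (g⁻¹ * y)⁻¹ = c := by
      calc g⁻¹ * y * c₁ * (g⁻¹ * y)⁻¹ = g⁻¹ * (y * c₁ * y⁻¹) * g := by group
        _ = g⁻¹ * (g * c * g⁻¹) * g := by rw [h2, hc']
        _ = c := by group
    have h6 : g⁻¹ * y * (z * u) = z * u * (g⁻¹ * y) := by
      have h7 : g⁻¹ * (z * u) = z * u * g⁻¹ := by
        rw [inv_mul_eq_iff_eq_mul, ← mul_assoc, hg, mul_inv_cancel_right]
      rw [mul_assoc, hyh, ← mul_assoc, h7, mul_assoc]
    have h7 := t.bu_conj b1 h6 (by rw [h5]; exact hc)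
    have h8 : y * z * y⁻¹ = g * z * g⁻¹ := by
      calc y * z * y⁻¹ = g * (g⁻¹ * y * z * (g⁻¹ * y)⁻¹) * g⁻¹ := by group
        _ = g * z * g⁻¹ := by rw [h7]
    refine ⟨y, hyy, h2, h3, hyh, h8, ?_⟩
    rw [← h8]
    calc y * (y * z * y⁻¹) * y⁻¹ = (y * y) * z * (y * y)⁻¹ := by group
      _ = z := by rw [hyy]; group
  obtain ⟨y₁, -, p1, -, p3, p4, p5⟩ := swap b1
  obtain ⟨y₂, -, -, q2, q3, q4, q5⟩ := swap b2
  obtain ⟨d, hd⟩ : ∃ d, d = y₂ * y₁ := ⟨_, rfl⟩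
  have hdh : d * (z * u) = z * u * d := by rw [hd, mul_assoc, p3, ← mul_assoc, q3, mul_assoc]
  have hdz : d * z * d⁻¹ = z := by
    calc d * z * d⁻¹ = y₂ * (y₁ * z * y₁⁻¹) * y₂⁻¹ := by rw [hd]; group
      _ = z := by rw [p4, q5]
  have hdz' : d * z = z * d := mul_inv_eq_iff_eq_mul.1 hdz
  have hdu : d * u = u * d := t.comm_u hdh hdz'
  have hdv : d * (g * z * g⁻¹) * d⁻¹ = g * z * g⁻¹ := by
    calc d * (g * z * g⁻¹) * d⁻¹ = y₂ * (y₁ * (g * z * g⁻¹) * y₁⁻¹) * y₂⁻¹ := by rw [hd]; group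
      _ = g * z * g⁻¹ := by rw [p5, q4]
  have hdv' : d * (g * z * g⁻¹) = g * z * g⁻¹ * d := mul_inv_eq_iff_eq_mul.1 hdv
  have hdx : d * x = x * d := by
    rcases hxg with h2 | h2
    · rw [h2]; exact hdv'
    · rw [h2, hgu', ← mul_assoc, hdh, mul_assoc, hdv', ← mul_assoc]
  have hdc : d * c₁ * d⁻¹ = c₂ := by
    calc d * c₁ * d⁻¹ = y₂ * (y₁ * c₁ * y₁⁻¹) * y₂⁻¹ := by rw [hd]; group
      _ = c₂ := by rw [p1, q2]
  have r1 := hk.conj t.w t.hu hdu
  rw [hdx, mul_inv_cancel_right] at r1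
  have r2 := a1.conj t.w t.hu hdu
  rw [hdc] at r2
  have r3 := hk.uniq t.w t.hu r1
  have r4 := r2.uniq t.w t.hu a2
  have r5 : d * k₁ * d⁻¹ = k ∨ d * k₁ * d⁻¹ = k⁻¹ := by
    rcases hk1 with h1 | h1
    · rw [h1]; exact r3
    · have h2 : d * k₁ * d⁻¹ = (d * k * d⁻¹)⁻¹ := by rw [h1]; group
      rw [h2]
      rcases r3 with h3 | h3
      · rw [h3]; exact Or.inr rfl
      · rw [h3, inv_inv]; exact Or.inl rfl
  rcases r4 with h1 | h1 <;> rcases r5 with h2 | h2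
  · exact hk2 (h1.trans h2)
  · exact hk2' (h1.trans h2)
  · exact hk2' (by rw [h1, h2])
  · exact hk2 (by rw [h1, h2, inv_inv])

end TB

end Cfsg.Agent.Cit.Nil.Comp
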