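import Cfsg.Agent.Cit.Nil.AN.Cls
import Cfsg.Agent.Cit.Nil.ROne.Base
import Cfsg.Agent.Cit.NilComp

/-!
# S1309 (6b), `r = 1`, COMP: classes in `C(z)` and the exchange lemma (helper454, bb R18 #15492 (E))

`Om Z K s` : the members centralised by `s`; `Cl Z K s u` : the class of `u` (connected component of the
non-commuting graph); `O₂(C(s)) = oP 2 (centralizer {s})`; a class is nil if it is contained in `O₂(C(s))`.

* `nil_cl` : nil is constant on classes; `L0`;
* `nil_down` : a class contained in a 2-group is nil; `nil_of_comm` : a class whose members commute with `u` is nil;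
* `exch` : **(E)** `(z, a)` a C-pair, `u ∈ Om z` not nil, `a ∉ cl_z(u)`: then `cl_a(u) = cl_z(u)` is a non-nil class of
  `C(a)` not containing `z`;
* `NN Z K s` : the set of non-nil classes; `NN_diff` : `N(z) \ {cl_z(a)} = N(a) \ {cl_a(z)}`; `nil_symm`.
-/

set_option autoImplicit false
set_option linter.style.haveILetI false
set_option linter.unusedSectionVars false

namespace Cfsg.Agent.Cit.Nil.Comp

open Subgroup Cfsg Cfsg.Agent.Cit Cfsg.Agent.Cit.Nil.ROne Cfsg.Agent.Cit.Nil.AN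
open Cfsg.Agent.OddOrderLocal.NilParts Cfsg.Agent.StdEven.Syl

variable {G : Type*} [Group G] {Z : Set G} {K : G → Subgroup G} {z u v x y g s a b c : G}

/-- the class of `u` is contained in that of `a`-members if all its elements are -/
theorem cl_mono (hu : Cl Z K s u ⊆ Om Z K a) : Cl Z K s u ⊆ Cl Z K a u := by
  intro v hv
  have hv' : Relation.ReflTransGen (St Z K s) u v := hv
  clear hv
  induction hv' with
  | refl => exact cl_refl _ _
  | tail h1 h2 ih => exact cl_step ih (hu (Relation.ReflTransGen.tail h1 h2)) h2.2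

/-- the set of non-nil classes of `C(s)` -/
def NN (Z : Set G) (K : G → Subgroup G) (s : G) : Set (Set G) :=
  {A | ∃ u ∈ Om Z K s, u ∉ oP 2 (centralizer {s}) ∧ A = Cl Z K s u}

/-- the dichotomy NIL / ONE for the classes of `C(s)` -/
def TPs (Z : Set G) (K : G → Subgroup G) (s : G) : Prop :=
  ∀ u ∈ Om Z K s, u ∈ oP 2 (centralizer {s}) ∨ OneC Z K s u

section basic

variable (h : W Z K)

include h

theorem not_cm_self (hz : z ∈ Z) : ¬ Cm (K z) (K z) := by
  intro h1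
  obtain ⟨i, hi, j, hj, -, -, hji, -⟩ := h.exists_ij hz
  apply h.ne z hz
  rw [h1 i hi j hj] at hji
  exact right_eq_mul.1 hji

theorem ne_of_cm (hz : z ∈ Z) (hc : Cm (K z) (K u)) : z ≠ u := by
  rintro rfl
  exact not_cm_self h hz hc

theorem cp_iff (hz : z ∈ Z) : CP K z u ↔ Cm (K z) (K u) := ⟨fun h1 => h1.2, fun h1 => ⟨ne_of_cm h hz h1, h1⟩⟩

theorem ce_of_cm (hu : u ∈ Z) (hc : Cm (K z) (K u)) : Ce u (K z) := fun k hk => (hc k hk u (h.mem u hu)).symm

theorem ce_self (hz : z ∈ Z) : Ce z (K z) := fun _ hk => (h.cent hz hk).symm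

theorem cm_conj (hz : z ∈ Z) (hu : u ∈ Z) (g : G) (hc : Cm (K z) (K u)) :
    Cm (K (g * z * g⁻¹)) (K (g * u * g⁻¹)) := by
  rw [h.conjK z hz, h.conjK u hu]
  exact hc.cj g

theorem cm_conj_iff (hz : z ∈ Z) (hu : u ∈ Z) (g : G) :
    Cm (K (g * z * g⁻¹)) (K (g * u * g⁻¹)) ↔ Cm (K z) (K u) := by
  refine ⟨fun h1 => ?_, cm_conj h hz hu g⟩
  have h2 := cm_conj h (h.conjZ z hz g) (h.conjZ u hu g) g⁻¹ h1
  have e : ∀ x : G, g⁻¹ * (g * x * g⁻¹) * g⁻¹⁻¹ = x := fun x => by group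
  rwa [e, e] at h2

theorem om_conj (hz : z ∈ Om Z K s) (g : G) : g * z * g⁻¹ ∈ Om Z K (g * s * g⁻¹) := by
  refine ⟨h.conjZ z hz.1 g, ?_⟩
  rw [h.conjK z hz.1]
  exact hz.2.cj g

theorem cl_conj (hz : z ∈ Om Z K s) (hu : u ∈ Cl Z K s z) (g : G) :
    g * u * g⁻¹ ∈ Cl Z K (g * s * g⁻¹) (g * z * g⁻¹) := by
  have hu' : Relation.ReflTransGen (St Z K s) z u := hu
  clear hu
  induction hu' with
  | refl => exact cl_refl _ _
  | tail h1 h2 ih =>
    apply cl_step ih (om_conj h h2.1 g)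
    intro h3
    exact h2.2 ((cm_conj_iff h (cl_sub hz h1).1 h2.1.1 g).1 h3)

/-- conjugation permutes the classes of `C(s)` -/
theorem cl_conj' (hz : z ∈ Om Z K s) (hg : g * s = s * g) (hu : u ∈ Cl Z K s z) :
    g * u * g⁻¹ ∈ Cl Z K s (g * z * g⁻¹) := by
  have h1 := cl_conj h hz hu g
  rwa [hg, mul_inv_cancel_right] at h1

theorem om_conj' (hz : z ∈ Om Z K s) (hg : g * s = s * g) : g * z * g⁻¹ ∈ Om Z K s := by
  have h1 := om_conj h hz g
  rwa [hg, mul_inv_cancel_right] at h1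

theorem gp_conj {A : Set G} (hA : A ⊆ Z) (hc : ∀ u ∈ A, c * u * c⁻¹ ∈ A) {x : G} (hx : x ∈ Gp K A) :
    c * x * c⁻¹ ∈ Gp K A := by
  have h1 : Gp K A ≤ (Gp K A).comap (MulAut.conj c).toMonoidHom := Gp_le fun u hu k hk => by
    show c * k * c⁻¹ ∈ Gp K A
    have h2 : c * k * c⁻¹ ∈ K (c * u * c⁻¹) := by
      rw [h.conjK u (hA hu)]
      exact conj_mem_cj hk
    exact le_Gp (hc u hu) h2
  exact h1 hx

variable [Finite G]

/-- L0 -/
theorem L0 {N : Subgroup G} (hx : x ∈ Z) (hN : IsPGroup 2 N) (hK : K x ≤ normalizer (N : Set G)) (hxN : x ∉ N)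
    {n : G} (hn : n ∈ N) : Ce n (K x) := fun k hk =>
  (h.hyp.lemma_one ⟨x, hx, rfl⟩ (h.two hx) hN hK (by rwa [h.zz_K hx]) k hk n hn).symm

theorem nil_step (hu : u ∈ Om Z K s) (hv : v ∈ Om Z K s) (hn : ¬ Cm (K u) (K v)) (h1 : u ∈ oP 2 (centralizer {s})) :
    v ∈ oP 2 (centralizer {s}) := by
  by_contra h2
  have h3 : K v ≤ normalizer (oP 2 (centralizer {s}) : Set G) := fun k hk =>
    le_normalizer_oP 2 _ (mem_centralizer_singleton_iff.2 (hv.2 k hk).symm)
  have h4 := L0 h hv.1 (isPGroup_oP 2 _) h3 h2 h1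
  have h5 : v ≠ u := fun e => h2 (e ▸ h1)
  exact hn (h.csymm hv.1 hu.1 h5 h4).symm.2

/-- nil is constant on classes -/
theorem nil_cl (hz : z ∈ Om Z K s) (hu : u ∈ Cl Z K s z) : u ∈ oP 2 (centralizer {s}) ↔ z ∈ oP 2 (centralizer {s}) := by
  have key : ∀ {z u : G}, z ∈ Om Z K s → u ∈ Cl Z K s z → z ∈ oP 2 (centralizer {s}) →
      u ∈ oP 2 (centralizer {s}) := by
    intro z u hz hu h1
    have hu' : Relation.ReflTransGen (St Z K s) z u := hu
    clear hu
    induction hu' with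
    | refl => exact h1
    | tail h2 h3 ih => exact nil_step h (cl_sub hz h2) h3.1 h3.2 ih
  exact ⟨key (cl_sub hz hu) (cl_symm hz hu), key hz hu⟩

/-- an element of `O₂(⟨class⟩)` lies in `O₂(C(s))` -/
theorem oP_up (hz : z ∈ Om Z K s) (hx : x ∈ oP 2 (Gp K (Cl Z K s z))) : x ∈ oP 2 (centralizer {s}) := by
  set B := Gp K (Cl Z K s z) with hB
  set X := Gp K (Om Z K s) with hX
  have hOZ : Om Z K s ⊆ Z := fun u hu => hu.1
  have hBX : B ≤ X := Gp_le fun u hu => le_Gp (cl_sub hz hu)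
  have hXC : X ≤ centralizer {s} := Gp_le fun u hu k hk => mem_centralizer_singleton_iff.2 (hu.2 k hk).symm
  have h1 : X ≤ normalizer (B : Set G) := Gp_le fun u hu k hk => by
    by_cases hc : u ∈ Cl Z K s z
    · exact le_normalizer (le_Gp hc hk)
    · apply mem_normalizer_of_conj_le
      intro b hb
      have h2 : Ce k B := Gp_ce fun v hv l hl => ((cl_cm hv hu hc) l hl k hk).symm
      have : k * b * k⁻¹ = b := by rw [h2 b hb]; group
      rw [this]; exact hb
  have h2 : centralizer {s} ≤ normalizer (X : Set G) := fun c hc =>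
    mem_normalizer_of_conj_le fun x hx =>
      gp_conj h hOZ (fun u hu => om_conj' h hu (mem_centralizer_singleton_iff.1 hc)) hx
  have h3 : oP 2 B ≤ oP 2 X := le_oP ((oP_le 2 B).trans hBX) (isPGroup_oP 2 B) (h1.trans (normalizer_le_oP 2 B))
  have h4 : oP 2 X ≤ oP 2 (centralizer {s}) :=
    le_oP ((oP_le 2 X).trans hXC) (isPGroup_oP 2 X) (h2.trans (normalizer_le_oP 2 X))
  exact h4 (h3 hx)

/-- a class contained in a 2-group is nil -/
theorem nil_down (hu : u ∈ Om Z K s) {R : Subgroup G} (hR : IsPGroup 2 R) (hc : Cl Z K s u ⊆ R) :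
    u ∈ oP 2 (centralizer {s}) := by
  apply oP_up h hu
  have hA : ∀ v ∈ Cl Z K s u, v ∈ Om Z K s := fun v hv => cl_sub hu hv
  have h1 : closure (Cl Z K s u) ≤ Gp K (Cl Z K s u) := (closure_le _).2 fun v hv =>
    le_Gp hv (h.mem v (hA v hv).1)
  have h2 : IsPGroup 2 (closure (Cl Z K s u)) := hR.to_le ((closure_le _).2 hc)
  have h3 : Gp K (Cl Z K s u) ≤ normalizer (closure (Cl Z K s u) : Set G) := Gp_le fun v hv k hk => by
    have hks : k * s = s * k := ((hA v hv).2 k hk).symm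
    have hkv : k * v * k⁻¹ = v := by rw [h.cent (hA v hv).1 hk, mul_inv_cancel_right]
    have hcl : ∀ w ∈ Cl Z K s u, k * w * k⁻¹ ∈ Cl Z K s u := by
      intro w hw
      have h4 : w ∈ Cl Z K s v := cl_trans (cl_symm hu hv) hw
      have h5 := cl_conj' h (hA v hv) hks h4
      rw [hkv] at h5
      exact cl_trans hv h5
    apply mem_normalizer_of_conj_le
    intro x hx
    have h6 : closure (Cl Z K s u) ≤ (closure (Cl Z K s u)).comap (MulAut.conj k).toMonoidHom :=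
      (closure_le _).2 fun w hw => subset_closure (hcl w hw)
    exact h6 hx
  exact le_oP h1 h2 h3 (subset_closure (cl_refl s u))

/-- a class whose members commute with `K u` is nil -/
theorem nil_of_comm (hu : u ∈ Om Z K s) (hc : ∀ v ∈ Cl Z K s u, v ≠ u → Cm (K u) (K v)) :
    u ∈ oP 2 (centralizer {s}) := by
  have h1 : ∀ v ∈ Cl Z K s u, v = u := by
    intro v hv
    have hv' : Relation.ReflTransGen (St Z K s) u v := hv
    clear hv
    induction hv' with
    | refl => rfl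
    | @tail b c h1 h2 ih =>
      by_contra hne
      rw [ih] at h2
      exact h2.2 (hc c (Relation.ReflTransGen.tail h1 (by rw [ih]; exact h2)) hne)
  refine nil_down h hu (R := K u) (h.two hu.1) fun v hv => ?_
  rw [h1 v hv]
  exact h.mem u hu.1

/-- a non-nil class contains a member not commuting with `K u` -/
theorem exists_not_cm (hu : u ∈ Om Z K s) (hn : u ∉ oP 2 (centralizer {s})) :
    ∃ v ∈ Cl Z K s u, v ≠ u ∧ ¬ Cm (K u) (K v) := by
  by_contra hc
  push Not at hc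
  exact hn (nil_of_comm h hu hc)

theorem mem_oP_self (hz : z ∈ Z) : z ∈ oP 2 (centralizer {z}) := by
  have h1 : centralizer {z} ≤ normalizer (zpowers z : Set G) := fun g hg => by
    apply mem_normalizer_of_conj_le
    rintro _ ⟨n, rfl⟩
    have hgz := mem_centralizer_singleton_iff.1 hg
    have h2 : Commute g (z ^ n) := (show Commute g z from hgz).zpow_right n
    have h3 : g * z ^ n * g⁻¹ = z ^ n := by rw [h2.eq, mul_inv_cancel_right]
    change g * z ^ n * g⁻¹ ∈ _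
    rw [h3]
    exact ⟨n, rfl⟩
  have h2 : zpowers z ≤ centralizer {z} := by
    rw [zpowers_le]
    exact mem_centralizer_singleton_iff.2 rfl
  have h3 : IsPGroup 2 (zpowers z) := (h.two hz).to_le (by rw [zpowers_le]; exact h.mem z hz)
  exact le_oP h2 h3 h1 (mem_zpowers z)

/-- if `a` centralises the whole class of `a` in `C(s)`, it is nil -/
theorem nil_of_ce (ha : a ∈ Om Z K s) (hc : ∀ x ∈ Cl Z K s a, Ce a (K x)) : a ∈ oP 2 (centralizer {s}) :=
  nil_of_comm h ha fun x hx hne => (h.csymm (cl_sub ha hx).1 ha.1 hne (hc x hx)).symm.2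

/-- a non-nil class of `C(z)` does not contain `z` -/
theorem not_mem_of_not_nil (hz : z ∈ Z) (hu : u ∈ Om Z K z) (hn : u ∉ oP 2 (centralizer {z})) : z ∉ Cl Z K z u :=
  fun h1 => hn ((nil_cl h hu h1).1 (mem_oP_self h hz))

/-- members of `C(z)` different from `z` are C-partners -/
theorem cm_of_om (hz : z ∈ Z) (hu : u ∈ Om Z K z) (hne : u ≠ z) : Cm (K z) (K u) := (h.csymm hu.1 hz hne hu.2).symm.2

theorem om_of_cm (hz : z ∈ Z) (hu : u ∈ Z) (hc : Cm (K z) (K u)) : u ∈ Om Z K z := ⟨hu, ce_of_cm h hz hc.symm⟩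

/-- **(E)** -/
theorem exch (hz : z ∈ Z) (ha : a ∈ Z) (hza : Cm (K z) (K a)) (hT : TPs Z K a) (hu : u ∈ Om Z K z)
    (hn : u ∉ oP 2 (centralizer {z})) (hau : a ∉ Cl Z K z u) :
    u ∈ Om Z K a ∧ u ∉ oP 2 (centralizer {a}) ∧ Cl Z K a u = Cl Z K z u ∧ z ∉ Cl Z K a u := by
  have haO : a ∈ Om Z K z := om_of_cm h hz ha hza
  have hzO : z ∈ Om Z K a := om_of_cm h ha hz hza.symm
  have hsub : Cl Z K z u ⊆ Om Z K a := fun v hv =>
    om_of_cm h ha (cl_sub hu hv).1 (cl_cm hv haO hau).symm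
  have hin : Cl Z K z u ⊆ Cl Z K a u := cl_mono hsub
  have huO : u ∈ Om Z K a := hsub (cl_refl z u)
  have hna : u ∉ oP 2 (centralizer {a}) := by
    intro h1
    apply hn
    refine nil_down h hu (isPGroup_oP 2 (centralizer {a})) fun v hv => ?_
    exact (nil_cl h huO (hin hv)).2 h1
  have hzn : z ∉ Cl Z K a u := by
    intro h1
    have hone := (hT u huO).resolve_left hna
    apply hn
    have hzu : ∀ b ∈ Cl Z K z u, Cm (K z) (K b) := fun b hb => by
      apply cm_of_om h hz (cl_sub hu hb)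
      rintro rfl
      exact not_mem_of_not_nil h hz hu hn hb
    refine nil_of_comm h hu fun v hv hne => ?_
    have h2 := hone z h1 u (cl_refl a u) (hzu u (cl_refl z u)) u (cl_refl a u)
    have h3 := hone z h1 v (hin hv) (hzu v hv) u (cl_refl a u)
    have h4 : z * u = u * z := hu.2 u (h.mem u hu.1)
    have h5 : Ce (u * v) (K u) := by
      have h6 : (z * u) * (z * v) = u * v := by
        rw [h4]
        calc u * z * (z * v) = u * (z * z) * v := by group
          _ = u * v := by rw [h.sq z hz, mul_one]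
      rw [← h6]
      exact h2.mul h3
    have h6 : Ce v (K u) := by
      have h7 : u * (u * v) = v := by rw [← mul_assoc, h.sq u hu.1, one_mul]
      rw [← h7]
      exact (ce_self h hu.1).mul h5
    exact (h.csymm hu.1 (cl_sub hu hv).1 hne.symm h6).2
  have hsub' : Cl Z K a u ⊆ Om Z K z := fun v hv =>
    om_of_cm h hz (cl_sub huO hv).1 (cl_cm hv hzO hzn).symm
  exact ⟨huO, hna, Set.Subset.antisymm (cl_mono hsub') hin, hzn⟩

/-! ### The sets of non-nil classes -/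

theorem NN_cl {A : Set G} (hA : A ∈ NN Z K s) (hu : u ∈ A) : u ∈ Om Z K s ∧ u ∉ oP 2 (centralizer {s}) ∧ A = Cl Z K s u := by
  obtain ⟨v, hv, hn, rfl⟩ := hA
  exact ⟨cl_sub hv hu, fun h1 => hn ((nil_cl h hv hu).1 h1), (cl_eq hv hu).symm⟩

theorem cl_mem_NN (hu : u ∈ Om Z K s) : Cl Z K s u ∈ NN Z K s ↔ u ∉ oP 2 (centralizer {s}) :=
  ⟨fun h1 => (NN_cl h h1 (cl_refl s u)).2.1, fun h1 => ⟨u, hu, h1, rfl⟩⟩

theorem NN_nonempty {A : Set G} (hA : A ∈ NN Z K s) : A.Nonempty := by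
  obtain ⟨v, -, -, rfl⟩ := hA
  exact ⟨v, cl_refl _ _⟩

theorem NN_not_mem (hz : z ∈ Z) {A : Set G} (hA : A ∈ NN Z K z) : z ∉ A := by
  obtain ⟨v, hv, hn, rfl⟩ := hA
  exact not_mem_of_not_nil h hz hv hn

theorem NN_exch (hz : z ∈ Z) (ha : a ∈ Z) (hza : Cm (K z) (K a)) (hT : TPs Z K a) {A : Set G} (hA : A ∈ NN Z K z)
    (haA : a ∉ A) : A ∈ NN Z K a := by
  obtain ⟨u, hu, hn, rfl⟩ := hA
  obtain ⟨h1, h2, h3, -⟩ := exch h hz ha hza hT hu hn haA
  exact ⟨u, h1, h2, h3.symm⟩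

/-- `N(z) \ {cl_z(a)} = N(a) \ {cl_a(z)}` -/
theorem NN_diff (hz : z ∈ Z) (ha : a ∈ Z) (hza : Cm (K z) (K a)) (hTz : TPs Z K z) (hTa : TPs Z K a) :
    NN Z K z \ {Cl Z K z a} = NN Z K a \ {Cl Z K a z} := by
  have key : ∀ {z a : G}, z ∈ Z → a ∈ Z → Cm (K z) (K a) → TPs Z K a →
      NN Z K z \ {Cl Z K z a} ⊆ NN Z K a \ {Cl Z K a z} := by
    intro z a hz ha hza hTa A hA
    have haA : a ∉ A := fun h1 => hA.2 (NN_cl h hA.1 h1).2.2
    refine ⟨NN_exch h hz ha hza hTa hA.1 haA, fun h1 => ?_⟩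
    apply NN_not_mem h hz hA.1
    rw [Set.mem_singleton_iff.1 h1]
    exact cl_refl a z
  exact Set.Subset.antisymm (key hz ha hza hTa) (key ha hz hza.symm hTz)

omit h [Finite G] in
theorem cj_oP_le (g : G) (X : Subgroup G) : cj g (oP 2 X) ≤ oP 2 (cj g X) := by
  refine le_oP (cj_mono g (oP_le 2 X)) (isPGroup_cj (isPGroup_oP 2 X)) ?_
  intro x hx
  rw [mem_cj] at hx
  have h1 := mem_normalizer_iff_cj.1 (le_normalizer_oP 2 X hx)
  have e : x * g = g * (g⁻¹ * x * g) := by group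
  rw [mem_normalizer_iff_cj, ← cj_mul, e, cj_mul, h1]

omit h [Finite G] in
theorem oP_conj (g : G) (hx : x ∈ oP 2 (centralizer {s})) : g * x * g⁻¹ ∈ oP 2 (centralizer {g * s * g⁻¹}) := by
  rw [← cj_centralizer]
  exact cj_oP_le g _ (conj_mem_cj hx)

theorem NN_conj {A : Set G} (hA : A ∈ NN Z K s) (g : G) :
    (fun x => g * x * g⁻¹) '' A ∈ NN Z K (g * s * g⁻¹) := by
  obtain ⟨u, hu, hn, rfl⟩ := hA
  refine ⟨g * u * g⁻¹, om_conj h hu g, ?_, ?_⟩
  · intro h1
    apply hn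
    have h2 := oP_conj g⁻¹ h1
    have e : ∀ x : G, g⁻¹ * (g * x * g⁻¹) * g⁻¹⁻¹ = x := fun x => by group
    rwa [e, e] at h2
  · apply Set.Subset.antisymm
    · rintro _ ⟨v, hv, rfl⟩
      exact cl_conj h hu hv g
    · intro v hv
      have h1 := cl_conj h (om_conj h hu g) hv g⁻¹
      have e : ∀ x : G, g⁻¹ * (g * x * g⁻¹) * g⁻¹⁻¹ = x := fun x => by group
      rw [e, e] at h1
      exact ⟨_, h1, by group⟩

end basic

end Cfsg.Agent.Cit.Nil.Comp
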