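import Cfsg.Agent.Cit.Nil.Comp.Frame

/-!
# S1309 (6b), `r = 1`, COMP: the product situation, elementwise form (helper553)

`PS Z K B Sg` : `B z` is the class (block) of `z`, `Sg z` the union of the frame of `z`; `PS.of_frm` : the product
branch of `trich` gives `PS Z K (Bl Z K) (Fr Z K)`; `cp` = (F1): a C-pair has one frame.
-/

set_option autoImplicit false
set_option linter.style.haveILetI false
set_option linter.unusedSectionVars false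

namespace Cfsg.Agent.Cit.Nil.Comp

open Subgroup Cfsg Cfsg.Agent.Cit Cfsg.Agent.Cit.Nil.ROne Cfsg.Agent.Cit.Nil.AN
open Cfsg.Agent.OddOrderLocal.NilParts Cfsg.Agent.StdEven.Syl

variable {G : Type*} [Group G] {Z : Set G} {K : G → Subgroup G} {z u v x y g s a b c : G} {A : Set G}
  {F F' : Set (Set G)}

/-- the product situation: `B z` is the block of `z`, `Sg z` the union of the frame of `z` -/
structure PS (Z : Set G) (K : G → Subgroup G) (B Sg : G → Set G) : Prop where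
  sub : ∀ z ∈ Z, Sg z ⊆ Z
  self : ∀ z ∈ Z, z ∈ B z
  le : ∀ z ∈ Z, B z ⊆ Sg z
  blk : ∀ z ∈ Z, ∀ u ∈ B z, B u = B z
  frm : ∀ z ∈ Z, ∀ u ∈ Sg z, Sg u = Sg z
  two : ∀ z ∈ Z, ∃ u ∈ Sg z, u ∉ B z
  cm : ∀ z ∈ Z, ∀ u ∈ Sg z, u ∉ B z → CP K z u
  cls : ∀ z ∈ Z, ∀ u ∈ Sg z, u ∉ B z → B u = Cl Z K z u
  nnil : ∀ z ∈ Z, ∀ u ∈ Sg z, u ∉ B z → u ∉ oP 2 (centralizer {z})
  one : ∀ z ∈ Z, ∀ u ∈ Sg z, u ∉ B z → OneC Z K z u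
  cjS : ∀ z ∈ Z, ∀ g y : G, g * y * g⁻¹ ∈ Sg (g * z * g⁻¹) ↔ y ∈ Sg z
  cjB : ∀ z ∈ Z, ∀ g y : G, g * y * g⁻¹ ∈ B (g * z * g⁻¹) ↔ y ∈ B z
  cp : ∀ z ∈ Z, ∀ u ∈ Z, CP K z u → Sg u = Sg z

/-- the block of `z` -/
def Bl (Z : Set G) (K : G → Subgroup G) (z : G) : Set G := {y | ∃ F, Frm Z K F ∧ ∃ A ∈ F, z ∈ A ∧ y ∈ A}

/-- the union of the frame of `z` -/
def Fr (Z : Set G) (K : G → Subgroup G) (z : G) : Set G := {y | ∃ F, Frm Z K F ∧ (∃ A ∈ F, z ∈ A) ∧ ∃ A ∈ F, y ∈ A}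

section

variable [Finite G] (h : W Z K)

include h

theorem bl_eq (f : Frm Z K F) (hA : A ∈ F) (hz : z ∈ A) : Bl Z K z = A := by
  ext y
  constructor
  · rintro ⟨F', f', B, hB, hz', hy⟩
    obtain ⟨-, rfl⟩ := f.uniq h f' hA hB hz hz'
    exact hy
  · exact fun hy => ⟨F, f, A, hA, hz, hy⟩

theorem mem_fr (f : Frm Z K F) (hA : A ∈ F) (hz : z ∈ A) : y ∈ Fr Z K z ↔ ∃ B ∈ F, y ∈ B := by
  constructor
  · rintro ⟨F', f', ⟨B, hB, hz'⟩, C, hC, hy⟩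
    obtain ⟨rfl, -⟩ := f.uniq h f' hA hB hz hz'
    exact ⟨C, hC, hy⟩
  · exact fun hy => ⟨F, f, ⟨A, hA, hz⟩, hy⟩

theorem fr_conj (hF : ∀ z ∈ Z, ∃ F, Frm Z K F ∧ ∃ A ∈ F, z ∈ A) (hz : z ∈ Z) (g : G) (hy : y ∈ Fr Z K z) :
    g * y * g⁻¹ ∈ Fr Z K (g * z * g⁻¹) := by
  obtain ⟨F, f, A, hA, hzA⟩ := hF z hz
  obtain ⟨B, hB, hyB⟩ := (mem_fr h f hA hzA).1 hy
  exact ⟨_, f.conj h g, ⟨_, ⟨A, hA, rfl⟩, ⟨z, hzA, rfl⟩⟩, _, ⟨B, hB, rfl⟩, ⟨y, hyB, rfl⟩⟩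

theorem bl_conj (hF : ∀ z ∈ Z, ∃ F, Frm Z K F ∧ ∃ A ∈ F, z ∈ A) (hz : z ∈ Z) (g : G) (hy : y ∈ Bl Z K z) :
    g * y * g⁻¹ ∈ Bl Z K (g * z * g⁻¹) := by
  obtain ⟨F, f, A, hA, hzA⟩ := hF z hz
  rw [bl_eq h f hA hzA] at hy
  exact ⟨_, f.conj h g, _, ⟨A, hA, rfl⟩, ⟨z, hzA, rfl⟩, ⟨y, hy, rfl⟩⟩

/-- **the product branch, elementwise** -/
theorem PS.of_frm (cls : OneCls Z) (tp : TP Z K) (hF : ∀ z ∈ Z, ∃ F, Frm Z K F ∧ ∃ A ∈ F, z ∈ A) :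
    PS Z K (Bl Z K) (Fr Z K) := by
  have back : ∀ g x : G, g⁻¹ * (g * x * g⁻¹) * g⁻¹⁻¹ = x := fun g x => by group
  have hfr : ∀ z ∈ Z, ∀ u ∈ Fr Z K z, Fr Z K u = Fr Z K z := by
    intro z hz u hu
    obtain ⟨F, f, A, hA, hzA⟩ := hF z hz
    obtain ⟨B, hB, huB⟩ := (mem_fr h f hA hzA).1 hu
    ext y
    rw [mem_fr h f hA hzA, mem_fr h f hB huB]
  have key : ∀ z ∈ Z, ∀ u ∈ Fr Z K z, u ∉ Bl Z K z → ∃ F, Frm Z K F ∧ ∃ A ∈ F, ∃ B ∈ F, z ∈ A ∧ u ∈ B ∧ A ≠ B := by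
    intro z hz u hu hn
    obtain ⟨F, f, A, hA, hzA⟩ := hF z hz
    obtain ⟨B, hB, huB⟩ := (mem_fr h f hA hzA).1 hu
    refine ⟨F, f, A, hA, B, hB, hzA, huB, ?_⟩
    rintro rfl
    exact hn (by rw [bl_eq h f hA hzA]; exact huB)
  have key2 : ∀ z ∈ Z, ∀ u ∈ Fr Z K z, u ∉ Bl Z K z → u ∈ Om Z K z ∧ u ∉ oP 2 (centralizer {z}) ∧
      Bl Z K u = Cl Z K z u := by
    intro z hz u hu hn
    obtain ⟨F, f, A, hA, B, hB, hzA, huB, hAB⟩ := key z hz u hu hn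
    have h1 : B ∈ NN Z K z := by rw [f.nn A hA z hzA]; exact ⟨hB, hAB.symm⟩
    obtain ⟨h2, h3, h4⟩ := NN_cl h h1 huB
    exact ⟨h2, h3, by rw [bl_eq h f hB huB]; exact h4⟩
  refine ⟨?_, ?_, ?_, ?_, hfr, ?_, ?_, ?_, ?_, ?_, ?_, ?_, ?_⟩
  · intro z hz y hy
    obtain ⟨F, f, A, hA, hzA⟩ := hF z hz
    obtain ⟨B, hB, hyB⟩ := (mem_fr h f hA hzA).1 hy
    exact f.sub B hB hyB
  · intro z hz
    obtain ⟨F, f, A, hA, hzA⟩ := hF z hz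
    exact ⟨F, f, A, hA, hzA, hzA⟩
  · rintro z - y ⟨F, f, A, hA, hzA, hy⟩
    exact ⟨F, f, ⟨A, hA, hzA⟩, A, hA, hy⟩
  · intro z hz u hu
    obtain ⟨F, f, A, hA, hzA⟩ := hF z hz
    rw [bl_eq h f hA hzA] at hu ⊢
    exact bl_eq h f hA hu
  · intro z hz
    obtain ⟨F, f, A, hA, hzA⟩ := hF z hz
    obtain ⟨B, hB, hBA⟩ := f.other hA
    obtain ⟨b, hb⟩ := f.ne B hB
    refine ⟨b, (mem_fr h f hA hzA).2 ⟨B, hB, hb⟩, ?_⟩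
    rw [bl_eq h f hA hzA]
    exact fun hbA => hBA (f.disj h hB hA hb hbA)
  · intro z hz u hu hn
    obtain ⟨F, f, A, hA, B, hB, hzA, huB, hAB⟩ := key z hz u hu hn
    exact (cp_iff h hz).2 (f.cm A hA B hB hAB z hzA u huB)
  · exact fun z hz u hu hn => (key2 z hz u hu hn).2.2
  · exact fun z hz u hu hn => (key2 z hz u hu hn).2.1
  · intro z hz u hu hn
    obtain ⟨h1, h2, -⟩ := key2 z hz u hu hn
    exact (TP.of_mem h tp hz u h1).resolve_left h2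
  · intro z hz g y
    refine ⟨fun hy => ?_, fr_conj h hF hz g⟩
    have h1 := fr_conj h hF (h.conjZ z hz g) g⁻¹ hy
    rwa [back, back] at h1
  · intro z hz g y
    refine ⟨fun hy => ?_, bl_conj h hF hz g⟩
    have h1 := bl_conj h hF (h.conjZ z hz g) g⁻¹ hy
    rwa [back, back] at h1
  · -- (F1)
    intro z hz u hu hc
    obtain ⟨F, f, A, hA, hzA⟩ := hF z hz
    have huO : u ∈ Om Z K z := om_of_cm h hz hu hc.2
    by_cases hn : u ∈ oP 2 (centralizer {z})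
    · obtain ⟨C, hC, hCA⟩ := f.other hA
      have hCz : C ∈ NN Z K z := by rw [f.nn A hA z hzA]; exact ⟨hC, hCA⟩
      have hCu : C ∈ NN Z K u := by
        refine NN_exch h hz hu hc.2 (TP.of_mem h tp hu) hCz fun huC => ?_
        exact (NN_cl h hCz huC).2.1 hn
      obtain ⟨c, hcC⟩ := f.ne C hC
      obtain ⟨F', f', A', hA', huA'⟩ := hF u hu
      rw [f'.nn A' hA' u huA'] at hCu
      obtain ⟨rfl, -⟩ := f.uniq h f' hC hCu.1 hcC hcC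
      exact hfr z hz u ((mem_fr h f hA hzA).2 ⟨A', hA', huA'⟩)
    · have h1 : Cl Z K z u ∈ NN Z K z := (cl_mem_NN h huO).2 hn
      rw [f.nn A hA z hzA] at h1
      exact hfr z hz u ((mem_fr h f hA hzA).2 ⟨_, h1.1, cl_refl z u⟩)

end

end Cfsg.Agent.Cit.Nil.Comp
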