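import Cfsg.Agent.Cit.Nil.ROne.EndG0
import Cfsg.Agent.Cit.Nil.ROne.Strong
import Cfsg.Agent.Cit.CorTwo

/-!
# COMP, `r = 1`, the product situation: the end (helper815), (F5) of helper454's text (bb R18 #15492)

`PE Z K M Bl` : `M` the stabiliser of a frame, `Z ∩ M` its members, `Bl x y` : `x` and `y` are in the same class.

* `PE.false_of_pair` : there is a C-pair inside a class: strongly closed commutative subgroup (Goldschmidt's theorem);
* `PE.false_of_none` : there is none: the criterion `Crit1175` for the product of the members in `S`;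
* `PE.false_of` : `F*(G) = G0` simple: contradiction.
-/

set_option autoImplicit false
set_option linter.style.haveILetI false
set_option linter.unusedSectionVars false

namespace Cfsg.Agent.Cit.Nil.Comp

open Subgroup Cfsg Cfsg.Agent.Cit Cfsg.Agent.Cit.Nil.ROne

variable {G : Type*} [Group G]

/-- the product situation, output of (F1)-(F4): `M` the stabiliser of a frame, `Z ∩ M` the members of the frame,
`Bl x y` : same class -/
structure PE (Z : Set G) (K : G → Subgroup G) (M : Subgroup G) (Bl : G → G → Prop) : Prop where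
  w : W Z K
  refl : ∀ x ∈ Z ∩ M, Bl x x
  symm : ∀ x ∈ Z ∩ M, ∀ y ∈ Z ∩ M, Bl x y → Bl y x
  trans : ∀ x ∈ Z ∩ M, ∀ y ∈ Z ∩ M, ∀ v ∈ Z ∩ M, Bl x y → Bl y v → Bl x v
  conj : ∀ g ∈ M, ∀ x ∈ Z ∩ M, ∀ y ∈ Z ∩ M, Bl x y → Bl (g * x * g⁻¹) (g * y * g⁻¹)
  /-- different classes commute -/
  cm : ∀ x ∈ Z ∩ M, ∀ y ∈ Z ∩ M, ¬ Bl x y → ∀ a ∈ K x, ∀ b ∈ K y, a * b = b * a
  two : ∃ x ∈ Z ∩ M, ∃ y ∈ Z ∩ M, ¬ Bl x y
  ntr : ∀ x ∈ Z ∩ M, ∃ y ∈ Z ∩ M, Bl x y ∧ x ≠ y
  /-- the classes are `ONE` -/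
  one : ∀ x ∈ Z ∩ M, ∀ y ∈ Z ∩ M, Bl x y → CP K x y → ∀ v ∈ Z ∩ M, Bl x v → Cen K (x * y) v
  mem : ∀ x ∈ Z ∩ M, ∀ g, g * x * g⁻¹ ∈ M → g ∈ M
  syl : ∀ S : Sylow 2 G, ∀ x ∈ Z ∩ M, K x ≤ (S : Subgroup G) → (S : Subgroup G) ≤ M
  cen : ∀ S : Sylow 2 G, (S : Subgroup G) ≤ M → ∀ s ∈ TT Z K (S : Subgroup G), s ≠ 1 → ∀ c, c * s = s * c → c ∈ M
  mem' : ∀ S : Sylow 2 G, (S : Subgroup G) ≤ M → ∀ s ∈ TT Z K (S : Subgroup G), s ≠ 1 →
    ∀ g, g * s * g⁻¹ ∈ M → g ∈ M

/-- there is no strongly embedded subgroup in `G0` -/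
theorem false_of_se [Finite G] {Z : Set G} {K : G → Subgroup G} {G0 : Subgroup G} {z u : G} (w : W Z K)
    (cls : OneCls Z) (c3 : C3 Z K) (f : FSimp G0) (hZ : ∀ z ∈ Z, z ∈ G0) (S : Sylow 2 G) (hz : z ∈ CS Z K S)
    (hu : u ∈ CS Z K S) (hne : z ≠ u) (hB : CloEnd.Bend G0) {H : Subgroup G0} (hH : IsStronglyEmbedded H) :
    False := by
  have hcp : CP K z u := w.com hz.1 hu.1 S.isPGroup' hz.2 hu.2 hne
  obtain ⟨T, hT⟩ := exists_sylow_subgroupOf f.nor S
  by_cases hcase : ∀ z ∈ Z, K z ≤ G0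
  · -- (A)
    have key : ∀ z ∈ CS Z K (S : Subgroup G), (K z).subgroupOf G0 ∈ OmS (restr (K '' Z) G0) (T : Subgroup G0) := by
      intro z hz
      refine mem_OmS_of_le (subgroupOf_mem_restr ⟨z, hz.1, rfl⟩ (hcase z hz.1))
        ⟨le_rfl, (w.two hz.1).comap_subtype, by rw [relIndex_self]; omega⟩ ?_
      rw [hT]
      exact comap_mono hz.2
    refine (CloOne.two_of_ne (w.hyp.restr G0) T.isPGroup' (key z hz) (key u hu) ?_).not_stronglyEmbedded hB H hH
    intro h1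
    apply hne
    refine w.K_inj hz.1 hu.1 ?_
    rw [← map_subgroupOf_eq_of_le (hcase z hz.1), h1, map_subgroupOf_eq_of_le (hcase u hu.1)]
  · -- (B)
    push Not at hcase
    obtain ⟨z0, hz0, h0⟩ := hcase
    have t : Tr Z K G0 := by
      refine ⟨w, f.nor, hZ, fun v hv => ?_⟩
      refine (w.inf_cases c3 f.nor hv).resolve_left fun h1 => h0 ?_
      obtain ⟨g, rfl⟩ := cls v hv z0 hz0
      rw [w.conjK v hv]
      intro x hx
      have h2 := f.nor.conj_mem _ (h1 (mem_cj.1 hx)) g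
      have h3 : g * (g⁻¹ * x * g) * g⁻¹ = x := by group
      rwa [h3] at h2
    have hz0' : z ∈ G0 := hZ z hz.1
    refine t.not_emb hz.1 hu.1 hcp fun x hx hxx hx1 => ?_
    have h2 := Cfsg.Agent.TwoFusion.StronglyEmbeddedBasic.isConj_of_involutions hH (⟨z, hz0'⟩ : G0) ⟨x, hx⟩
      (by rw [← Subgroup.orderOf_coe]; exact w.ord hz.1)
      (by rw [← Subgroup.orderOf_coe]; exact orderOf_eq_prime (by rw [pow_two]; exact hxx) hx1)
    obtain ⟨g, hg⟩ := isConj_iff.1 h2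
    exact ⟨g, g.2, congrArg Subtype.val hg⟩

namespace PE

variable {Z : Set G} {K : G → Subgroup G} {M : Subgroup G} {Bl : G → G → Prop} {x y v g b c k : G}
  (p : PE Z K M Bl)

include p

theorem conj_mem (hx : x ∈ Z ∩ M) (hg : g ∈ M) : g * x * g⁻¹ ∈ Z ∩ M :=
  ⟨p.w.conjZ x hx.1 g, M.mul_mem (M.mul_mem hg hx.2) (M.inv_mem hg)⟩

/-- `C(x) ≤ M` -/
theorem mem_of_comm (hx : x ∈ Z ∩ M) (hg : g * x = x * g) : g ∈ M :=
  p.mem x hx g (by rw [hg, mul_inv_cancel_right]; exact hx.2)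

theorem K_le (hx : x ∈ Z ∩ M) : K x ≤ M := fun _ hk => p.mem_of_comm hx (p.w.cent hx.1 hk)

/-- elements of a member preserve the classes -/
theorem bl_K (hx : x ∈ Z ∩ M) (hv : v ∈ Z ∩ M) (hk : k ∈ K x) : Bl v (k * v * k⁻¹) := by
  have hkM := p.K_le hx hk
  by_cases h1 : Bl x v
  · have h2 := p.conj k hkM x hx v hv h1
    rw [p.w.cent hx.1 hk, mul_inv_cancel_right] at h2
    exact p.trans v hv x hx _ (p.conj_mem hv hkM) (p.symm x hx v hv h1) h2
  · have h2 := p.cm x hx v hv h1 k hk v (p.w.mem v hv.1)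
    rw [h2, mul_inv_cancel_right]
    exact p.refl v hv

/-- the group generated by the members of the frame -/
def BB (Z : Set G) (K : G → Subgroup G) (M : Subgroup G) : Subgroup G := closure {k | ∃ x ∈ Z ∩ M, k ∈ K x}

theorem K_le_BB (hx : x ∈ Z ∩ M) : K x ≤ BB Z K M := fun _ hk => subset_closure ⟨x, hx, hk⟩

theorem BB_le : BB Z K M ≤ M := (closure_le _).2 fun _ ⟨_, hx, hk⟩ => p.K_le hx hk

theorem bl_BB (hb : b ∈ BB Z K M) : ∀ v ∈ Z ∩ M, Bl v (b * v * b⁻¹) := by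
  have key : ∀ b ∈ BB Z K M, b ∈ M ∧ ∀ v ∈ Z ∩ M, Bl v (b * v * b⁻¹) := by
    intro b hb
    refine ⟨p.BB_le hb, ?_⟩
    rw [BB] at hb
    induction hb using closure_induction with
    | mem b hb =>
      obtain ⟨x, hx, hk⟩ := hb
      exact fun v hv => p.bl_K hx hv hk
    | one =>
      intro v hv
      rw [one_mul, inv_one, mul_one]
      exact p.refl v hv
    | mul a b ha hb h1 h2 =>
      intro v hv
      have hbM : b ∈ M := p.BB_le hb
      have haM : a ∈ M := p.BB_le ha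
      have e : a * b * v * (a * b)⁻¹ = a * (b * v * b⁻¹) * a⁻¹ := by group
      rw [e]
      exact p.trans v hv _ (p.conj_mem hv hbM) _ (p.conj_mem (p.conj_mem hv hbM) haM) (h2 v hv)
        (h1 _ (p.conj_mem hv hbM))
    | inv a ha h1 =>
      intro v hv
      have haM : a⁻¹ ∈ M := M.inv_mem (p.BB_le ha)
      have h2 := h1 _ (p.conj_mem hv haM)
      have e : a * (a⁻¹ * v * a⁻¹⁻¹) * a⁻¹ = v := by group
      rw [e] at h2
      exact p.symm _ (p.conj_mem hv haM) v hv h2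
  exact (key b hb).2

/-- `M` normalises the group generated by the members -/
theorem conj_BB (hg : g ∈ M) (hb : b ∈ BB Z K M) : g * b * g⁻¹ ∈ BB Z K M := by
  have h1 : BB Z K M ≤ (BB Z K M).comap (MulAut.conj g).toMonoidHom := by
    refine (closure_le _).2 ?_
    rintro k ⟨x, hx, hk⟩
    exact subset_closure ⟨g * x * g⁻¹, p.conj_mem hx hg, p.w.conj_mem_K hx.1 g hk⟩
  exact h1 hb

/-- `G0` is not contained in `M` -/
theorem not_le {G0 : Subgroup G} (f : FSimp G0) : ¬ G0 ≤ M := by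
  intro hG
  obtain ⟨x, hx, y, hy, hxy⟩ := p.two
  have h1 : G0 ≤ BB Z K M := by
    refine f.le (fun g hg n hn => p.conj_BB (hG hg) hn) fun h1 => p.w.ne x hx.1 ?_
    have h2 := p.K_le_BB hx (p.w.mem x hx.1)
    rw [h1] at h2
    exact h2
  have key : ∀ x ∈ Z ∩ M, G0 ≤ closure {k | ∃ v ∈ Z ∩ M, Bl x v ∧ k ∈ K v} := by
    intro x hx
    refine f.le (fun g hg n hn => ?_) fun h1 => p.w.ne x hx.1 ?_
    · have h2 : closure {k | ∃ v ∈ Z ∩ M, Bl x v ∧ k ∈ K v} ≤
          (closure {k | ∃ v ∈ Z ∩ M, Bl x v ∧ k ∈ K v}).comap (MulAut.conj g).toMonoidHom := by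
        refine (closure_le _).2 ?_
        rintro k ⟨v, hv, hxv, hk⟩
        exact subset_closure ⟨g * v * g⁻¹, p.conj_mem hv (hG hg),
          p.trans x hx v hv _ (p.conj_mem hv (hG hg)) hxv (p.bl_BB (h1 hg) v hv), p.w.conj_mem_K hv.1 g hk⟩
      exact h2 hn
    · have h2 : x ∈ closure {k | ∃ v ∈ Z ∩ M, Bl x v ∧ k ∈ K v} :=
        subset_closure ⟨x, hx, p.refl x hx, p.w.mem x hx.1⟩
      rw [h1] at h2
      exact h2
  refine f.na fun a ha b hb => ?_
  have ha' := key x hx ha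
  have hb' := key y hy hb
  -- the two groups commute
  have h2 : closure {k | ∃ v ∈ Z ∩ M, Bl x v ∧ k ∈ K v} ≤ centralizer {k | ∃ v ∈ Z ∩ M, Bl y v ∧ k ∈ K v} := by
    refine (closure_le _).2 ?_
    rintro k ⟨v, hv, hxv, hk⟩
    rw [SetLike.mem_coe, mem_centralizer_iff]
    rintro l ⟨u, hu, hyu, hl⟩
    refine p.cm u hu v hv (fun h3 => hxy ?_) l hl k hk
    exact p.trans x hx v hv y hy hxv (p.trans v hv u hu y hy (p.symm u hu v hv h3) (p.symm y hy u hu hyu))
  have h3 : closure {k | ∃ v ∈ Z ∩ M, Bl y v ∧ k ∈ K v} ≤ centralizer {a} := by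
    refine (closure_le _).2 fun l hl => mem_centralizer_singleton_iff.2 ?_
    exact mem_centralizer_iff.1 (h2 ha') l hl
  exact (mem_centralizer_singleton_iff.1 (h3 hb')).symm

section fin

variable [Finite G]

/-- a 2-subgroup of `BB` goes into `S` by an element of `BB` -/
theorem exists_cj_BB (S : Sylow 2 G) (hS : (S : Subgroup G) ≤ M) {R : Subgroup G} (hR : IsPGroup 2 R)
    (hRB : R ≤ BB Z K M) : ∃ b ∈ BB Z K M, cj b R ≤ (S : Subgroup G) := by
  obtain ⟨T, hT, hRT⟩ := exists_syl_ge hR hRB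
  obtain ⟨m, hm, hmS⟩ := Strong.exists_cj_le S hS hT.2.1 (hT.1.trans p.BB_le)
  have hBm : cj m (BB Z K M) = BB Z K M := by
    have key : ∀ m ∈ M, cj m (BB Z K M) ≤ BB Z K M := by
      intro m hm a ha
      have h1 := p.conj_BB hm (mem_cj.1 ha)
      have e : m * (m⁻¹ * a * m) * m⁻¹ = a := by group
      rwa [e] at h1
    refine le_antisymm (key m hm) ?_
    have h1 := cj_mono m (key m⁻¹ (M.inv_mem hm))
    rwa [cj_cj_inv] at h1
  have h1 : Syl (cj m T) (BB Z K M) := by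
    have h2 := hT.cj m
    rwa [hBm] at h2
  obtain ⟨b, hb, hbT⟩ := hT.exists_conj h1
  exact ⟨b, hb, (cj_mono b hRT).trans (hbT.le.trans hmS)⟩

/-- every class meets `C_S` -/
theorem exists_mem_CS (S : Sylow 2 G) (hS : (S : Subgroup G) ≤ M) (hx : x ∈ Z ∩ M) :
    ∃ v ∈ CS Z K (S : Subgroup G), Bl x v := by
  obtain ⟨b, hb, hbS⟩ := p.exists_cj_BB S hS (p.w.two hx.1) (p.K_le_BB hx)
  refine ⟨b * x * b⁻¹, ⟨p.w.conjZ x hx.1 b, ?_⟩, p.bl_BB hb x hx⟩
  rw [p.w.conjK x hx.1]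
  exact hbS

theorem CS_sub (S : Sylow 2 G) (hS : (S : Subgroup G) ≤ M) (hv : v ∈ CS Z K (S : Subgroup G)) : v ∈ Z ∩ M :=
  ⟨hv.1, hS (hv.2 (p.w.mem v hv.1))⟩

theorem exists_sylow : ∃ S : Sylow 2 G, (S : Subgroup G) ≤ M := by
  obtain ⟨x, hx, -⟩ := p.two
  obtain ⟨S, hS⟩ := p.w.exists_sylow hx.1
  exact ⟨S, p.syl S x hx hS.2⟩

theorem exists_ne (S : Sylow 2 G) (hS : (S : Subgroup G) ≤ M) :
    ∃ z ∈ CS Z K (S : Subgroup G), ∃ u ∈ CS Z K (S : Subgroup G), z ≠ u := by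
  obtain ⟨x, hx, y, hy, hxy⟩ := p.two
  obtain ⟨z, hz, hxz⟩ := p.exists_mem_CS S hS hx
  obtain ⟨u, hu, hyu⟩ := p.exists_mem_CS S hS hy
  refine ⟨z, hz, u, hu, ?_⟩
  rintro rfl
  exact hxy (p.trans x hx z (p.CS_sub S hS hz) y hy hxz (p.symm y hy z (p.CS_sub S hS hz) hyu))

theorem data (S : Sylow 2 G) : Strong.Data (S : Subgroup G) (CS Z K S) K where
  sq z hz := p.w.sq z hz.1
  ne z hz := p.w.ne z hz.1
  mem z hz := p.w.mem z hz.1
  le z hz := hz.2
  q8 z hz := p.w.q8 z hz.1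
  comm z hz u hu hne := (p.w.com hz.1 hu.1 S.isPGroup' hz.2 hu.2 hne).2
  conjZ s hs z hz := by
    have h1 := (p.w.cj_CS s (S : Subgroup G) hz.1).2 hz
    rwa [mem_normalizer_iff_cj.1 (le_normalizer hs)] at h1
  conjK s _ z hz := p.w.conjK z hz.1 s

/-! ### A C-pair inside a class -/

/-- products of C-pairs inside a class are central in `BB` -/
theorem cen_mul (hx : x ∈ Z ∩ M) (hy : y ∈ Z ∩ M) (hxy : Bl x y) (hc : CP K x y) (hb : b ∈ BB Z K M) :
    b * (x * y) * b⁻¹ = x * y := by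
  have h1 : BB Z K M ≤ centralizer {x * y} := by
    refine (closure_le _).2 ?_
    rintro k ⟨v, hv, hk⟩
    rw [SetLike.mem_coe, mem_centralizer_singleton_iff]
    by_cases h1 : Bl x v
    · exact (p.one x hx y hy hxy hc v hv h1 k hk).symm
    · have h2 : ¬ Bl y v := fun h2 => h1 (p.trans x hx y hy v hv hxy h2)
      have h3 := p.cm x hx v hv h1 x (p.w.mem x hx.1) k hk
      have h4 := p.cm y hy v hv h2 y (p.w.mem y hy.1) k hk
      rw [← mul_assoc, ← h3, mul_assoc, ← h4, mul_assoc]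
  rw [mem_centralizer_singleton_iff.1 (h1 hb), mul_inv_cancel_right]

theorem mul_mem_TT (S : Sylow 2 G) (hS : (S : Subgroup G) ≤ M) (hx : x ∈ Z ∩ M) (hy : y ∈ Z ∩ M) (hxy : Bl x y)
    (hc : CP K x y) : x * y ∈ TT Z K (S : Subgroup G) := by
  classical
  have hR : IsPGroup 2 (⨆ z ∈ ({x, y} : Finset G), K z : Subgroup G) := by
    refine p.w.isPGroup_clique _ ?_ ?_
    · intro z hz
      rw [Finset.mem_insert, Finset.mem_singleton] at hz
      rcases hz with rfl | rfl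
      · exact hx.1
      · exact hy.1
    · intro z hz u hu hne
      rw [Finset.mem_insert, Finset.mem_singleton] at hz hu
      rcases hz with rfl | rfl <;> rcases hu with rfl | rfl
      · exact absurd rfl hne
      · exact hc
      · exact hc.symm
      · exact absurd rfl hne
  obtain ⟨b, hb, hbS⟩ := p.exists_cj_BB S hS hR (by
    refine iSup₂_le fun z hz => ?_
    rw [Finset.mem_insert, Finset.mem_singleton] at hz
    rcases hz with rfl | rfl
    · exact p.K_le_BB hx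
    · exact p.K_le_BB hy)
  have key : ∀ z ∈ ({x, y} : Finset G), z ∈ Z → b * z * b⁻¹ ∈ CS Z K (S : Subgroup G) := by
    intro z hz hzZ
    refine ⟨p.w.conjZ z hzZ b, ?_⟩
    rw [p.w.conjK z hzZ]
    exact (cj_mono b (le_iSup₂ (f := fun z (_ : z ∈ ({x, y} : Finset G)) => K z) z hz)).trans hbS
  rw [← p.cen_mul hx hy hxy hc hb]
  have e : b * (x * y) * b⁻¹ = b * x * b⁻¹ * (b * y * b⁻¹) := by group
  rw [e]
  exact mul_mem (subset_closure (key x (by simp) hx.1)) (subset_closure (key y (by simp) hy.1))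

/-- **Case 1** -/
theorem false_of_pair {G0 : Subgroup G} (cls : OneCls Z) (c3 : C3 Z K) (f : FSimp G0) (hZ : ∀ z ∈ Z, z ∈ G0)
    (gold : Cit.ROne.Gold G0) (hB : CloEnd.Bend G0) (hx : x ∈ Z ∩ M) (hy : y ∈ Z ∩ M) (hxy : Bl x y)
    (hc : CP K x y) : False := by
  obtain ⟨S, hS⟩ := p.exists_sylow
  obtain ⟨z, hz, u, hu, hne⟩ := p.exists_ne S hS
  set A : Subgroup G := closure {t | ∃ x ∈ Z ∩ M, ∃ y ∈ Z ∩ M, Bl x y ∧ CP K x y ∧ t = x * y} with hA
  have hAT : A ≤ TT Z K (S : Subgroup G) := by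
    rw [hA, closure_le]
    rintro t ⟨x, hx, y, hy, hxy, hc, rfl⟩
    exact p.mul_mem_TT S hS hx hy hxy hc
  have hAM : M ≤ normalizer (A : Set G) := by
    have key : ∀ g ∈ M, A ≤ A.comap (MulAut.conj g).toMonoidHom := by
      intro g hg
      conv_lhs => rw [hA]
      rw [closure_le]
      rintro t ⟨x, hx, y, hy, hxy, hc, rfl⟩
      refine subset_closure ⟨g * x * g⁻¹, p.conj_mem hx hg, g * y * g⁻¹, p.conj_mem hy hg, p.conj g hg x hx y hy hxy,
        p.w.cp_conj hx.1 hy.1 hc g, ?_⟩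
      change g * (x * y) * g⁻¹ = _
      group
    intro g hg
    rw [mem_normalizer_iff]
    intro a
    refine ⟨fun ha => key g hg ha, fun ha => ?_⟩
    have h1 : g⁻¹ * (g * a * g⁻¹) * g⁻¹⁻¹ ∈ A := key g⁻¹ (inv_mem hg) ha
    have h2 : g⁻¹ * (g * a * g⁻¹) * g⁻¹⁻¹ = a := by group
    rwa [h2] at h1
  have hA1 : A ≠ ⊥ := by
    intro h1
    have h2 : x * y ∈ A := subset_closure ⟨x, hx, y, hy, hxy, hc, rfl⟩
    rw [h1] at h2
    exact p.w.cp_mul_ne hy.1 hc h2
  have hcl : IsStronglyClosed A (S : Subgroup G) := by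
    refine Strong.strong S hS (p.data S) ⟨z, hz⟩ (fun u hu x hx => p.mem u (p.CS_sub S hS hu) x hx)
      (fun s hs hs1 c hc => p.cen S hS s hs hs1 c hc) (hAT.trans p.w.TT_le) hAM
      (fun a ha => p.w.TT_sq S.isPGroup' (hAT ha)) ?_
    intro a ha ha1 R _ hR
    refine ⟨1, by rw [one_mul, mul_one], ?_⟩
    rw [cj_one]
    exact fun r hr => p.cen S hS a (hAT ha) ha1 r (hR r hr)
  refine p.w.false_of_closed cls c3 f hZ S hz hu hne gold hB hA1 ?_ ?_ hcl
  · refine hAT.trans ((closure_le _).2 fun v hv => hZ v hv.1)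
  · exact fun a ha b hb => p.w.TT_comm S.isPGroup' (hAT ha) (hAT hb)

/-! ### No C-pair inside a class -/

omit p in
/-- reindexing -/
theorem noncommProd_comp {ι β : Type*} [Fintype ι] [Monoid β] (e : ι ≃ ι) (f : ι → β)
    (h1 : ((Finset.univ : Finset ι) : Set ι).Pairwise (Function.onFun Commute fun i => f (e i)))
    (h2 : ((Finset.univ : Finset ι) : Set ι).Pairwise (Function.onFun Commute f)) :
    Finset.univ.noncommProd (fun i => f (e i)) h1 = Finset.univ.noncommProd f h2 := by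
  have h3 : (Finset.univ : Finset ι).val.map (fun i => f (e i)) = (Finset.univ : Finset ι).val.map f := by
    conv_rhs => rw [← Multiset.map_univ_val_equiv e, Multiset.map_map]
    rfl
  unfold Finset.noncommProd
  congr 1

/-- one element in each class -/
def Fam (Z : Set G) (M : Subgroup G) (Bl : G → G → Prop) {ι : Type*} (c : ι → G) : Prop :=
  (∀ i, c i ∈ Z ∩ M) ∧ ∀ i j, i ≠ j → ¬ Bl (c i) (c j)

section fam

variable {ι : Type*} [Fintype ι] {c d : ι → G}

theorem fam_comm (hc : Fam Z M Bl c) : ((Finset.univ : Finset ι) : Set ι).Pairwise (Function.onFun Commute c) :=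
  fun i _ j _ hij => p.cm _ (hc.1 i) _ (hc.1 j) (hc.2 i j hij) _ (p.w.mem _ (hc.1 i).1) _ (p.w.mem _ (hc.1 j).1)

theorem fam_split (hc : Fam Z M Bl c) (i : ι) : ∃ t, Finset.univ.noncommProd c (p.fam_comm hc) = c i * t ∧
    ∀ u ∈ Z ∩ M, Bl (c i) u → Cen K t u := by
  classical
  have hcom : (((Finset.univ : Finset ι).erase i : Finset ι) : Set ι).Pairwise (Function.onFun Commute c) :=
    (p.fam_comm hc).mono (fun _ _ => Finset.mem_coe.2 (Finset.mem_univ _))
  refine ⟨((Finset.univ : Finset ι).erase i).noncommProd c hcom,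
    (Finset.mul_noncommProd_erase Finset.univ (Finset.mem_univ i) c (p.fam_comm hc) hcom).symm, ?_⟩
  intro u hu hiu
  have h1 : ((Finset.univ : Finset ι).erase i).noncommProd c hcom ∈ centralizer (K u : Set G) := by
    refine Subgroup.noncommProd_mem _ _ fun j hj => mem_centralizer_iff.2 fun k hk => ?_
    refine (p.cm _ (hc.1 j) u hu (fun h1 => ?_) _ (p.w.mem _ (hc.1 j).1) k hk).symm
    exact hc.2 i j (Finset.ne_of_mem_erase hj).symm
      (p.trans _ (hc.1 i) u hu _ (hc.1 j) hiu (p.symm _ (hc.1 j) u hu h1))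
  exact fun k hk => (mem_centralizer_iff.1 h1 k hk).symm

/-- two products -/
theorem fam_main (hn : ∀ x ∈ Z ∩ M, ∀ y ∈ Z ∩ M, Bl x y → ¬ CP K x y) (hc : Fam Z M Bl c) (hd : Fam Z M Bl d)
    (hcd : ∀ i, Bl (c i) (d i)) {h k : G} (hh : h = Finset.univ.noncommProd c (p.fam_comm hc))
    (hk : k = Finset.univ.noncommProd d (p.fam_comm hd)) (hhk : h * k = k * h) (hne : h * k ≠ 1) :
    ∀ g, g * (h * k) = h * k * g → g ∈ M := by
  classical
  -- `c i` and `d i` commute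
  have h1 : ∀ i, c i * d i = d i * c i := by
    intro i
    obtain ⟨s, hs, hs'⟩ := p.fam_split hc i
    obtain ⟨t, ht, ht'⟩ := p.fam_split hd i
    rw [← hh] at hs
    rw [← hk] at ht
    have hci := hc.1 i
    have hdi := hd.1 i
    have hdc : Bl (d i) (c i) := p.symm _ hci _ hdi (hcd i)
    have sc : s * c i = c i * s := hs' _ hci (p.refl _ hci) _ (p.w.mem _ hci.1)
    have sd : s * d i = d i * s := hs' _ hdi (hcd i) _ (p.w.mem _ hdi.1)
    have tc : t * c i = c i * t := ht' _ hci hdc _ (p.w.mem _ hci.1)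
    have td : t * d i = d i * t := ht' _ hdi (p.refl _ hdi) _ (p.w.mem _ hdi.1)
    -- `c d s t = d c t s`
    have e1 : c i * d i * (s * t) = d i * c i * (t * s) := by
      calc c i * d i * (s * t) = c i * (d i * s) * t := by group
        _ = c i * s * (d i * t) := by rw [← sd]; group
        _ = d i * t * (c i * s) := by rw [← hs, ← ht, hhk]
        _ = d i * (t * c i) * s := by group
        _ = _ := by rw [tc]; group
    set ζ := t * s * (s * t)⁻¹ with hζ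
    have e2 : c i * d i = d i * c i * ζ := by
      rw [hζ, ← mul_assoc, ← e1]; group
    have hζc : Cen K ζ (c i) := by
      have a1 : Cen K s (c i) := hs' _ hci (p.refl _ hci)
      have a2 : Cen K t (c i) := ht' _ hci hdc
      exact (a2.mul a1).mul (a1.mul a2).inv
    -- `v' = d⁻¹ c d`
    have hdM : (d i)⁻¹ ∈ M := M.inv_mem hdi.2
    have e3 : (d i)⁻¹ * c i * (d i)⁻¹⁻¹ = c i * ζ := by
      rw [inv_inv, mul_assoc, e2]; group
    have hv := p.conj_mem hci hdM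
    have hbl : Bl (c i) ((d i)⁻¹ * c i * (d i)⁻¹⁻¹) := by
      have h2 := p.conj _ hdM _ hdi _ hci hdc
      rw [inv_mul_cancel, one_mul, inv_inv] at h2
      rw [inv_inv]
      rw [inv_inv] at hv
      exact p.trans _ hci _ hdi _ hv (hcd i) h2
    have hcen : Cen K ((d i)⁻¹ * c i * (d i)⁻¹⁻¹) (c i) := by
      rw [e3]
      exact Cen.mul (fun k hk => (p.w.cent hci.1 hk).symm) hζc
    rcases (p.w.cen_iff hci.1 hv.1).1 hcen with h2 | h2
    · have h3 : c i = (d i)⁻¹ * c i * d i := by rwa [inv_inv] at h2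
      calc c i * d i = (d i) * ((d i)⁻¹ * c i * d i) := by group
        _ = d i * c i := by rw [← h3]
    · exact absurd h2 (hn _ hci _ hv hbl)
  -- the factors
  have h2 : ∀ i, c i * d i ≠ 1 → c i * d i ∈ Z ∩ M ∧ Bl (c i) (c i * d i) := by
    intro i hi
    have hci := hc.1 i
    have hdi := hd.1 i
    have hne : c i ≠ d i := by
      intro h2
      rw [← h2] at hi
      exact hi (p.w.sq _ hci.1)
    have hnp : NP K (c i) (d i) := ⟨hne, h1 i, hn _ hci _ hdi (hcd i)⟩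
    have h3 := p.w.mul_mem_of_np hci.1 hdi.1 hnp
    obtain ⟨k, hk, -, -, h4, -⟩ := p.w.flip hci.1 hdi.1 hnp
    have hkM := p.K_le hci hk
    have h5 := p.conj k hkM _ hci _ hdi (hcd i)
    rw [p.w.cent hci.1 hk, mul_inv_cancel_right, h4] at h5
    exact ⟨⟨h3, M.mul_mem hci.2 hdi.2⟩, h5⟩
  have h3 : ∀ i j, i ≠ j → c i * d i ≠ 1 → c j * d j ≠ 1 → ¬ Bl (c i * d i) (c j * d j) := by
    intro i j hij hi hj h3
    obtain ⟨a1, a2⟩ := h2 i hi
    obtain ⟨b1, b2⟩ := h2 j hj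
    exact hc.2 i j hij (p.trans _ (hc.1 i) _ a1 _ (hc.1 j) a2
      (p.trans _ a1 _ b1 _ (hc.1 j) h3 (p.symm _ (hc.1 j) _ b1 b2)))
  -- the product
  have comm_gf : ((Finset.univ : Finset ι) : Set ι).Pairwise fun i j => Commute (d i) (c j) := by
    intro i _ j _ hij
    refine p.cm _ (hd.1 i) _ (hc.1 j) (fun h4 => ?_) _ (p.w.mem _ (hd.1 i).1) _ (p.w.mem _ (hc.1 j).1)
    exact hc.2 i j hij (p.trans _ (hc.1 i) _ (hd.1 i) _ (hc.1 j) (hcd i) h4)
  have hprod : h * k = Finset.univ.noncommProd (c * d)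
      (Finset.noncommProd_mul_distrib_aux (p.fam_comm hc) (p.fam_comm hd) comm_gf) := by
    rw [Finset.noncommProd_mul_distrib c d (p.fam_comm hc) (p.fam_comm hd) comm_gf, hh, hk]
  -- a Sylow subgroup
  let A : Finset G := (Finset.univ.image (fun i => c i * d i)).filter (· ≠ 1)
  have hA : ∀ a ∈ A, ∃ i, a = c i * d i ∧ c i * d i ≠ 1 := by
    intro a ha
    rw [Finset.mem_filter, Finset.mem_image] at ha
    obtain ⟨⟨i, -, rfl⟩, h4⟩ := ha
    exact ⟨i, rfl, h4⟩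
  have hmem : ∀ i, c i * d i ≠ 1 → c i * d i ∈ A := fun i hi =>
    Finset.mem_filter.2 ⟨Finset.mem_image.2 ⟨i, Finset.mem_univ i, rfl⟩, hi⟩
  obtain ⟨S, hS⟩ := (p.w.isPGroup_clique A (by
    intro a ha
    obtain ⟨i, rfl, hi⟩ := hA a ha
    exact (h2 i hi).1.1) (by
    intro a ha b hb hab
    obtain ⟨i, rfl, hi⟩ := hA a ha
    obtain ⟨j, rfl, hj⟩ := hA b hb
    refine ⟨hab, p.cm _ (h2 i hi).1 _ (h2 j hj).1 (h3 i j ?_ hi hj)⟩
    rintro rfl
    exact hab rfl)).exists_le_sylow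
  have hCS : ∀ i, c i * d i ≠ 1 → c i * d i ∈ CS Z K (S : Subgroup G) := fun i hi =>
    ⟨(h2 i hi).1.1, (le_iSup₂ (f := fun z (_ : z ∈ A) => K z) _ (hmem i hi)).trans hS⟩
  -- some factor is not `1`
  obtain ⟨i, hi⟩ : ∃ i, c i * d i ≠ 1 := by
    by_contra hcon
    push Not at hcon
    apply hne
    rw [hprod]
    have h4 : Finset.univ.noncommProd (c * d)
        (Finset.noncommProd_mul_distrib_aux (p.fam_comm hc) (p.fam_comm hd) comm_gf) ∈ (⊥ : Subgroup G) :=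
      Subgroup.noncommProd_mem _ _ fun i _ => mem_bot.2 (hcon i)
    exact mem_bot.1 h4
  have hSM := p.syl S _ (h2 i hi).1 (hCS i hi).2
  refine p.cen S hSM (h * k) ?_ hne
  rw [hprod]
  refine Subgroup.noncommProd_mem _ _ fun i _ => ?_
  by_cases h4 : c i * d i = 1
  · change c i * d i ∈ _
    rw [h4]
    exact one_mem _
  · exact subset_closure (hCS i h4)

end fam

/-- **Case 2** -/
theorem false_of_none {G0 : Subgroup G} (cls : OneCls Z) (c3 : C3 Z K) (f : FSimp G0) (hZ : ∀ z ∈ Z, z ∈ G0)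
    (hB : CloEnd.Bend G0) (h75 : CloEnd.Crit1175 G0)
    (hn : ∀ x ∈ Z ∩ M, ∀ y ∈ Z ∩ M, Bl x y → ¬ CP K x y) : False := by
  classical
  obtain ⟨S, hS⟩ := p.exists_sylow
  obtain ⟨z, hz, u, hu, hne⟩ := p.exists_ne S hS
  haveI : Fintype (CS Z K (S : Subgroup G)) := Fintype.ofFinite _
  let c : CS Z K (S : Subgroup G) → G := Subtype.val
  have hc : Fam Z M Bl c := by
    refine ⟨fun v => p.CS_sub S hS v.2, fun v v' hvv h1 => ?_⟩
    exact hn _ (p.CS_sub S hS v.2) _ (p.CS_sub S hS v'.2) h1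
      (p.w.com v.2.1 v'.2.1 S.isPGroup' v.2.2 v'.2.2 (fun h2 => hvv (Subtype.ext h2)))
  set h := Finset.univ.noncommProd c (p.fam_comm hc) with hh
  have hT : h ∈ TT Z K (S : Subgroup G) := Subgroup.noncommProd_mem _ _ fun v _ => subset_closure v.2
  have hhh : h * h = 1 := p.w.TT_sq S.isPGroup' hT
  -- `h ≠ 1`
  have h1 : h ≠ 1 := by
    intro h1
    obtain ⟨t, ht, ht'⟩ := p.fam_split hc ⟨z, hz⟩
    rw [← hh, h1] at ht
    have hzM := p.CS_sub S hS hz
    obtain ⟨y, hy, hzy, hne'⟩ := p.ntr z hzM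
    have h2 : Cen K z y := by
      have h3 : z = t⁻¹ := eq_inv_of_mul_eq_one_left ht.symm
      rw [h3]
      exact (ht' y hy hzy).inv
    exact hn z hzM y hy hzy (p.w.csymm hy.1 hzM.1 hne'.symm h2).symm
  -- `h` is central in `S`
  have hcent : ∀ s ∈ (S : Subgroup G), s * h * s⁻¹ = h := by
    intro s hs
    have hinj : Function.Injective (fun v : CS Z K (S : Subgroup G) =>
        (⟨s * v * s⁻¹, (p.data S).conjZ s hs v v.2⟩ : CS Z K (S : Subgroup G))) := by
      intro v v' hvv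
      have h2 : s * v * s⁻¹ = s * v' * s⁻¹ := congrArg Subtype.val hvv
      exact Subtype.ext (mul_left_cancel (mul_right_cancel h2))
    let e : CS Z K (S : Subgroup G) ≃ CS Z K (S : Subgroup G) := Equiv.ofBijective _ hinj.bijective_of_finite
    have h2 := Finset.map_noncommProd Finset.univ c (p.fam_comm hc) (MulAut.conj s)
    change s * h * s⁻¹ = _ at h2
    rw [h2]
    exact noncommProd_comp e c _ (p.fam_comm hc)
  -- conjugates by elements of `M`
  have hconj : ∀ g ∈ M, ∃ d : CS Z K (S : Subgroup G) → G, ∃ hd : Fam Z M Bl d, (∀ v, Bl (c v) (d v)) ∧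
      g * h * g⁻¹ = Finset.univ.noncommProd d (p.fam_comm hd) := by
    intro g hg
    have hg' : g⁻¹ ∈ M := M.inv_mem hg
    have hex : ∀ v : CS Z K (S : Subgroup G), ∃ v' : CS Z K (S : Subgroup G), Bl (g⁻¹ * v * g⁻¹⁻¹) v' := by
      intro v
      obtain ⟨v', h2, h3⟩ := p.exists_mem_CS S hS (p.conj_mem (hc.1 v) hg')
      exact ⟨⟨v', h2⟩, h3⟩
    choose τ hτ using hex
    have hτ' : ∀ v, Bl (c v) (g * c (τ v) * g⁻¹) := by
      intro v
      have h2 := p.conj g hg _ (p.conj_mem (hc.1 v) hg') _ (hc.1 (τ v)) (hτ v)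
      have e : g * (g⁻¹ * c v * g⁻¹⁻¹) * g⁻¹ = c v := by group
      rwa [e] at h2
    have hinj : Function.Injective τ := by
      intro v v' hvv
      by_contra hne
      refine hc.2 v v' hne ?_
      have h2 := hτ' v'
      rw [← hvv] at h2
      exact p.trans _ (hc.1 v) _ (p.conj_mem (hc.1 (τ v)) hg) _ (hc.1 v') (hτ' v)
        (p.symm _ (hc.1 v') _ (p.conj_mem (hc.1 (τ v)) hg) h2)
    let e : CS Z K (S : Subgroup G) ≃ CS Z K (S : Subgroup G) := Equiv.ofBijective τ hinj.bijective_of_finite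
    have hd : Fam Z M Bl (fun v => g * c (τ v) * g⁻¹) := by
      refine ⟨fun v => p.conj_mem (hc.1 _) hg, fun v v' hvv h2 => hc.2 v v' hvv ?_⟩
      exact p.trans _ (hc.1 v) _ (p.conj_mem (hc.1 _) hg) _ (hc.1 v') (hτ' v)
        (p.trans _ (p.conj_mem (hc.1 _) hg) _ (p.conj_mem (hc.1 _) hg) _ (hc.1 v') h2
          (p.symm _ (hc.1 v') _ (p.conj_mem (hc.1 _) hg) (hτ' v')))
    refine ⟨fun v => g * c (τ v) * g⁻¹, hd, hτ', ?_⟩
    have h2 := Finset.map_noncommProd Finset.univ c (p.fam_comm hc) (MulAut.conj g)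
    change g * h * g⁻¹ = _ at h2
    rw [h2]
    exact (noncommProd_comp e (fun v => g * c v * g⁻¹) (p.fam_comm hd) _).symm
  -- the criterion
  have hhG : h ∈ G0 := by
    have h2 : TT Z K (S : Subgroup G) ≤ G0 := (closure_le _).2 fun v hv => hZ v hv.1
    exact h2 hT
  obtain ⟨T, hTS⟩ := exists_sylow_subgroupOf f.nor S
  have hS' : (S : Subgroup G) ≤ M := hS
  obtain ⟨H, hH⟩ := h75 (M.subgroupOf G0) (fun h2 => p.not_le f (subgroupOf_eq_top.1 h2)) ⟨h, hhG⟩
    (by rw [← Subgroup.orderOf_coe]; exact orderOf_eq_prime (by rw [pow_two]; exact hhh) h1)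
    (hS (p.w.TT_le hT)) ⟨T, by
      have h2 : (⟨h, hhG⟩ : G0) ∈ (T : Subgroup G0) := by rw [hTS]; exact p.w.TT_le hT
      exact h2, fun s hs => by
      have h2 : s ∈ (T : Subgroup G0) := hs
      rw [hTS] at h2
      exact Subtype.ext (mul_inv_eq_iff_eq_mul.1 (hcent s h2))⟩
    (fun g hg => p.mem' S hS h hT h1 g hg) (fun g hg hg' => by
      have hcm : h * (g * h * (g : G)⁻¹) = g * h * (g : G)⁻¹ * h := congrArg Subtype.val hg.eq
      have hne' : (g : G) * h * (g : G)⁻¹ ≠ h := fun h2 => hg' (Subtype.ext h2)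
      have hgM : (g : G) ∈ M := p.mem' S hS h hT h1 g (p.cen S hS h hT h1 _ hcm.symm)
      obtain ⟨d, hd, hcd, hk⟩ := hconj g hgM
      intro x hx
      refine p.fam_main hn hc hd hcd hh hk hcm ?_ x ?_
      · intro h2
        apply hne'
        exact mul_left_cancel (h2.trans hhh.symm)
      · exact congrArg Subtype.val (mem_centralizer_singleton_iff.1 hx))
  exact false_of_se p.w cls c3 f hZ S hz hu hne hB hH

/-- **the product situation is impossible** -/
theorem false_of {G0 : Subgroup G} (cls : OneCls Z) (c3 : C3 Z K) (f : FSimp G0) (hZ : ∀ z ∈ Z, z ∈ G0)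
    (gold : Cit.ROne.Gold G0) (hB : CloEnd.Bend G0) (h75 : CloEnd.Crit1175 G0) : False := by
  by_cases hex : ∃ x ∈ Z ∩ M, ∃ y ∈ Z ∩ M, Bl x y ∧ CP K x y
  · obtain ⟨x, hx, y, hy, hxy, hc⟩ := hex
    exact p.false_of_pair cls c3 f hZ gold hB hx hy hxy hc
  · exact p.false_of_none cls c3 f hZ hB h75 fun x hx y hy hxy hc => hex ⟨x, hx, y, hy, hxy, hc⟩

end fin

end PE

end Cfsg.Agent.Cit.Nil.Comp
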