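import Cfsg.Agent.Cit.Nil.Comp.ProdFour
import Cfsg.Agent.TwoFusion.Isolated
import Cfsg.Agent.TwoFusion.QuatQuotient
import Cfsg.Agent.S0215
import Cfsg.Agent.Lib.Cores

/-!
# COMP, `r = 1`, the product situation: the case `m = 2` of (F4)

* `zstar_mod` : Glauberman's Z*-theorem modulo a central involution;
* `Fram.mTwo` : `MTwo`, if `O(C(z₁ z₂)) = 1` for the C-pairs `z₁, z₂`.
-/

set_option autoImplicit false
set_option linter.style.haveILetI false
set_option linter.unusedSectionVars false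

namespace Cfsg.Agent.Cit.Nil.Comp

open Subgroup Cfsg Cit Cfsg.Agent.Cit.Nil.ROne Cfsg.Agent.OddOrderLocal.NilParts
open Cfsg.Agent.Cit.Nil.AN (Om Cl OneC Ce Cm)

/-- Z* modulo a central involution `h` of a group without core -/
theorem zstar_quot {X : Type*} [Group X] [Finite X] (hO : Cfsg.oddCore X = ⊥) {h z : X} (hc : h ∈ center X)
    (h2 : orderOf h = 2) (zz : z * z = 1) (z1 : z ≠ 1) (zh : z ≠ h)
    (iso : ∀ g : X, (z * (g * z * g⁻¹) = g * z * g⁻¹ * z ∨ z * (g * z * g⁻¹) = h * (g * z * g⁻¹ * z)) →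
      g * z * g⁻¹ = z ∨ g * z * g⁻¹ = h * z) (g : X) : g * z * g⁻¹ = z ∨ g * z * g⁻¹ = h * z := by
  have hZc : zpowers h ≤ center X := by rw [zpowers_le]; exact hc
  haveI : (zpowers h).Normal := ⟨fun n hn g => by
    have h3 := mem_center_iff.1 (hZc hn) g
    rw [h3, mul_inv_cancel_right]; exact hn⟩
  have hmem : ∀ x : X, x ∈ zpowers h → x = 1 ∨ x = h := by
    intro x hx
    obtain ⟨n, rfl⟩ := mem_zpowers_iff.1 hx
    have hhh : h * h = 1 := by rw [← pow_two, ← h2, pow_orderOf_eq_one]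
    rcases Int.even_or_odd' n with ⟨k, rfl | rfl⟩
    · left
      rw [zpow_mul, zpow_two, hhh, one_zpow]
    · right
      rw [zpow_add, zpow_mul, zpow_two, hhh, one_zpow, one_mul, zpow_one]
  have hmk : ∀ x y : X, (x : X ⧸ zpowers h) = (y : X ⧸ zpowers h) → x = y ∨ x = h * y := by
    intro x y hxy
    have h3 := hmem _ (QuotientGroup.eq.1 hxy.symm)
    rcases h3 with h3 | h3
    · left
      rw [inv_mul_eq_one] at h3
      exact h3.symm
    · right
      rw [inv_mul_eq_iff_eq_mul] at h3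
      rw [h3]
      exact mem_center_iff.1 hc y
  have hQ := Cfsg.Agent.TwoFusion.QuatQuotient.oddCore_quotient_eq_bot hO h hc h2
  set zb : X ⧸ zpowers h := (z : X ⧸ zpowers h) with hzb
  have zb1 : zb ≠ 1 := by
    intro h3
    rcases hmk z 1 h3 with h4 | h4
    · exact z1 h4
    · rw [mul_one] at h4
      exact zh h4
  have zb2 : zb * zb = 1 := by
    rw [hzb, ← QuotientGroup.mk_mul, zz]; rfl
  have hiso : Cfsg.IsIsolatedInvolution zb := by
    refine ⟨orderOf_eq_prime (by rw [pow_two]; exact zb2) zb1, ?_⟩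
    intro gb hcm
    obtain ⟨g, rfl⟩ := QuotientGroup.mk_surjective gb
    have h3 : ((z * (g * z * g⁻¹) : X) : X ⧸ zpowers h) = ((g * z * g⁻¹ * z : X) : X ⧸ zpowers h) := hcm
    have h4 : g * z * g⁻¹ = z ∨ g * z * g⁻¹ = h * z := iso g (hmk _ _ h3)
    have hh1 : ((h : X) : X ⧸ zpowers h) = 1 := by
      rw [QuotientGroup.eq_one_iff]; exact mem_zpowers h
    change ((g * z * g⁻¹ : X) : X ⧸ zpowers h) = zb
    rcases h4 with h4 | h4
    · rw [h4]
    · rw [h4, QuotientGroup.mk_mul, hh1, one_mul]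
  have hI : Cfsg.Agent.Involutions.ZStar.Iso zb := by
    refine ⟨zb2, fun g => ?_⟩
    have h1 := Cfsg.Agent.TwoFusion.Isolated.odd_orderOf_conj_mul hiso g
    have h2 : zb * (g * zb * g⁻¹) = zb * (g * zb * g⁻¹ * zb) * zb⁻¹ := by group
    rw [h2]
    have h3 := (MulAut.conj zb).orderOf_eq (g * zb * g⁻¹ * zb)
    rw [MulAut.conj_apply] at h3
    rw [h3]
    exact h1
  have h5 := Cfsg.Agent.S0215.iso_commutator zb hI (g : X ⧸ zpowers h)
  have h6 : pPrimeCore 2 (X ⧸ zpowers h) = ⊥ := hQ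
  rw [h6, mem_bot] at h5
  have h7 : ((g * z * g⁻¹ : X) : X ⧸ zpowers h) = ((z : X) : X ⧸ zpowers h) := by
    change (g : X ⧸ zpowers h) * zb * (g : X ⧸ zpowers h)⁻¹ = zb
    rw [mul_inv_eq_iff_eq_mul]
    rw [mul_inv_eq_one, mul_inv_eq_iff_eq_mul] at h5
    exact h5.symm
  exact hmk _ _ h7

variable {G : Type*} [Group G]

/-- Z* modulo an involution `h`, in `C(h)` -/
theorem zstar_mod [Finite G] {h z : G} (hh : h * h = 1) (h1 : h ≠ 1)
    (hO : ∀ N : Subgroup G, N ≤ centralizer {h} → centralizer {h} ≤ normalizer (N : Set G) → Odd (Nat.card N) →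
      N = ⊥) (hz : z * h = h * z) (zz : z * z = 1) (z1 : z ≠ 1) (zh : z ≠ h)
    (iso : ∀ g : G, g * h = h * g → (z * (g * z * g⁻¹) = g * z * g⁻¹ * z ∨
      z * (g * z * g⁻¹) = h * (g * z * g⁻¹ * z)) → g * z * g⁻¹ = z ∨ g * z * g⁻¹ = h * z) (g : G)
    (hg : g * h = h * g) : g * z * g⁻¹ = z ∨ g * z * g⁻¹ = h * z := by
  set X : Subgroup G := centralizer {h} with hX
  have hm : ∀ {x : G}, x ∈ X ↔ x * h = h * x := mem_centralizer_singleton_iff
  have hhX : h ∈ X := hm.2 rfl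
  have hOX : Cfsg.oddCore X = ⊥ := by
    have h2 : (Cfsg.oddCore X).map X.subtype = ⊥ := by
      refine hO _ (map_subtype_le _) ?_ ?_
      · intro x hx
        rw [mem_normalizer_iff]
        have key : ∀ y : G, y ∈ (Cfsg.oddCore X).map X.subtype → ∀ x ∈ X,
            x * y * x⁻¹ ∈ (Cfsg.oddCore X).map X.subtype := by
          rintro _ ⟨n, hn, rfl⟩ x hx
          exact ⟨⟨x, hx⟩ * n * ⟨x, hx⟩⁻¹,
            (Cfsg.Agent.Lib.Cores.pPrimeCore_normal 2 : (pPrimeCore 2 X).Normal).conj_mem n hn ⟨x, hx⟩, rfl⟩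
        intro y
        constructor
        · exact fun hy => key y hy x hx
        · intro hy
          have h3 := key _ hy x⁻¹ (inv_mem hx)
          have e : x⁻¹ * (x * y * x⁻¹) * x⁻¹⁻¹ = y := by group
          rwa [e] at h3
      · rw [card_map_of_injective X.subtype_injective]
        exact Nat.coprime_two_right.mp (Cfsg.Agent.Lib.Cores.pPrimeCore_coprime (G := X) 2)
    exact (map_eq_bot_iff_of_injective _ X.subtype_injective).mp h2
  have hc : (⟨h, hhX⟩ : X) ∈ center X := mem_center_iff.2 fun x => Subtype.ext (hm.1 x.2)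
  have ho : orderOf (⟨h, hhX⟩ : X) = 2 := by
    refine orderOf_eq_prime (Subtype.ext ?_) fun h3 => h1 (congrArg Subtype.val h3)
    rw [pow_two]; exact hh
  have h4 := zstar_quot hOX (z := (⟨z, hm.2 hz⟩ : X)) hc ho (Subtype.ext zz)
    (fun h3 => z1 (congrArg Subtype.val h3)) (fun h3 => zh (congrArg Subtype.val h3))
    (fun g hg' => by
      have h5 := iso g.1 (hm.1 g.2) (hg'.imp (fun e => congrArg Subtype.val e) fun e => congrArg Subtype.val e)
      exact h5.imp (fun e => Subtype.ext e) fun e => Subtype.ext e) ⟨g, hm.2 hg⟩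
  exact h4.imp (fun e => congrArg Subtype.val e) fun e => congrArg Subtype.val e

namespace Fram

variable {Z : Set G} {K : G → Subgroup G} {Sg Kl : G → Set G}

/-- **`m = 2`** -/
theorem mTwo [Finite G] (f : Fram Z K Sg Kl) (w : W Z K) (S : Sylow 2 G)
    (cf : ∀ z ∈ Z, ∀ u ∈ Z, CP K z u → ∀ N : Subgroup G, N ≤ centralizer {z * u} →
      centralizer {z * u} ≤ normalizer (N : Set G) → Odd (Nat.card N) → N = ⊥) : MTwo Z K (S : Subgroup G) := by
  intro z₁ z₂ hne hCS hall hone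
  have hS := S.isPGroup'
  have hz1 : z₁ ∈ CS Z K (S : Subgroup G) := by rw [hCS]; exact Or.inl rfl
  have hz2 : z₂ ∈ CS Z K (S : Subgroup G) := by rw [hCS]; exact Or.inr rfl
  have hcp := w.com hz1.1 hz2.1 hS hz1.2 hz2.2 hne
  have hcomm : z₁ * z₂ = z₂ * z₁ := w.comm_of_cp hz1.1 hz2.1 hcp
  have hzz1 := w.sq z₁ hz1.1
  have hzz2 := w.sq z₂ hz2.1
  set h := z₁ * z₂ with hh
  have h_ne : h ≠ 1 := w.cp_mul_ne hz2.1 hcp
  have hh2 : h * h = 1 := by
    rw [hh]
    calc z₁ * z₂ * (z₁ * z₂) = z₁ * (z₂ * z₁) * z₂ := by group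
      _ = z₁ * (z₁ * z₂) * z₂ := by rw [← hcomm]
      _ = (z₁ * z₁) * (z₂ * z₂) := by group
      _ = 1 := by rw [hzz1, hzz2, one_mul]
  have e1 : h * z₁ = z₂ := by rw [hcomm, mul_assoc, hzz1, mul_one]
  have e2 : h * z₂ = z₁ := by rw [hh, mul_assoc, hzz2, mul_one]
  have e3 : z₁ * h = z₂ := by rw [hh, ← mul_assoc, hzz1, one_mul]
  have hz1h : z₁ * h = h * z₁ := e3.trans e1.symm
  have hz1S : z₂ ∈ Sg z₁ := f.cs_sub w hS hz1 hz2
  -- `z₂` is in another class
  have hn : z₂ ∉ Kl z₁ := by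
    intro h3
    obtain ⟨s, hs, hsn⟩ := f.ex z₁ hz1.1
    obtain ⟨v, hv, hvS⟩ := f.meets w S hz1 hs
    have hvn : v ∉ Kl z₁ := fun h4 => hsn (by
      have h5 : s ∈ Kl v := f.kl_symm (f.mem_Z hz1.1 hs) hv
      rw [f.klEq z₁ hz1.1 v h4] at h5
      exact h5)
    rw [hCS] at hvS
    rcases hvS with rfl | rfl
    · exact hvn (f.self _ hz1.1)
    · exact hvn h3
  -- the main claim
  have key : ∀ c ∈ Sg z₁, Cen K h c → c = z₁ ∨ c = z₂ := by
    intro c hc hch
    have hcZ := f.mem_Z hz1.1 hc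
    have h3 : c ∈ CS Z K (S : Subgroup G) := by
      obtain ⟨v, hv, hvS⟩ := f.meets w S hz1 hc
      have hcv : c ∈ Kl v := f.kl_symm hcZ hv
      refine w.mem_CS_of_clique S hcZ fun y hy => ?_
      by_cases hyc : y = c
      · exact Or.inl hyc
      · right
        -- the element of `{z₁, z₂}` outside the class of `c`
        have main : ∀ a ∈ CS Z K (S : Subgroup G), ∀ b ∈ CS Z K (S : Subgroup G), h * b = a → c ∈ Kl a → b ∉ Kl a →
            ∀ y, y = a ∨ y = b → y ≠ c → CP K y c := by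
          intro a ha b hb hab hca hba y hy hyc
          have hcS : c ∈ Sg b := by
            rw [f.sgEq z₁ hz1.1 b (f.cs_sub w hS hz1 hb)]
            exact hc
          have h4 : CP K b c := f.cm b hb.1 c hcS fun h5 => hba (by
            have h6 : b ∈ Kl c := f.kl_symm hb.1 h5
            rwa [f.klEq a ha.1 c hca] at h6)
          rcases hy with rfl | rfl
          · have h5 : Cen K (h * b) c := hch.mul (w.cen_of_cp hb.1 h4.symm)
            rw [hab] at h5
            exact w.csymm hcZ ha.1 (Ne.symm hyc) h5 |>.symm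
          · exact h4
        rw [hCS] at hvS hy
        rcases hvS with rfl | rfl
        · exact main _ hz1 z₂ hz2 e2 hcv hn y hy hyc
        · refine main _ hz2 z₁ hz1 e1 hcv (fun h4 => hn (f.kl_symm hz2.1 h4)) y ?_ hyc
          exact hy.symm
    rw [hCS] at h3
    exact h3
  have inX : ∀ g : G, g * h = h * g → Cen K h (g * z₁ * g⁻¹) := by
    intro g hg
    have h3 := w.cen_conj hz1.1 g (show Cen K h z₁ from w.TT_cen hS hz1
      (mul_mem (subset_closure hz1) (subset_closure hz2)))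
    have e : g * h * g⁻¹ = h := by rw [hg, mul_inv_cancel_right]
    rwa [e] at h3
  -- Z*
  have inv : ∀ g : G, g * h = h * g → g * z₁ * g⁻¹ = z₁ ∨ g * z₁ * g⁻¹ = z₂ := by
    intro g hg
    rw [← e1]
    have hz1n : z₁ ≠ 1 := w.ne z₁ hz1.1
    have hz2n : z₂ ≠ 1 := w.ne z₂ hz2.1
    refine zstar_mod hh2 h_ne (cf z₁ hz1.1 z₂ hz2.1 hcp) hz1h hzz1 hz1n (fun h3 => hz2n ?_) ?_ g hg
    · rw [← e3, ← h3, hzz1]
    · intro g hg h3
      rw [e1]
      have hcZ : g * z₁ * g⁻¹ ∈ Z := w.conjZ z₁ hz1.1 g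
      refine key _ ?_ (inX g hg)
      apply f.f3 z₁ hz1.1 _ hcZ
      have hci : (g * z₁ * g⁻¹)⁻¹ = g * z₁ * g⁻¹ := w.inv hcZ
      rcases h3 with h3 | h3
      · rw [← h3, mul_inv_cancel_right]
        exact f.selfS hz1.1
      · have h4 : g * z₁ * g⁻¹ * z₁ = h * (z₁ * (g * z₁ * g⁻¹)) := by
          rw [h3, ← mul_assoc, hh2, one_mul]
        have h5 : g * z₁ * g⁻¹ * z₁ * (g * z₁ * g⁻¹)⁻¹ = z₂ := by
          rw [h4, ← mul_assoc, e1, mul_assoc z₂, mul_inv_cancel, mul_one]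
        rw [h5]
        exact hz1S
  have inv2 : ∀ g : G, g * h = h * g → g * z₂ * g⁻¹ = z₁ ∨ g * z₂ * g⁻¹ = z₂ := by
    intro g hg
    have h3 : g * z₂ * g⁻¹ = h * (g * z₁ * g⁻¹) := by
      rw [← e1]
      calc g * (h * z₁) * g⁻¹ = (g * h) * z₁ * g⁻¹ := by group
        _ = h * (g * z₁ * g⁻¹) := by rw [hg]; group
    rcases inv g hg with h4 | h4
    · right
      rw [h3, h4, e1]
    · left
      rw [h3, h4, e2]
  -- `S ≤ C(h)`
  have hSX : (S : Subgroup G) ≤ centralizer {h} := by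
    intro s hs
    rw [mem_centralizer_singleton_iff]
    have h3 := f.cs_conj w hz1 hs
    have h4 := f.cs_conj w hz2 hs
    rw [hCS] at h3 h4
    have inj : s * z₁ * s⁻¹ ≠ s * z₂ * s⁻¹ := fun h5 => hne (mul_left_cancel (mul_right_cancel h5))
    have h5 : s * h * s⁻¹ = h := by
      have e : s * h * s⁻¹ = (s * z₁ * s⁻¹) * (s * z₂ * s⁻¹) := by rw [hh]; group
      rw [e]
      rcases h3 with h3 | h3 <;> rcases h4 with h4 | h4
      · exact absurd (h3.trans h4.symm) inj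
      · rw [h3, h4]
      · rw [h3, h4, ← hcomm]
      · exact absurd (h3.trans h4.symm) inj
    rw [mul_inv_eq_iff_eq_mul] at h5
    exact h5
  -- `Om h = {z₁, z₂}`
  have hOm : ∀ c ∈ Om Z K h, c = z₁ ∨ c = z₂ := by
    intro c hc
    have hcX : K c ≤ centralizer {h} := fun k hk => mem_centralizer_singleton_iff.2 (hc.2 k hk).symm
    obtain ⟨m, hm, hmS⟩ := exists_conj_into S hSX (w.two hc.1) hcX
    have h3 : m * c * m⁻¹ ∈ CS Z K (S : Subgroup G) := by
      refine ⟨w.conjZ c hc.1 m, ?_⟩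
      rw [w.conjK c hc.1]
      intro x hx
      rw [mem_cj] at hx
      have h4 := hmS _ hx
      have e : m * (m⁻¹ * x * m) * m⁻¹ = x := by group
      rwa [e] at h4
    have hm' : m⁻¹ * h = h * m⁻¹ := by
      have h4 := mem_centralizer_singleton_iff.1 (inv_mem hm)
      exact h4
    have e : c = m⁻¹ * (m * c * m⁻¹) * m⁻¹⁻¹ := by group
    rw [hCS] at h3
    rcases h3 with h3 | h3
    · rw [h3] at e
      rw [e]
      exact inv m⁻¹ hm'
    · have h3' : m * c * m⁻¹ = z₂ := h3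
      rw [h3'] at e
      rw [e]
      exact inv2 m⁻¹ hm'
  -- the class of `z₁` in `C(h)` is `{z₁}`
  have hcl : ∀ c ∈ Cl Z K h z₁, c = z₁ := by
    intro c hc
    have hc' : Relation.ReflTransGen (AN.St Z K h) z₁ c := hc
    clear hc
    induction hc' with
    | refl => rfl
    | tail h3 h4 ih =>
      rw [ih] at h4
      rcases hOm _ h4.1 with h5 | h5
      · exact h5
      · rw [h5] at h4
        exact absurd hcp.2 h4.2
  have hz2O : z₂ ∈ Om Z K h := ⟨hz2.1, w.TT_cen hS hz2 (mul_mem (subset_closure hz1) (subset_closure hz2))⟩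
  exact hne (hcl z₂ (hall z₂ hz2O)).symm

end Fram

end Cfsg.Agent.Cit.Nil.Comp
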