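import Cfsg.Agent.Cit.Nil.Comp.ProdGlue
import Cfsg.Agent.Cit.Nil.Comp.ProdTwo
import Cfsg.Agent.Cit.Nil.Comp.ProdEnd
import Cfsg.Agent.Cit.Nil.ROne.EndGlue
import Cfsg.Agent.Cit.Nil.ROne.MTwoInst

/-!
# S1309 (6b), `r = 1`, COMP: the product situation is impossible

* `PE.of_fram` : the input of helper191's end, from `Fram`;
* `World.false_of_frames` : `World Z K`, `TP Z K` (`T'` : the classes of `C(s)`, `s ∈ T_S#`, are nil or `ONE`), every
  `z ∈ Z` lies in a frame: contradiction, with `Gold`, `Bend`, `Crit1175` for `F*(G)`.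
-/

set_option autoImplicit false
set_option linter.style.haveILetI false
set_option linter.unusedSectionVars false

namespace Cfsg.Agent.Cit.Nil.Comp

open Subgroup Cfsg Cfsg.Agent.Cit Cfsg.Agent.Cit.Nil.ROne Cfsg.Agent.OddOrderLocal.NilParts

variable {G : Type*} [Group G] [Finite G] {Z : Set G} {K : G → Subgroup G} {z x g s : G}

/-- an odd normal subgroup of `C(t)` is trivial -/
theorem World.odd_eq_bot (h : World Z K) {t : G} (ht : orderOf t = 2) {N : Subgroup G} (hN : N ≤ centralizer {t})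
    (hn : centralizer {t} ≤ normalizer (N : Set G)) (ho : Odd (Nat.card N)) : N = ⊥ := by
  have h1 := h.oddCore_cent ht
  have h2 : (N.subgroupOf (centralizer {t})).Normal := (normal_subgroupOf_iff_le_normalizer hN).2 hn
  have h3 : Nat.card (N.subgroupOf (centralizer {t})) = Nat.card N :=
    Nat.card_congr (subgroupOfEquivOfLe hN).toEquiv
  have h4 : N.subgroupOf (centralizer {t}) ≤ oddCore (centralizer {t}) :=
    Lib.Cores.le_pPrimeCore h2 (by rw [h3]; exact Nat.Coprime.symm (Nat.coprime_two_left.2 ho))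
  rw [h1, le_bot_iff, subgroupOf_eq_bot] at h4
  exact (disjoint_iff.1 h4).symm ▸ (inf_eq_left.2 hN).symm

theorem World.pw (h : World Z K) (tp : TP Z K) (fr : ∀ z ∈ Z, ∃ F, Frm Z K F ∧ ∃ A ∈ F, z ∈ A) : PW Z K where
  w := h.w
  tp := tp
  fr := fr
  cf _ hz _ h1 h2 h3 := World.odd_eq_bot h (h.w.ord hz) h1 h2 h3

/-- the input of the end -/
theorem PE.of_fram (p : PW Z K) (f : Fram Z K (sgOf Z K) (klOf Z K)) (hz : z ∈ Z)
    (m2 : ∀ S : Sylow 2 G, MTwo Z K (S : Subgroup G)) :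
    PE Z K (f.MM hz) fun x y => y ∈ klOf Z K x := by
  have sg : ∀ x, x ∈ Z ∩ (f.MM hz : Set G) → x ∈ sgOf Z K z := fun x hx => f.mem_of_MM hz hx.1 hx.2
  have gs : ∀ x, x ∈ sgOf Z K z → x ∈ Z ∩ (f.MM hz : Set G) := fun x hx =>
    ⟨f.mem_Z hz hx, f.mem_MM_of_comm hz hx rfl⟩
  refine ⟨p.w, ?_, ?_, ?_, ?_, ?_, ?_, ?_, ?_, ?_, ?_, ?_, ?_⟩
  · exact fun x hx => f.self x hx.1
  · exact fun x hx y _ h => f.kl_symm hx.1 h
  · intro x hx y _ v _ h1 h2
    rwa [f.klEq x hx.1 y h1] at h2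
  · exact fun g _ x _ y _ h => klOf_conj p.w g h
  · intro x hx y hy hn
    have h1 := f.cm' hz (sg x hx) (sg y hy) hn
    exact h1.2
  · obtain ⟨u, hu, hn⟩ := f.ex z hz
    exact ⟨z, gs z (f.selfS hz), u, gs u hu, hn⟩
  · intro x hx
    obtain ⟨b, hb, b', hb', hne, -⟩ := f.nc x hx.1
    have hsub : ∀ y ∈ klOf Z K x, y ∈ Z ∩ (f.MM hz : Set G) := fun y hy => gs y (f.kl_sub hz (sg x hx) hy)
    by_cases h1 : x = b
    · exact ⟨b', hsub b' hb', hb', fun h2 => hne (h1.symm.trans h2)⟩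
    · exact ⟨b, hsub b hb, hb, h1⟩
  · exact fun x _ y _ hxy hc v _ hxv => one_of_klOf p.w p.tp hxy hxv hc
  · exact fun x hx g hg => f.mem_of_fus p.w hz (sg x hx) hg
  · exact fun S x hx hxS => f.S_le_of_mem p.w hz S (sg x hx) hxS
  · intro S hS s hs hs1 c hc
    exact f.cen p.w hz S hS (p.tp.tps S) (m2 S) hs hs1 (mem_centralizer_singleton_iff.2 hc)
  · exact fun S hS s hs hs1 g hg => f.mem' p.w hz S hS (p.tp.tps S) (m2 S) hs hs1 hg

/-- **the product situation is impossible** -/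
theorem World.false_of_frames (h : World Z K) (tp : TP Z K) (fr : ∀ z ∈ Z, ∃ F, Frm Z K F ∧ ∃ A ∈ F, z ∈ A)
    (gold : Cit.ROne.Gold ↥(generalizedFittingSubgroup G)) (hB : CloEnd.Bend ↥(generalizedFittingSubgroup G))
    (h75 : CloEnd.Crit1175 ↥(generalizedFittingSubgroup G)) : False := by
  have p := World.pw h tp fr
  have f := p.fram h.c3
  have m2 : ∀ S : Sylow 2 G, MTwo Z K (S : Subgroup G) := fun S =>
    f.mTwo p.w S fun z hz u hu hc N h1 h2 h3 => by
      refine World.odd_eq_bot h ?_ h1 h2 h3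
      have hcm := p.w.comm_of_cp hz hu hc
      refine orderOf_eq_prime ?_ (p.w.cp_mul_ne hu hc)
      rw [pow_two]
      calc z * u * (z * u) = z * (u * z) * u := by group
        _ = z * (z * u) * u := by rw [hcm]
        _ = (z * z) * (u * u) := by group
        _ = 1 := by rw [p.w.sq z hz, p.w.sq u hu, one_mul]
  obtain ⟨S, z, hz, -⟩ := h.two
  exact (PE.of_fram p f hz m2).false_of h.one h.c3 (FSimp.of_fs h.toFS) (fun z hz => h.w.mem_fstar h.toFS hz) gold
    hB h75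

end Cfsg.Agent.Cit.Nil.Comp
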