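import Cfsg.Agent.Cit.Nil.Comp.ProdM
import Cfsg.Agent.Cit.Nil.Comp.ProdFrm

/-!
# S1309 (6b), `r = 1`, COMP: the product situation, from `PW` to `Fram`
-/

set_option autoImplicit false
set_option linter.style.haveILetI false

namespace Cfsg.Agent.Cit.Nil.Comp

open Subgroup Cfsg Cfsg.Agent.Cit Cfsg.Agent.Cit.Nil.ROne Cfsg.Agent.Cit.Nil.AN

variable {G : Type*} [Group G] {Z : Set G} {K : G → Subgroup G} {z x g s : G}

/-- helper191's structure -/
theorem PW.fram [Finite G] (p : PW Z K) (c3 : C3 Z K) : Fram Z K (sgOf Z K) (klOf Z K) :=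
  Fram.of_frm p.w p.fr (fun _ hu _ hv hc => p.cp hu hv hc) (fun _ hx _ hu hc => p.csw hu hx hc)
    (fun _ hz _ hx hc => p.sf_of_mem c3 hz hx hc)

theorem mem_sgOf : x ∈ sgOf Z K z ↔ SF Z K z x := Iff.rfl

end Cfsg.Agent.Cit.Nil.Comp
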