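import Cfsg.Agent.Cit.Nil.Comp.Product
import Cfsg.Agent.Cit.Nil.Comp.TBEnd
import Cfsg.Agent.Cit.Nil.ROne.GraphB

/-!
# S1309 (6b), `r = 1`, COMP: the product situation, the subgroup `M` (helper454, bb R18 #15492 (F3))

* `PW.PM` : the stabiliser of the frame of `z`;
* `PW.sf_of_mem`, `PW.mem_of_mem` : **(F3)** `Z ∩ M = Σ`, and `M` controls the fusion of `Σ`.

No K-fact is used: the case `m = 2`, two blocks, is `TB.false_of`.
-/

set_option autoImplicit false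
set_option linter.style.haveILetI false
set_option linter.unusedSectionVars false

namespace Cfsg.Agent.Cit.Nil.Comp

open Subgroup Cfsg Cfsg.Agent.Cit Cfsg.Agent.Cit.Nil.ROne Cfsg.Agent.Cit.Nil.AN
open Cfsg.Agent.OddOrderLocal.NilParts Cfsg.Agent.StdEven.Syl

variable {G : Type*} [Group G] {Z : Set G} {K : G → Subgroup G} {z u v x y g s a b c : G} {A B : Set G}
  {F F' : Set (Set G)}

namespace PW

section

variable [Finite G] (p : PW Z K)

/-- the stabiliser of the frame of `z` -/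
def PM (z : G) (hz : z ∈ Z) : Subgroup G where
  carrier := {g | SF Z K z (g * z * g⁻¹)}
  one_mem' := by
    change SF Z K z (1 * z * 1⁻¹)
    rw [one_mul, inv_one, mul_one]
    exact p.sf_refl hz
  mul_mem' := by
    intro a b ha hb
    have h1 := p.sf_conj a hb
    rw [Gr.conj_conj] at h1
    exact p.sf_trans ha h1
  inv_mem' := by
    intro a ha
    have h1 := p.sf_conj a⁻¹ ha
    rw [Gr.conj_inv_conj] at h1
    exact h1.symm

include p

theorem mem_PM_iff (hz : z ∈ Z) : g ∈ p.PM z hz ↔ SF Z K z (g * z * g⁻¹) := Iff.rfl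

theorem PM_eq (h : SF Z K x y) : p.PM x h.mem_left = p.PM y h.mem_right := by
  have key : ∀ {x y : G} (h : SF Z K x y), p.PM x h.mem_left ≤ p.PM y h.mem_right := by
    intro x y h g hg
    exact p.sf_trans h.symm (p.sf_trans hg (p.sf_conj g h))
  exact le_antisymm (key h) (key h.symm)

theorem mem_PM_of_sf (hz : z ∈ Z) (h : SF Z K z x) (hg : SF Z K x (g * x * g⁻¹)) : g ∈ p.PM z hz := by
  have h1 := p.PM_eq h
  rw [h1]
  exact hg

theorem centralizer_le (hz : z ∈ Z) (h : SF Z K z x) : centralizer {x} ≤ p.PM z hz := by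
  intro g hg
  refine p.mem_PM_of_sf hz h ?_
  rw [mem_centralizer_singleton_iff.1 hg, mul_inv_cancel_right]
  exact p.sf_refl h.mem_right

theorem mem_PM (hz : z ∈ Z) (h : SF Z K z x) : x ∈ p.PM z hz :=
  p.centralizer_le hz h (mem_centralizer_singleton_iff.2 rfl)

/-- the members of `S` lie in one frame -/
theorem sf_CS {S : Subgroup G} (hS : IsPGroup 2 S) (hz : z ∈ CS Z K S) (hu : u ∈ CS Z K S) : SF Z K z u := by
  by_cases h1 : z = u
  · rw [← h1]
    exact p.sf_refl hz.1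
  · exact p.cp hz.1 hu.1 (p.w.com hz.1 hu.1 hS hz.2 hu.2 h1)

theorem conj_CS {S : Subgroup G} (hx : x ∈ S) (hz : z ∈ CS Z K S) : x * z * x⁻¹ ∈ CS Z K S := by
  refine ⟨p.w.conjZ z hz.1 x, ?_⟩
  rw [p.w.conjK z hz.1]
  intro k hk
  have h2 := mul_mem (mul_mem hx (hz.2 (mem_cj.1 hk))) (inv_mem hx)
  simpa [mul_assoc] using h2

theorem sylow_le {S : Subgroup G} (hS : IsPGroup 2 S) (hz : z ∈ Z) (h1 : K z ≤ S) : S ≤ p.PM z hz := fun _ hs =>
  p.sf_CS hS ⟨hz, h1⟩ (p.conj_CS hs ⟨hz, h1⟩)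

/-- an element of the frame of `z` lies in a block -/
theorem exists_block (f : Frm Z K F) (hA : A ∈ F) (hz : z ∈ A) (h : SF Z K z v) : ∃ C ∈ F, v ∈ C := by
  obtain ⟨F', f', ⟨A', hA', hz'⟩, hv⟩ := h
  obtain ⟨rfl, -⟩ := f.uniq p.w f' hA hA' hz hz'
  exact hv

/-- `C_S` meets all blocks -/
theorem meet (f : Frm Z K F) {S : Sylow 2 G} (hz : z ∈ CS Z K (S : Subgroup G)) (hA : A ∈ F) (hzA : z ∈ A)
    (hB : B ∈ F) : ∃ u ∈ CS Z K (S : Subgroup G), u ∈ B := by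
  by_contra hcon
  push Not at hcon
  obtain ⟨b, hb⟩ := f.ne B hB
  refine hcon b (p.w.mem_CS_of_clique S (f.sub B hB hb) fun v hv => Or.inr ?_) hb
  obtain ⟨C, hC, hvC⟩ := p.exists_block f hA hzA (p.sf_CS S.isPGroup' hz hv)
  refine p.cp_of f hC hB ?_ hvC hb
  rintro rfl
  exact hcon v hv hvC

/-- (F3) for elements of a Sylow subgroup -/
theorem sf_of_sylow (c3 : C3 Z K) (S : Sylow 2 G) (hz : z ∈ CS Z K (S : Subgroup G)) (hx : x ∈ Z)
    (hxS : x ∈ (S : Subgroup G)) : SF Z K z x := by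
  by_contra hn
  have hS := S.isPGroup'
  have hcom : ∀ v ∈ CS Z K (S : Subgroup G), x * v = v * x := by
    intro v hv
    by_contra hne
    have hv' := p.conj_CS hxS hv
    have hne' : v ≠ x * v * x⁻¹ := fun e => hne (by
      calc x * v = x * v * x⁻¹ * x := by group
        _ = v * x := by rw [← e])
    exact hn (p.sf_trans (p.sf_CS hS hz hv) (p.csw hv.1 hx (p.w.com hv.1 hv'.1 hS hv.2 hv'.2 hne')))
  have hnc : ∀ {v : G}, SF Z K z v → ¬ CP K x v := fun hv hc => hn (p.sf_trans hv (p.cp hx hv.mem_right hc).symm)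
  have hxv : ∀ {v : G}, SF Z K z v → x ≠ v := fun hv e => hn (e ▸ hv)
  have hT : ∀ v₁ ∈ CS Z K (S : Subgroup G), ∀ v₂ ∈ CS Z K (S : Subgroup G), v₁ ≠ v₂ → Cen K (v₁ * v₂) x := by
    intro v₁ h1 v₂ h2 hne
    have s1 := p.sf_CS hS hz h1
    have s2 := p.sf_CS hS hz h2
    exact p.w.triple_cen hx h1.1 h2.1 (p.w.com h1.1 h2.1 hS h1.2 h2.2 hne) (hcom v₁ h1) (hcom v₂ h2) (hnc s1) (hnc s2)
      (hxv s1) (hxv s2)
  obtain ⟨F, f, A, hA, hzA⟩ := p.fr z hz.1
  have hbl : ∀ v₁ ∈ CS Z K (S : Subgroup G), ∀ v₂ ∈ CS Z K (S : Subgroup G), v₁ ≠ v₂ → ∀ B ∈ F, v₁ ∈ B ∨ v₂ ∈ B := by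
    intro v₁ h1 v₂ h2 hne B hB
    by_contra hcon
    push Not at hcon
    obtain ⟨C₁, hC₁, hv₁⟩ := p.exists_block f hA hzA (p.sf_CS hS hz h1)
    obtain ⟨C₂, hC₂, hv₂⟩ := p.exists_block f hA hzA (p.sf_CS hS hz h2)
    have e1 : ∀ b ∈ B, Cm (K v₁) (K b) := fun b hb =>
      (p.cp_of f hC₁ hB (by rintro rfl; exact hcon.1 hv₁) hv₁ hb).2
    have e2 : ∀ b ∈ B, Cm (K v₂) (K b) := fun b hb =>
      (p.cp_of f hC₂ hB (by rintro rfl; exact hcon.2 hv₂) hv₂ hb).2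
    have hc := p.w.com h1.1 h2.1 hS h1.2 h2.2 hne
    apply hn
    refine p.block' f hB (TP.of_mul p.w p.tp h1.1 h2.1 hc) (fun b hb => ?_) (z := v₁) ⟨h1.1, ?_⟩ e1 (x := x)
      ⟨hx, hT v₁ h1 v₂ h2 hne⟩ (fun h3 => ?_) hA hzA
    · exact (ce_of_cm p.w h1.1 (e1 b hb).symm).mul (ce_of_cm p.w h2.1 (e2 b hb).symm)
    · exact (ce_self p.w h1.1).mul (ce_of_cm p.w h2.1 hc.2)
    · exact hnc (p.sf_CS hS hz h1) ((cp_iff p.w hx).2 h3)
  obtain ⟨B, hB, hBA⟩ := f.other hA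
  obtain ⟨u, huS, huB⟩ := p.meet f hz hA hzA hB
  have hzB : z ∉ B := fun h1 => hBA (f.disj p.w hB hA h1 hzA)
  have huA : u ∉ A := fun h1 => hBA (f.disj p.w hB hA huB h1)
  have hzu : z ≠ u := fun e => hzB (e ▸ huB)
  have hF : ∀ C ∈ F, C = A ∨ C = B := by
    intro C hC
    rcases hbl z hz u huS hzu C hC with h1 | h1
    · exact Or.inl (f.disj p.w hC hA h1 hzA)
    · exact Or.inr (f.disj p.w hC hB h1 huB)
  have h2 : ∀ v ∈ CS Z K (S : Subgroup G), v = z ∨ v = u := by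
    intro v hv
    by_contra hcon
    push Not at hcon
    obtain ⟨C, hC, hvC⟩ := p.exists_block f hA hzA (p.sf_CS hS hz hv)
    rcases hF C hC with rfl | rfl
    · rcases hbl z hz v hv (Ne.symm hcon.1) B hB with h3 | h3
      · exact hzB h3
      · exact hBA (f.disj p.w hB hC h3 hvC)
    · rcases hbl u huS v hv (Ne.symm hcon.2) A hA with h3 | h3
      · exact huA h3
      · exact hBA (f.disj p.w hC hA hvC h3)
  have hCS : CS Z K (S : Subgroup G) = {z, u} := by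
    ext v
    constructor
    · exact fun hv => h2 v hv
    · rintro (rfl | rfl)
      · exact hz
      · exact huS
  have hcard : ∀ S' : Sylow 2 G, (CS Z K (S' : Subgroup G)).ncard = 2 := by
    intro S'
    haveI : Fact (Nat.Prime 2) := ⟨Nat.prime_two⟩
    obtain ⟨g, hg⟩ := MulAction.exists_smul_eq G S S'
    have hgS : (S' : Subgroup G) = cj g S := by
      rw [← hg]
      rfl
    rw [hgS, p.w.ncard_CS_cj g S, hCS]
    exact Set.ncard_pair hzu
  have hBn : B ∈ NN Z K z := by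
    rw [f.nn A hA z hzA]
    exact ⟨hB, hBA⟩
  have hcp := p.w.com hz.1 huS.1 hS hz.2 huS.2 hzu
  have n3 : ∀ a ∈ Z, ∀ b ∈ Z, ∀ c ∈ Z, CP K a b → CP K a c → CP K b c → False := by
    intro a ha b hb c hc hab hac hbc
    obtain ⟨S', ha', hb'⟩ := p.w.exists_sylow_of_cp ha hb hab
    obtain ⟨v, w, -, hvw⟩ := Set.ncard_eq_two.1 (hcard S')
    have h3 : ∀ y ∈ CS Z K (S' : Subgroup G), y = a ∨ y = b := by
      intro y hy
      rw [hvw] at ha' hb' hy
      rcases ha' with h4 | h4 <;> rcases hb' with h5 | h5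
      · exact (hab.1 (h4.trans h5.symm)).elim
      · rcases hy with h6 | h6
        · exact Or.inl (h6.trans h4.symm)
        · exact Or.inr (Eq.trans h6 (Eq.symm h5))
      · rcases hy with h6 | h6
        · exact Or.inr (h6.trans h5.symm)
        · exact Or.inl (Eq.trans h6 (Eq.symm h4))
      · exact (hab.1 (Eq.trans h4 (Eq.symm h5))).elim
    have h4 : c ∈ CS Z K (S' : Subgroup G) := p.w.mem_CS_of_clique S' hc fun y hy => by
      rcases h3 y hy with rfl | rfl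
      · exact Or.inr hac
      · exact Or.inr hbc
    rcases h3 c h4 with h5 | h5
    · exact hac.1 h5.symm
    · exact hbc.1 h5.symm
  have hsA : ∀ {v : G}, v ∈ A → CP K v u := fun hv => p.cp_of f hA hB hBA.symm hv huB
  have hsB : ∀ {v : G}, v ∈ B → CP K v z := fun hv => p.cp_of f hB hA hBA hv hzA
  have hsg : ∀ {v : G}, SF Z K z v → v ∈ A ∨ v ∈ B := by
    intro v hv
    obtain ⟨C, hC, hvC⟩ := p.exists_block f hA hzA hv
    rcases hF C hC with rfl | rfl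
    · exact Or.inl hvC
    · exact Or.inr hvC
  have hsu : SF Z K z u := p.sf_CS hS hz huS
  have hsv : ∀ {v : G}, v ∈ Z → (CP K v u ∨ CP K v z) → SF Z K z v := by
    rintro v hv (h3 | h3)
    · exact p.sf_trans hsu (p.cp hv huS.1 h3).symm
    · exact (p.cp hv hz.1 h3).symm
  have hsg' : ∀ {v : G}, SF Z K z v → CP K v u ∨ CP K v z := fun hv => (hsg hv).imp hsA hsB
  have t : TB Z K z u := by
    refine ⟨p.w, hz.1, huS.1, hcp, n3, ?_, ?_, ?_⟩
    · intro a ha b hb hau hbz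
      have h3 : a ∈ A := (hsg (hsv ha (Or.inl hau))).resolve_right fun h4 => n3 a ha z hz.1 u huS.1 (hsB h4) hau hcp
      have h4 : b ∈ B := (hsg (hsv hb (Or.inr hbz))).resolve_left fun h5 => n3 b hb z hz.1 u huS.1 hbz (hsA h5) hcp
      exact p.cp_of f hA hB hBA.symm h3 h4
    · intro v hv y hy h3 h4
      exact hsg' (p.sf_trans (hsv hv h3) (p.cp hv hy h4))
    · rintro y hy v (rfl | rfl) h4
      · exact hsg' (p.csw hz.1 hy h4)
      · exact hsg' (p.sf_trans hsu (p.csw huS.1 hy h4))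
  obtain ⟨c, hc⟩ := t.exists_bu (p.cf z hz.1) (by
    by_contra hcon
    push Not at hcon
    have h3 := NN_cl p.w hBn huB
    exact h3.2.1 (nil_of_ce p.w h3.1 fun v hv k hk => (hcon k ((cl_sub h3.1 hv).2 k hk).symm).symm))
  exact t.false_of c3 hc hx ⟨hxv (p.sf_refl hz.1), hcom z hz, hnc (p.sf_refl hz.1)⟩ ⟨hxv hsu, hcom u huS, hnc hsu⟩

/-- **(F3)** `Z ∩ M = Σ` -/
theorem sf_of_mem (c3 : C3 Z K) (hz : z ∈ Z) (hx : x ∈ Z) (hxM : x ∈ p.PM z hz) : SF Z K z x := by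
  obtain ⟨S, hzS⟩ := p.w.exists_sylow hz
  have hSM : (S : Subgroup G) ≤ p.PM z hz := p.sylow_le S.isPGroup' hz hzS.2
  have hSy : IsSyl (S : Subgroup G) (p.PM z hz) := (isSyl_top_of_sylow S).mono hSM le_top
  obtain ⟨n, hn, hn2⟩ := hSy.exists_conj (isPGroup_zpowers_inv (p.w.sq x hx)) (by rwa [zpowers_le])
  have h1 := p.sf_of_sylow c3 S hzS (p.w.conjZ x hx n) (hn2 x (mem_zpowers x))
  have h2 := p.sf_conj n⁻¹ h1
  rw [Gr.conj_inv_conj] at h2
  exact p.sf_trans ((p.mem_PM_iff hz).1 (inv_mem hn)) h2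

/-- **(F3)** `M` controls the fusion of `Σ` -/
theorem mem_of_mem (c3 : C3 Z K) (hz : z ∈ Z) (hx : x ∈ Z) (h1 : x ∈ p.PM z hz) (h2 : g⁻¹ * x * g ∈ p.PM z hz) :
    g ∈ p.PM z hz := by
  have h3 := p.sf_of_mem c3 hz hx h1
  have hx' : g⁻¹ * x * g⁻¹⁻¹ ∈ Z := p.w.conjZ x hx g⁻¹
  rw [inv_inv] at hx'
  have h4 := p.sf_of_mem c3 hz hx' h2
  have h5 := p.sf_conj g h4
  have h6 : g * (g⁻¹ * x * g) * g⁻¹ = x := by group
  rw [h6] at h5
  exact p.sf_trans h3 h5.symm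

end

end PW

end Cfsg.Agent.Cit.Nil.Comp
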