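import Cfsg.Agent.Cit.Nil.Comp.Frame
import Cfsg.Agent.Cit.Nil.AN.Inst
import Cfsg.Agent.Cit.Nil.AN.Two
import Cfsg.Agent.Cit.OneBasic
import Cfsg.Agent.Cit.Nil.ROne.Swap

/-!
# S1309 (6b), `r = 1`, COMP: the product situation (helper454, bb R18 #15492 (F1)-(F3))

`PW Z K` : every `z ∈ Z` lies in a frame (`Frm`), `T'`, and no normal subgroup of odd order in `C(z)`.
`SF Z K x y` : `x` and `y` lie in the same frame.

* `PW.cp` : **(F1)** C-pairs have the same frame;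
* `PW.block` : the block lemma;
* `PW.csw` : **(F2)** C-swaps have the same frame;
* `PW.PM` : the stabiliser of the frame;
* `PW.sf_of_mem`, `PW.mem_of_mem` : **(F3)** `Z ∩ M = Σ`, and `M` controls the fusion of `Σ`.
-/

set_option autoImplicit false
set_option linter.style.haveILetI false
set_option linter.unusedSectionVars false

namespace Cfsg.Agent.Cit.Nil.Comp

open Subgroup Cfsg Cfsg.Agent.Cit Cfsg.Agent.Cit.Nil.ROne Cfsg.Agent.Cit.Nil.AN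
open Cfsg.Agent.OddOrderLocal.NilParts Cfsg.Agent.StdEven.Syl

variable {G : Type*} [Group G] {Z : Set G} {K : G → Subgroup G} {z u v x y g s a b c : G} {A B : Set G}
  {F F' : Set (Set G)}

/-- `x` and `y` lie in the same frame -/
def SF (Z : Set G) (K : G → Subgroup G) (x y : G) : Prop := ∃ F, Frm Z K F ∧ (∃ A ∈ F, x ∈ A) ∧ ∃ B ∈ F, y ∈ B

/-- the product situation -/
structure PW (Z : Set G) (K : G → Subgroup G) : Prop where
  w : W Z K
  tp : TP Z K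
  fr : ∀ z ∈ Z, ∃ F, Frm Z K F ∧ ∃ A ∈ F, z ∈ A
  cf : ∀ z ∈ Z, ∀ N : Subgroup G, N ≤ centralizer {z} → centralizer {z} ≤ normalizer (N : Set G) →
    Odd (Nat.card N) → N = ⊥

namespace SF

theorem symm (h : SF Z K x y) : SF Z K y x := by
  obtain ⟨F, f, h1, h2⟩ := h
  exact ⟨F, f, h2, h1⟩

theorem mem_left (h : SF Z K x y) : x ∈ Z := by
  obtain ⟨F, f, ⟨A, hA, hx⟩, -⟩ := h
  exact f.sub A hA hx

theorem mem_right (h : SF Z K x y) : y ∈ Z := h.symm.mem_left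

end SF

namespace PW

theorem sf_refl (p : PW Z K) (hz : z ∈ Z) : SF Z K z z := by
  obtain ⟨F, f, A, hA, hzA⟩ := p.fr z hz
  exact ⟨F, f, ⟨A, hA, hzA⟩, A, hA, hzA⟩

variable [Finite G] (p : PW Z K)

include p

theorem sf_trans (h1 : SF Z K x y) (h2 : SF Z K y z) : SF Z K x z := by
  obtain ⟨F, f, hA, B, hB, hy⟩ := h1
  obtain ⟨F', f', ⟨B', hB', hy'⟩, hC⟩ := h2
  obtain ⟨rfl, -⟩ := f.uniq p.w f' hB hB' hy hy'
  exact ⟨F, f, hA, hC⟩

theorem sf_conj (g : G) (h1 : SF Z K x y) : SF Z K (g * x * g⁻¹) (g * y * g⁻¹) := by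
  obtain ⟨F, f, ⟨A, hA, hx⟩, B, hB, hy⟩ := h1
  exact ⟨_, f.conj p.w g, ⟨_, ⟨A, hA, rfl⟩, ⟨x, hx, rfl⟩⟩, _, ⟨B, hB, rfl⟩, ⟨y, hy, rfl⟩⟩

/-- elements of different blocks form a C-pair -/
theorem cp_of (f : Frm Z K F) (hA : A ∈ F) (hB : B ∈ F) (hAB : A ≠ B) (ha : a ∈ A) (hb : b ∈ B) : CP K a b :=
  (cp_iff p.w (f.sub A hA ha)).2 (f.cm A hA B hB hAB a ha b hb)

/-- **(F1)** -/
theorem cp (hx : x ∈ Z) (hu : u ∈ Z) (hc : CP K x u) : SF Z K x u := by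
  obtain ⟨F, f, A, hA, hxA⟩ := p.fr x hx
  obtain ⟨F', f', A', hA', huA'⟩ := p.fr u hu
  obtain ⟨B, hB, hBA⟩ := f.other hA
  by_cases huB : u ∈ B
  · exact ⟨F, f, ⟨A, hA, hxA⟩, B, hB, huB⟩
  · have h1 : B ∈ NN Z K x := by
      rw [f.nn A hA x hxA]
      exact ⟨hB, hBA⟩
    have h2 := NN_exch p.w hx hu hc.2 (TP.of_mem p.w p.tp hu) h1 huB
    rw [f'.nn A' hA' u huA'] at h2
    obtain ⟨b, hb⟩ := f.ne B hB
    obtain ⟨rfl, -⟩ := f.uniq p.w f' hB h2.1 hb hb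
    exact ⟨F, f, ⟨A, hA, hxA⟩, A', hA', huA'⟩

/-- **the block lemma** -/
theorem block (f : Frm Z K F) (hB : B ∈ F) (hT : TPs Z K s) (hs : ∀ b ∈ B, Ce s (K b)) (hz : z ∈ Om Z K s)
    (hzB : ∀ b ∈ B, Cm (K z) (K b)) (hx : x ∈ Om Z K s) (hn : ¬ Cm (K x) (K z)) : ∀ b ∈ B, Cm (K x) (K b) := by
  obtain ⟨C, hC, hCB⟩ := f.other hB
  obtain ⟨c, hc⟩ := f.ne C hC
  intro b hb
  have hBc : B ∈ NN Z K c := by
    rw [f.nn C hC c hc]
    exact ⟨hB, fun e => hCB (Set.mem_singleton_iff.1 e).symm⟩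
  obtain ⟨h1, h2, h3⟩ := NN_cl p.w hBc hb
  have hsub : Cl Z K c b ⊆ Om Z K s := fun y hy => ⟨(cl_sub h1 hy).1, hs y (by rw [h3]; exact hy)⟩
  have hin : B ⊆ Cl Z K s b := by
    rw [h3]
    exact cl_mono hsub
  have hbs : b ∈ Om Z K s := ⟨f.sub B hB hb, hs b hb⟩
  have hnn : b ∉ oP 2 (centralizer {s}) := fun h4 => h2 (nil_down p.w h1 (isPGroup_oP 2 _) fun y hy =>
    (nil_cl p.w hbs (hin (by rw [h3]; exact hy))).2 h4)
  have hone := (hT b hbs).resolve_left hnn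
  have hzn : z ∉ Cl Z K s b := by
    intro h4
    obtain ⟨y, hy, hyb, hny⟩ := f.exists_not_cm p.w hB hb
    apply hny
    have h5 := hone z h4 y (hin hy) (hzB y hy) b (cl_refl s b)
    have h6 : Ce z (K b) := ce_of_cm p.w hz.1 (hzB b hb).symm
    have h7 : z * (z * y) = y := by rw [← mul_assoc, p.w.sq z hz.1, one_mul]
    have h8 : Ce y (K b) := by
      rw [← h7]
      exact h6.mul h5
    exact (p.w.csymm (f.sub B hB hb) (f.sub B hB hy) hyb.symm h8).2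
  have hxn : x ∉ Cl Z K s b := fun h4 => hzn (cl_step h4 hz hn)
  exact (cl_cm (cl_refl s b) hx hxn).symm

/-- the block lemma, conclusion -/
theorem block' (f : Frm Z K F) (hB : B ∈ F) (hT : TPs Z K s) (hs : ∀ b ∈ B, Ce s (K b)) (hz : z ∈ Om Z K s)
    (hzB : ∀ b ∈ B, Cm (K z) (K b)) (hx : x ∈ Om Z K s) (hn : ¬ Cm (K x) (K z)) (hA : A ∈ F) (ha : a ∈ A) :
    SF Z K a x := by
  obtain ⟨b, hb⟩ := f.ne B hB
  have h1 := p.block f hB hT hs hz hzB hx hn b hb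
  have h2 := p.cp hx.1 (f.sub B hB hb) ((cp_iff p.w hx.1).2 h1)
  exact p.sf_trans ⟨F, f, ⟨A, hA, ha⟩, B, hB, hb⟩ h2.symm

/-- a C-swap between different frames: there are only two blocks -/
theorem csw_cases (hz : z ∈ Z) (hx : x ∈ Z) (hs : CSw K z x) (hn : ¬ SF Z K z x) :
    ∃ F, Frm Z K F ∧ ∃ A ∈ F, ∃ B ∈ F, A ≠ B ∧ z ∈ A ∧ (∀ C ∈ F, C = A ∨ C = B) ∧ (∀ y ∈ A, x * y * x⁻¹ ∈ B) ∧
      ∀ y ∈ B, x * y * x⁻¹ ∈ A := by
  have hu := p.w.conjZ z hz x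
  obtain ⟨F, f, ⟨A, hA, hzA⟩, B, hB, huB⟩ := p.cp hz hu hs
  have hF : ∀ C ∈ F, C = A ∨ C = B := by
    by_contra hcon
    push Not at hcon
    obtain ⟨C, hC, hCA, hCB⟩ := hcon
    apply hn
    have h1 : ∀ b ∈ C, Cm (K z) (K b) := fun b hb => (p.cp_of f hA hC (Ne.symm hCA) hzA hb).2
    have h2 : ∀ b ∈ C, Cm (K (x * z * x⁻¹)) (K b) := fun b hb => (p.cp_of f hB hC (Ne.symm hCB) huB hb).2
    refine p.block' f hC (TP.of_mul p.w p.tp hz hu hs) (fun b hb => ?_) (z := z) ⟨hz, p.w.wt_cen_u hz hx hs⟩ h1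
      (x := x) ⟨hx, p.w.wt_cen_v hz hx hs⟩ (fun h3 => ?_) hA hzA
    · exact (ce_of_cm p.w hz (h1 b hb).symm).mul (ce_of_cm p.w hu (h2 b hb).symm)
    · exact p.w.csw_not_comm hz hx hs (h3 x (p.w.mem x hx) z (p.w.mem z hz)).symm
  have hAB : A ≠ B := by
    obtain ⟨C, hC, hCA⟩ := f.other hA
    rcases hF C hC with h1 | h1
    · exact absurd h1 hCA
    · rw [← h1]
      exact hCA.symm
  obtain ⟨h1, h2⟩ := f.uniq p.w (f.conj p.w x) hB ⟨A, hA, rfl⟩ huB ⟨z, hzA, rfl⟩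
  refine ⟨F, f, A, hA, B, hB, hAB, hzA, hF, fun y hy => ?_, fun y hy => ?_⟩
  · rw [h2]
    exact ⟨y, hy, rfl⟩
  · have h3 : (fun y => x * y * x⁻¹) '' B ∈ (fun A : Set G => (fun y => x * y * x⁻¹) '' A) '' F := ⟨B, hB, rfl⟩
    rw [← h1] at h3
    have inj : Function.Injective (fun y : G => x * y * x⁻¹) := fun y y' hy => by
      have := mul_right_cancel hy
      exact mul_left_cancel this
    rcases hF _ h3 with h4 | h4
    · rw [← h4]
      exact ⟨y, hy, rfl⟩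
    · exact absurd (inj.image_injective (h4.trans h2)).symm hAB

theorem csw_move (f : Frm Z K F) (hA : A ∈ F) (_hB : B ∈ F) (_hAB : A ≠ B) (hF : ∀ C ∈ F, C = A ∨ C = B) (hz : z ∈ A)
    (hx : x ∈ Z) (hs : CSw K z x) (hn : ¬ SF Z K z x) : (∀ y ∈ A, x * y * x⁻¹ ∈ B) ∧ ∀ y ∈ B, x * y * x⁻¹ ∈ A := by
  obtain ⟨F', f', A', hA', B', hB', hAB', hz', hF', h1, h2⟩ := p.csw_cases (f.sub A hA hz) hx hs hn
  obtain ⟨rfl, rfl⟩ := f.uniq p.w f' hA hA' hz hz'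
  rcases hF B' hB' with h3 | h3
  · exact absurd h3.symm hAB'
  · rw [h3] at h1 h2
    exact ⟨h1, h2⟩

omit p [Finite G] in
theorem diag_eq {y y' b : G} (hy : y * y = 1) (hy' : y' * y' = 1) (hb : b * b = 1)
    (h1 : y' * (b * y * b⁻¹) = (b * y * b⁻¹) * y') (h2 : b * (y' * b * y'⁻¹) = (y' * b * y'⁻¹) * b) :
    (y * y') * (b * (y * y') * b⁻¹) = (y * b * y⁻¹) * (y' * b * y'⁻¹) := by
  have e1 : y⁻¹ = y := inv_eq_of_mul_eq_one_right hy
  have e2 : y'⁻¹ = y' := inv_eq_of_mul_eq_one_right hy'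
  have e3 : b⁻¹ = b := inv_eq_of_mul_eq_one_right hb
  calc (y * y') * (b * (y * y') * b⁻¹) = y * (y' * (b * y * b⁻¹)) * (b * y' * b⁻¹) := by group
    _ = y * ((b * y * b⁻¹) * y') * (b * y' * b⁻¹) := by rw [h1]
    _ = (y * b * y) * (b⁻¹ * y' * b * y' * b⁻¹) := by group
    _ = (y * b * y⁻¹) * (b * (y' * b * y'⁻¹) * b⁻¹) := by rw [e1, e2, e3]; group
    _ = (y * b * y⁻¹) * (y' * b * y'⁻¹) := by rw [h2, mul_inv_cancel_right]

end PW

/-- a group whose commutators are central is nilpotent -/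
theorem isNilpotent_of_comm {G : Type*} [Group G] {P : Subgroup G}
    (h : ∀ x ∈ P, ∀ y ∈ P, ∀ z ∈ P, (x * y * x⁻¹ * y⁻¹) * z = z * (x * y * x⁻¹ * y⁻¹)) : Group.IsNilpotent P := by
  rw [isNilpotent_iff_lowerCentralSeries]
  refine ⟨2, ?_⟩
  rw [Subgroup.lowerCentralSeries_succ, commutator_eq_bot_iff_le_centralizer, Subgroup.lowerCentralSeries_succ,
    Subgroup.lowerCentralSeries_zero, commutator_le]
  intro x hx y hy
  rw [mem_centralizer_iff]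
  intro z hz
  exact (h x hx y hy z hz).symm

/-- if the generators commute modulo `C(A)`, `P ≤ ⟨A⟩`, all elements do -/
theorem comm_closure {G : Type*} [Group G] {A E : Set G} (hE : E ⊆ (closure A : Subgroup G))
    (h : ∀ x ∈ E, ∀ y ∈ E, ∀ z ∈ A, (x * y * x⁻¹ * y⁻¹) * z = z * (x * y * x⁻¹ * y⁻¹)) :
    ∀ x ∈ closure E, ∀ y ∈ closure E, x * y * x⁻¹ * y⁻¹ ∈ centralizer ((closure A : Subgroup G) : Set G) := by
  set C := centralizer ((closure A : Subgroup G) : Set G) with hC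
  have hle : closure E ≤ closure A := (closure_le _).2 hE
  have hc : ∀ {c x : G}, c ∈ C → x ∈ closure E → x * c = c * x := fun {c x} hc hx =>
    mem_centralizer_iff.1 hc x (hle hx)
  have h0 : ∀ x ∈ E, ∀ y ∈ E, x * y * x⁻¹ * y⁻¹ ∈ C := by
    intro x hx y hy
    rw [hC, centralizer_closure, mem_centralizer_iff]
    exact fun z hz => (h x hx y hy z hz).symm
  have step : ∀ y ∈ closure E, (∀ x ∈ E, x * y * x⁻¹ * y⁻¹ ∈ C) → ∀ x ∈ closure E, x * y * x⁻¹ * y⁻¹ ∈ C := by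
    intro y hy h1 x hx
    refine closure_induction (p := fun x _ => x * y * x⁻¹ * y⁻¹ ∈ C) h1 ?_ ?_ ?_ hx
    · have : (1 : G) * y * 1⁻¹ * y⁻¹ = 1 := by group
      rw [this]
      exact one_mem C
    · intro a b ha _ h2 h3
      have e : a * b * y * (a * b)⁻¹ * y⁻¹ = (b * y * b⁻¹ * y⁻¹) * (a * y * a⁻¹ * y⁻¹) := by
        calc a * b * y * (a * b)⁻¹ * y⁻¹ = (a * (b * y * b⁻¹ * y⁻¹)) * (y * a⁻¹ * y⁻¹) := by group
          _ = ((b * y * b⁻¹ * y⁻¹) * a) * (y * a⁻¹ * y⁻¹) := by rw [hc h3 ha]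
          _ = _ := by group
      rw [e]
      exact mul_mem h3 h2
    · intro a ha h2
      have e : a⁻¹ * y * a⁻¹⁻¹ * y⁻¹ = (a * y * a⁻¹ * y⁻¹)⁻¹ := by
        have h3 := hc (inv_mem h2) (inv_mem ha)
        calc a⁻¹ * y * a⁻¹⁻¹ * y⁻¹ = (a⁻¹ * (a * y * a⁻¹ * y⁻¹)⁻¹) * a := by group
          _ = ((a * y * a⁻¹ * y⁻¹)⁻¹ * a⁻¹) * a := by rw [h3]
          _ = _ := by group
      rw [e]
      exact inv_mem h2
  have symm : ∀ {x y : G}, x * y * x⁻¹ * y⁻¹ ∈ C → y * x * y⁻¹ * x⁻¹ ∈ C := fun {x y} h1 => by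
    have e : y * x * y⁻¹ * x⁻¹ = (x * y * x⁻¹ * y⁻¹)⁻¹ := by group
    rw [e]
    exact inv_mem h1
  intro x hx y hy
  refine step y hy (fun a ha => symm ?_) x hx
  exact step a (subset_closure ha) (fun b hb => h0 b hb a ha) y hy

namespace PW

variable [Finite G] (p : PW Z K)

include p

/-- elements of different blocks commute -/
theorem comm_of (f : Frm Z K F) (hA : A ∈ F) (hB : B ∈ F) (hAB : A ≠ B) (ha : a ∈ A) (hb : b ∈ B) : a * b = b * a :=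
  f.cm A hA B hB hAB a ha b hb a (p.w.mem a (f.sub A hA ha)) b (p.w.mem b (f.sub B hB hb))

theorem comm_closure_of (f : Frm Z K F) (hA : A ∈ F) (hB : B ∈ F) (hAB : A ≠ B) (ha : a ∈ closure A)
    (hb : b ∈ closure B) : a * b = b * a := by
  have h1 : closure A ≤ centralizer (B : Set G) := (closure_le _).2 fun x hx => mem_centralizer_iff.2 fun y hy =>
    (p.comm_of f hA hB hAB hx hy).symm
  have h2 : closure B ≤ centralizer {a} := (closure_le _).2 fun y hy =>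
    mem_centralizer_singleton_iff.2 (mem_centralizer_iff.1 (h1 ha) y hy)
  exact (mem_centralizer_singleton_iff.1 (h2 hb)).symm

/-- with two blocks `C(u)`, `u ∈ B`, normalises the block `A` -/
theorem norm_block (f : Frm Z K F) (hA : A ∈ F) (hB : B ∈ F) (hAB : A ≠ B) (hF : ∀ C ∈ F, C = A ∨ C = B) (hu : u ∈ B)
    (hc : c * u = u * c) (hy : y ∈ A) : c * y * c⁻¹ ∈ A := by
  have hu' : u ∈ (fun y => c * y * c⁻¹) '' B := ⟨u, hu, by simp only [hc, mul_inv_cancel_right]⟩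
  obtain ⟨h1, h2⟩ := f.uniq p.w (f.conj p.w c) hB ⟨B, hB, rfl⟩ hu hu'
  have h3 : (fun y => c * y * c⁻¹) '' A ∈ (fun A : Set G => (fun y => c * y * c⁻¹) '' A) '' F := ⟨A, hA, rfl⟩
  rw [← h1] at h3
  have inj : Function.Injective (fun y : G => c * y * c⁻¹) := fun y y' hy => by
    have := mul_right_cancel hy
    exact mul_left_cancel this
  rcases hF _ h3 with h4 | h4
  · rw [← h4]
    exact ⟨y, hy, rfl⟩
  · exact absurd (inj.image_injective (h4.trans h2)) hAB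

/-- **(F2)** -/
theorem csw (hz : z ∈ Z) (hx : x ∈ Z) (hs : CSw K z x) : SF Z K z x := by
  by_contra hn
  obtain ⟨F, f, A, hA, B, hB, hAB, hzA, hF, h1, h2⟩ := p.csw_cases hz hx hs hn
  obtain ⟨F', f', X, hX, Y, hY, hXY, hxX, hF', h3, h4⟩ :=
    p.csw_cases hx hz (p.w.csw_symm hz hx hs) (fun h => hn h.symm)
  have nsf : ∀ {a b : G}, (∃ C ∈ F, a ∈ C) → (∃ D ∈ F', b ∈ D) → ¬ SF Z K a b := by
    rintro a b ⟨C, hC, ha⟩ ⟨D, hD, hb⟩ h
    exact hn (p.sf_trans (p.sf_trans ⟨F, f, ⟨A, hA, hzA⟩, C, hC, ha⟩ h) ⟨F', f', ⟨D, hD, hb⟩, X, hX, hxX⟩)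
  have ya : ∀ y ∈ A, (∀ b ∈ X, y * b * y⁻¹ ∈ Y) ∧ ∀ b ∈ Y, y * b * y⁻¹ ∈ X := fun y hy =>
    p.csw_move f' hX hY hXY hF' hxX (f.sub A hA hy)
      (p.w.csw_symm (f.sub A hA hy) hx (p.cp_of f hA hB hAB hy (h1 y hy)))
      (fun h => nsf ⟨A, hA, hy⟩ ⟨X, hX, hxX⟩ h.symm)
  have bX : ∀ b ∈ X, ∀ y ∈ A, b * y * b⁻¹ ∈ B := fun b hb =>
    (p.csw_move f hA hB hAB hF hzA (f'.sub X hX hb)
      (p.w.csw_symm (f'.sub X hX hb) hz (p.cp_of f' hX hY hXY hb (h3 b hb)))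
      (nsf ⟨A, hA, hzA⟩ ⟨X, hX, hb⟩)).1
  have bY : ∀ b ∈ Y, ∀ y ∈ A, b * y * b⁻¹ ∈ B := fun b hb =>
    (p.csw_move f hA hB hAB hF hzA (f'.sub Y hY hb)
      (p.w.csw_symm (f'.sub Y hY hb) hz (p.cp_of f' hY hX hXY.symm hb (h4 b hb)))
      (nsf ⟨A, hA, hzA⟩ ⟨Y, hY, hb⟩)).1
  have sqA : ∀ y ∈ A, y * y = 1 := fun y hy => p.w.sq y (f.sub A hA hy)
  have dX : ∀ b ∈ X, ∀ y ∈ A, ∀ y' ∈ A, (y * y') * (b * (y * y') * b⁻¹) = (y * b * y⁻¹) * (y' * b * y'⁻¹) :=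
    fun b hb y hy y' hy' => diag_eq (sqA y hy) (sqA y' hy') (p.w.sq b (f'.sub X hX hb))
      (p.comm_of f hA hB hAB hy' (bX b hb y hy)) (p.comm_of f' hX hY hXY hb ((ya y' hy').1 b hb))
  have dY : ∀ b ∈ Y, ∀ y ∈ A, ∀ y' ∈ A, (y * y') * (b * (y * y') * b⁻¹) = (y * b * y⁻¹) * (y' * b * y'⁻¹) :=
    fun b hb y hy y' hy' => diag_eq (sqA y hy) (sqA y' hy') (p.w.sq b (f'.sub Y hY hb))
      (p.comm_of f hA hB hAB hy' (bY b hb y hy)) (p.comm_of f' hY hX hXY.symm hb ((ya y' hy').2 b hb))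
  -- the even part
  set E : Set G := {q | ∃ y ∈ A, ∃ y' ∈ A, q = y * y'} with hE
  have hEA : E ⊆ (closure A : Subgroup G) := by
    rintro _ ⟨y, hy, y', hy', rfl⟩
    exact mul_mem (subset_closure hy) (subset_closure hy')
  have hEB : ∀ {b : G}, (∀ y ∈ A, b * y * b⁻¹ ∈ B) → ∀ q ∈ E, b * q * b⁻¹ ∈ closure B := by
    rintro b hb _ ⟨y, hy, y', hy', rfl⟩
    have e : b * (y * y') * b⁻¹ = (b * y * b⁻¹) * (b * y' * b⁻¹) := by group
    rw [e]
    exact mul_mem (subset_closure (hb y hy)) (subset_closure (hb y' hy'))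
  have key : ∀ q ∈ E, ∀ r ∈ E, ∀ y ∈ A, (q * r * q⁻¹ * r⁻¹) * y = y * (q * r * q⁻¹ * r⁻¹) := by
    intro q hq r hr y hy
    have hx' := h3 x hxX
    set x' := z * x * z⁻¹ with hx'def
    have hq1 := hEB (bX x hxX) q hq
    have hr1 := hEB (bY x' hx') r hr
    set Q := x * q * x⁻¹ with hQ
    set R := x' * r * x'⁻¹ with hR
    have cAB : ∀ {a b : G}, a ∈ closure A → b ∈ closure B → a * b = b * a := fun ha hb =>
      p.comm_closure_of f hA hB hAB ha hb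
    have hcm : (q * Q) * (r * R) = (r * R) * (q * Q) := by
      obtain ⟨y1, hy1, y2, hy2, hq'⟩ := hq
      obtain ⟨y3, hy3, y4, hy4, hr'⟩ := hr
      have e1 : q * Q = (y1 * x * y1⁻¹) * (y2 * x * y2⁻¹) := by
        rw [hQ, hq']
        exact dX x hxX y1 hy1 y2 hy2
      have e2 : r * R = (y3 * x' * y3⁻¹) * (y4 * x' * y4⁻¹) := by
        rw [hR, hr']
        exact dY x' hx' y3 hy3 y4 hy4
      rw [e1, e2]
      exact (p.comm_closure_of f' hX hY hXY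
        (mul_mem (subset_closure ((ya y3 hy3).2 x' hx')) (subset_closure ((ya y4 hy4).2 x' hx')))
        (mul_mem (subset_closure ((ya y1 hy1).1 x hxX)) (subset_closure ((ya y2 hy2).1 x hxX)))).symm
    have c1 : Q * r = r * Q := (cAB (hEA hr) hq1).symm
    have c2 : R * q = q * R := (cAB (hEA hq) hr1).symm
    have e3 : q * r * (Q * R) = r * q * (R * Q) := by
      calc q * r * (Q * R) = q * (r * Q) * R := by group
        _ = q * (Q * r) * R := by rw [c1]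
        _ = (q * Q) * (r * R) := by group
        _ = (r * R) * (q * Q) := hcm
        _ = r * (R * q) * Q := by group
        _ = r * (q * R) * Q := by rw [c2]
        _ = r * q * (R * Q) := by group
    have hW : (R * Q) * (Q * R)⁻¹ ∈ closure B := mul_mem (mul_mem hr1 hq1) (inv_mem (mul_mem hq1 hr1))
    have hrq : r * q ∈ closure A := mul_mem (hEA hr) (hEA hq)
    have e4 : q * r * q⁻¹ * r⁻¹ = (R * Q) * (Q * R)⁻¹ := by
      have e5 : q * r = r * q * ((R * Q) * (Q * R)⁻¹) := by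
        rw [eq_comm, ← mul_assoc, mul_inv_eq_iff_eq_mul, e3]
      calc q * r * q⁻¹ * r⁻¹ = (q * r) * (r * q)⁻¹ := by group
        _ = r * q * ((R * Q) * (Q * R)⁻¹) * (r * q)⁻¹ := by rw [← e5]
        _ = ((R * Q) * (Q * R)⁻¹) * (r * q) * (r * q)⁻¹ := by rw [cAB hrq hW]
        _ = _ := by rw [mul_inv_cancel_right]
    rw [e4]
    exact (cAB (subset_closure hy) hW).symm
  have hP := comm_closure hEA key
  set P := closure E with hPdef
  have hPA : P ≤ closure A := (closure_le _).2 hEA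
  have hnil : Group.IsNilpotent P := isNilpotent_of_comm fun q hq r hr s hs =>
    (mem_centralizer_iff.1 (hP q hq r hr) s (hPA hs)).symm
  -- `C(u)` normalises `P`
  have huB := h1 z hzA
  set u := x * z * x⁻¹ with hu
  have huZ : u ∈ Z := f.sub B hB huB
  have hnor : ∀ {c : G}, c * u = u * c → c ∈ normalizer (P : Set G) := by
    intro c hc
    apply mem_normalizer_of_conj_le
    intro q hq
    have h5 : P ≤ P.comap (MulAut.conj c).toMonoidHom := (closure_le _).2 (by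
      rintro _ ⟨y, hy, y', hy', rfl⟩
      refine subset_closure ⟨_, p.norm_block f hA hB hAB hF huB hc hy, _, p.norm_block f hA hB hAB hF huB hc hy', ?_⟩
      change c * (y * y') * c⁻¹ = _
      group)
    exact h5 hq
  have hPu : P ≤ centralizer {u} := (closure_le _).2 (by
    rintro _ ⟨y, hy, y', hy', rfl⟩
    refine mul_mem ?_ ?_
    · exact mem_centralizer_singleton_iff.2 (p.comm_of f hA hB hAB hy huB)
    · exact mem_centralizer_singleton_iff.2 (p.comm_of f hA hB hAB hy' huB))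
  have hodd : oP' 2 P = ⊥ := p.cf u huZ (oP' 2 P) ((oP'_le 2 P).trans hPu)
    (fun c hc => normalizer_le_oP' 2 P (hnor (mem_centralizer_singleton_iff.1 hc)))
    (Nat.coprime_two_right.1 (coprime_oP' 2 P))
  have hP2 : IsPGroup 2 P := by
    have h5 := oP_sup_oP' hnil 2
    rw [hodd, sup_bot_eq] at h5
    rw [← h5]
    exact isPGroup_oP 2 P
  have hzu : z * u = u * z := p.comm_of f hA hB hAB hzA huB
  have hR : IsPGroup 2 (zpowers z ⊔ P : Subgroup G) :=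
    OneBasic.isPGroup_sup_of_normalizes (isPGroup_zpowers_inv (p.w.sq z hz)) hP2 (by
      rw [zpowers_le]
      exact hnor hzu)
  have hAR : A ⊆ (zpowers z ⊔ P : Subgroup G) := by
    intro y hy
    have e : y = (y * z) * z := by rw [mul_assoc, p.w.sq z hz, mul_one]
    rw [e]
    exact mul_mem ((le_sup_right : P ≤ _) (subset_closure ⟨y, hy, z, hzA, rfl⟩))
      ((le_sup_left : zpowers z ≤ _) (mem_zpowers z))
  have hAn : A ∈ NN Z K u := by
    rw [f.nn B hB u huB]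
    exact ⟨hA, hAB⟩
  obtain ⟨h5, h6, h7⟩ := NN_cl p.w hAn hzA
  exact h6 (nil_down p.w h5 hR (by rw [← h7]; exact hAR))

end PW

end Cfsg.Agent.Cit.Nil.Comp
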