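import Cfsg.Agent.Cit.Nil.Comp.SecX
import Cfsg.Agent.Cit.Nil.Comp.AO.Quot
import Cfsg.Agent.Cit.Nil.RTwo.World

/-!
# S1309 (n6a), AllOne branch, (M3): the family of the members of `X = ⟨K b : b ∈ Cl Z K z a⟩` in `C(z)`

* `OmM Z K z a` : the family; `Tri.qtM` : the quotient situation `QT` for `f : C(z) → Y`, `Ker f = C(X)`;
* `Tri.w2` : the images of the members are in the world `W2`;
* `Tri.oneClsM`, `Tri.c3eM` : if `a` and `b` are conjugate in `C(z)`, there is one class, and (C3).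
-/

set_option autoImplicit false
set_option linter.style.haveILetI false
set_option linter.unusedSectionVars false

namespace Cfsg.Agent.Cit.Nil.Comp

open Subgroup Cfsg Cfsg.Agent.Cit Cfsg.Agent.Cit.Nil.ROne Cfsg.Agent.Cit.Nil.AN
open Cfsg.Agent.OddOrderLocal.NilParts
open Cfsg.Agent.Cit.Nil.RTwoM.Quo (QT QM)
open Cfsg.Agent.Cit.Nil.RTwo (SW CC CX RZ InZ Mem Lab W2 mem_CX RZ_le)
open IndDefs (T0 NIL comp Adj)

universe u

variable {G : Type u} [Group G] {Z : Set G} {K : G → Subgroup G} {z a b u v x y g c : G}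

/-- the members of `X`, as subgroups of `C(z)` -/
def OmM (Z : Set G) (K : G → Subgroup G) (z a : G) : Set (Subgroup ↥(centralizer ({z} : Set G))) :=
  {A | ∃ u ∈ Cl Z K z a, A = (K u).subgroupOf (centralizer {z})}

theorem omM_eq : OmM Z K z a = AO.Kr (centralizer {z}) K '' AO.Zr (centralizer {z}) (Cl Z K z a) ∨ ∃ u ∈ Cl Z K z a,
    u ∉ centralizer ({z} : Set G) := by
  by_cases h1 : ∃ u ∈ Cl Z K z a, u ∉ centralizer ({z} : Set G)
  · exact Or.inr h1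
  · left
    push Not at h1
    ext A
    constructor
    · rintro ⟨u, hu, rfl⟩
      exact ⟨⟨u, h1 u hu⟩, hu, rfl⟩
    · rintro ⟨⟨u, hu0⟩, hu, rfl⟩
      exact ⟨u, hu, rfl⟩

section

variable [Finite G] (h : W Z K) (ao : AllOne Z K) (t : Tri Z K z a b)

include h ao t

theorem Tri.leC (hu : u ∈ Cl Z K z a) : K u ≤ centralizer ({z} : Set G) := fun k hk =>
  mem_centralizer_singleton_iff.2 (t.clK h ao hu k hk z (h.mem z t.hz))

theorem Tri.memC (hu : u ∈ Cl Z K z a) : u ∈ centralizer ({z} : Set G) := t.leC h ao hu (h.mem u (t.clZ h ao hu))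

theorem Tri.wM : W (AO.Zr (centralizer {z}) (Cl Z K z a)) (AO.Kr (centralizer {z}) K) :=
  AO.wr h (fun _ hu => t.clZ h ao hu) (fun _ hu => t.leC h ao hu) fun _ hu _ hg =>
    t.conj_cl h ao (mem_centralizer_singleton_iff.1 hg) hu

theorem Tri.omM : OmM Z K z a = AO.Kr (centralizer {z}) K '' AO.Zr (centralizer {z}) (Cl Z K z a) := by
  rcases omM_eq (Z := Z) (K := K) (z := z) (a := a) with h1 | ⟨u, hu, h1⟩
  · exact h1
  · exact absurd (t.memC h ao hu) h1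

theorem Tri.hypM : Hyp (OmM Z K z a) := by
  rw [t.omM h ao]
  exact (t.wM h ao).hyp

omit [Finite G] h ao t in
theorem mem_omM (hu : u ∈ Cl Z K z a) : (K u).subgroupOf (centralizer {z}) ∈ OmM Z K z a := ⟨u, hu, rfl⟩

theorem Tri.zzM (hu : u ∈ Cl Z K z a) :
    zz ((K u).subgroupOf (centralizer ({z} : Set G))) = ⟨u, t.memC h ao hu⟩ := by
  have h1 : (⟨u, t.memC h ao hu⟩ : ↥(centralizer ({z} : Set G))) ∈ AO.Zr (centralizer {z}) (Cl Z K z a) := hu
  exact (t.wM h ao).zz_K h1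

theorem Tri.t0M (core : Cfsg.pPrimeCore 2 ↥(centralizer ({z} : Set G)) = ⊥) : T0 (OmM Z K z a) where
  hyp := t.hypM h ao
  card := by
    rintro A ⟨u, hu, rfl⟩
    rw [Nat.card_congr (subgroupOfEquivOfLe (t.leC h ao hu)).toEquiv]
    exact h.card8 (t.clZ h ao hu)
  core := core

theorem Tri.connM : ∀ A ∈ OmM Z K z a, ∀ B ∈ OmM Z K z a, B ∈ comp (OmM Z K z a) A := by
  have key : ∀ u ∈ Cl Z K z a, (K u).subgroupOf (centralizer ({z} : Set G)) ∈
      comp (OmM Z K z a) ((K a).subgroupOf (centralizer ({z} : Set G))) := by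
    intro u hu
    have hu' : Relation.ReflTransGen (St Z K z) a u := hu
    clear hu
    induction hu' with
    | refl => exact IndDefs.mem_comp_self
    | @tail c d h1 h2 ih =>
      have hc : c ∈ Cl Z K z a := h1
      have hd : d ∈ Cl Z K z a := Relation.ReflTransGen.tail h1 h2
      refine IndDefs.mem_comp_of ih ⟨mem_omM hc, mem_omM hd, fun h3 => h2.2 ?_⟩
      intro k hk l hl
      exact congrArg Subtype.val (h3 ⟨k, t.leC h ao hc hk⟩ hk ⟨l, t.leC h ao hd hl⟩ hl)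
  rintro A ⟨u, hu, rfl⟩ B ⟨v, hv, rfl⟩
  exact IndDefs.comp_trans (IndDefs.comp_symm (key u hu)) (key v hv)

theorem Tri.not_nilM (hu : u ∈ Cl Z K z a) : ¬ NIL ((K u).subgroupOf (centralizer ({z} : Set G))) := by
  intro h1
  rw [NIL, t.zzM h ao hu] at h1
  exact ao.not_nil z t.hz u (t.clZ h ao hu) (t.cp h ao hu) ⟨_, h1, rfl⟩

theorem Tri.qtM {Y : Type u} [Group Y] {f : ↥(centralizer ({z} : Set G)) →* Y}
    (core : Cfsg.pPrimeCore 2 ↥(centralizer ({z} : Set G)) = ⊥) (hf : Function.Surjective f)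
    (hk : ∀ g, f g = 1 ↔ ∀ A ∈ OmM Z K z a, ∀ k ∈ A, g * k = k * g) : QT (OmM Z K z a) f where
  t0 := t.t0M h ao core
  conn := t.connM h ao
  nn := ⟨_, mem_omM (cl_refl z a), t.not_nilM h ao (cl_refl z a)⟩
  surj := hf
  ker := hk

/-- the quotient map -/
theorem Tri.exists_fM : ∃ (Y : Type u) (_ : Group Y) (_ : Finite Y) (f : ↥(centralizer ({z} : Set G)) →* Y),
    Function.Surjective f ∧ ∀ g, f g = 1 ↔ ∀ A ∈ OmM Z K z a, ∀ k ∈ A, g * k = k * g := by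
  obtain ⟨N, hN⟩ : ∃ N : Subgroup ↥(centralizer ({z} : Set G)),
      N = centralizer {k | ∃ A ∈ OmM Z K z a, k ∈ A} := ⟨_, rfl⟩
  have mN : ∀ g, g ∈ N ↔ ∀ A ∈ OmM Z K z a, ∀ k ∈ A, g * k = k * g := by
    intro g
    rw [hN, mem_centralizer_iff]
    constructor
    · intro h A hA k hk
      exact (h k ⟨A, hA, hk⟩).symm
    · rintro h k ⟨A, hA, hk⟩
      exact (h A hA k hk).symm
  have hhyp := t.hypM h ao
  haveI hNn : N.Normal := by
    refine ⟨fun n hn g => ?_⟩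
    rw [mN] at hn ⊢
    intro A hA k hk
    have h1 := hn _ (hhyp.conj A hA g⁻¹) (g⁻¹ * k * g) (by rw [mem_cj]; simpa [mul_assoc] using hk)
    calc g * n * g⁻¹ * k = g * (n * (g⁻¹ * k * g)) * g⁻¹ := by group
      _ = g * ((g⁻¹ * k * g) * n) * g⁻¹ := by rw [h1]
      _ = k * (g * n * g⁻¹) := by group
  refine ⟨↥(centralizer ({z} : Set G)) ⧸ N, inferInstance, inferInstance, QuotientGroup.mk' N,
    QuotientGroup.mk'_surjective _, fun g => ?_⟩
  rw [QuotientGroup.mk'_apply, QuotientGroup.eq_one_iff, mN]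

end

section quo

variable [Finite G] (h : W Z K) (ao : AllOne Z K) (t : Tri Z K z a b) {Y : Type u} [Group Y]
  {f : ↥(centralizer ({z} : Set G)) →* Y} (q : QM (OmM Z K z a) f)

/-- the image of a member -/
def Kb (f : ↥(centralizer ({z} : Set G)) →* Y) (K : G → Subgroup G) (u : G) : Subgroup Y :=
  ((K u).subgroupOf (centralizer {z})).map f

omit [Finite G] in
theorem mem_img_iff {P : Subgroup Y} : P ∈ img f (OmM Z K z a) ↔ ∃ u ∈ Cl Z K z a, P = Kb f K u := by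
  constructor
  · rintro ⟨A, ⟨u, hu, rfl⟩, rfl⟩
    exact ⟨u, hu, rfl⟩
  · rintro ⟨u, hu, rfl⟩
    exact ⟨_, ⟨u, hu, rfl⟩, rfl⟩

omit [Finite G] in
theorem kb_mem (hu : u ∈ Cl Z K z a) : Kb f K u ∈ img f (OmM Z K z a) := mem_img_iff.2 ⟨u, hu, rfl⟩

include h ao t q

theorem Tri.f_eq_one {x : G} (hx : x ∈ centralizer ({z} : Set G)) (hc : ∀ u ∈ Cl Z K z a, Ce x (K u)) :
    f ⟨x, hx⟩ = 1 := by
  rw [q.ker]
  rintro A ⟨u, hu, rfl⟩ k hk
  exact Subtype.ext (hc u hu k hk)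

theorem Tri.ce_of_f {x : G} (hx : x ∈ centralizer ({z} : Set G)) (h1 : f ⟨x, hx⟩ = 1) (hu : u ∈ Cl Z K z a) :
    Ce x (K u) := fun k hk =>
  congrArg Subtype.val ((q.ker _).1 h1 _ (mem_omM hu) ⟨k, t.leC h ao hu hk⟩ hk)

theorem Tri.f_z (hz : z ∈ centralizer ({z} : Set G)) : f ⟨z, hz⟩ = 1 :=
  t.f_eq_one h ao q hz fun _ hu k hk => (t.clK h ao hu k hk z (h.mem z t.hz)).symm

/-- the point of the image of a member -/
theorem Tri.zz_kb (hu : u ∈ Cl Z K z a) : zz (Kb f K u) = f ⟨u, t.memC h ao hu⟩ := by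
  rw [Kb, q.zz_map (mem_omM hu), t.zzM h ao hu]

/-- the images of two partners agree -/
theorem Tri.f_eq (t' : Tri Z K z u v) (hu : u ∈ Cl Z K z a) (hv : v ∈ Cl Z K z a) :
    f ⟨v, t.memC h ao hv⟩ = f ⟨u, t.memC h ao hu⟩ := by
  have hzC : z ∈ centralizer ({z} : Set G) := mem_centralizer_singleton_iff.2 rfl
  have e1 : (⟨u, t.memC h ao hu⟩ : ↥(centralizer ({z} : Set G))) * ⟨v, t.memC h ao hv⟩ = ⟨z, hzC⟩ :=
    Subtype.ext (t'.mul h ao)
  have e2 : (⟨u, t.memC h ao hu⟩ : ↥(centralizer ({z} : Set G))) * ⟨u, t.memC h ao hu⟩ = 1 :=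
    Subtype.ext (h.sq u t'.ha)
  have h1 : f ⟨u, t.memC h ao hu⟩ * f ⟨v, t.memC h ao hv⟩ = f ⟨u, t.memC h ao hu⟩ * f ⟨u, t.memC h ao hu⟩ := by
    rw [← map_mul, ← map_mul, e1, e2, map_one]
    exact t.f_z h ao q hzC
  exact mul_left_cancel h1

theorem Tri.mem_of_tri (t' : Tri Z K z u v) : v ∈ Cl Z K z a := ao.cls z t.hz a t.ha v t'.hb t.cza t'.czb

/-- the members over the image of `u` -/
theorem Tri.fib (t' : Tri Z K z u v) (hu : u ∈ Cl Z K z a) {w : G} (hw : w ∈ Cl Z K z a)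
    (h1 : f ⟨w, t.memC h ao hw⟩ = f ⟨u, t.memC h ao hu⟩) : w = u ∨ w = v := by
  have h2 := q.fib (mem_omM hw) (mem_omM hu) (by rw [t.zzM h ao hw, t.zzM h ao hu]; exact h1)
  rcases h2 with h2 | h2
  · left
    have h3 := congrArg (fun A : Subgroup ↥(centralizer ({z} : Set G)) => A.map (centralizer ({z} : Set G)).subtype) h2
    rw [map_subgroupOf_eq_of_le (t.leC h ao hw), map_subgroupOf_eq_of_le (t.leC h ao hu)] at h3
    exact h.K_inj (t.clZ h ao hw) (t.clZ h ao hu) h3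
  · have h3 : Ce w (K u) := fun k hk => congrArg Subtype.val
      (h2 ⟨w, t.memC h ao hw⟩ (h.mem w (t.clZ h ao hw)) ⟨k, t.leC h ao hu hk⟩ hk)
    have h4 : Cl Z K z u = Cl Z K z a := t.cl_of h ao hu
    exact t'.eq_or h ao (by rw [h4]; exact hw) h3

/-- **the world `W2`** -/
theorem Tri.w2 : W2 (img f (OmM Z K z a)) where
  hyp := q.hyp_img
  card := by
    rintro _ ⟨A, hA, rfl⟩
    exact q.card_map hA
  two := by
    intro P hP
    obtain ⟨u, hu, rfl⟩ := mem_img_iff.1 hP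
    obtain ⟨v, t', -⟩ := t.exists_partner h ao hu
    have hv : v ∈ Cl Z K z a := ao.cls z t.hz a t.ha v t'.hb t.cza t'.czb
    refine ⟨Kb f K v, kb_mem hv, ?_, ?_, ?_⟩
    · intro h1
      have h2 := q.map_inj (mem_omM hv) (mem_omM hu) h1.le
      have h3 := congrArg (fun A : Subgroup ↥(centralizer ({z} : Set G)) => A.map (centralizer ({z} : Set G)).subtype) h2
      rw [map_subgroupOf_eq_of_le (t.leC h ao hv), map_subgroupOf_eq_of_le (t.leC h ao hu)] at h3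
      exact t'.cab.1 (h.K_inj t'.hb t'.ha h3).symm
    · rw [t.zz_kb h ao q hv, t.zz_kb h ao q hu]
      exact t.f_eq h ao q t' hu hv
    · intro M hM h1
      obtain ⟨w, hw, rfl⟩ := mem_img_iff.1 hM
      rw [t.zz_kb h ao q hw, t.zz_kb h ao q hu] at h1
      rcases t.fib h ao q t' hu hw h1 with h2 | h2
      · left; rw [h2]
      · right; rw [h2]
  one := by
    intro P hP Q hQ hc
    obtain ⟨u, hu, rfl⟩ := mem_img_iff.1 hP
    obtain ⟨v, hv, rfl⟩ := mem_img_iff.1 hQ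
    obtain ⟨u', t', -⟩ := t.exists_partner h ao hu
    have hu' : u' ∈ Cl Z K z a := ao.cls z t.hz a t.ha u' t'.hb t.cza t'.czb
    have h2 := q.cm_lift (mem_omM hu) hc
    have h3 : Ce v (K u) := fun k hk => (congrArg Subtype.val
      (h2 ⟨k, t.leC h ao hu hk⟩ hk ⟨v, t.memC h ao hv⟩ (h.mem v (t.clZ h ao hv)))).symm
    have h4 : Cl Z K z u = Cl Z K z a := t.cl_of h ao hu
    rw [t.zz_kb h ao q hu, t.zz_kb h ao q hv]
    rcases t'.eq_or h ao (by rw [h4]; exact hv) h3 with h5 | h5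
    · subst h5; rfl
    · subst h5; exact (t.f_eq h ao q t' hu hv).symm

omit h ao t q in
theorem cj_kb {g : ↥(centralizer ({z} : Set G))} (h : W Z K) (hu : u ∈ Z) :
    cj (f g) (Kb f K u) = Kb f K ((g : G) * u * (g : G)⁻¹) := by
  rw [Kb, Kb, ← cj_map]
  congr 1
  ext x
  rw [mem_cj, mem_subgroupOf, mem_subgroupOf, h.conjK u hu, mem_cj]
  rfl

/-- one class -/
theorem Tri.oneClsM (hx : ∃ g, g * z = z * g ∧ g * a * g⁻¹ = b) : RTwo.OneCls (img f (OmM Z K z a)) := by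
  obtain ⟨g0, hg0, hg0b⟩ := hx
  have key : ∀ u ∈ Cl Z K z a, ∃ g : ↥(centralizer ({z} : Set G)), cj (f g) (Kb f K a) = Kb f K u := by
    intro u hu
    obtain ⟨g, hg, h1⟩ := t.exists_conj h ao hu
    have hgC : g ∈ centralizer ({z} : Set G) := mem_centralizer_singleton_iff.2 (t.X_comm h ao hg)
    rcases h1 with h1 | h1
    · refine ⟨⟨g, hgC⟩, ?_⟩
      rw [cj_kb h t.ha, h1]
    · refine ⟨⟨g, hgC⟩ * ⟨g0, mem_centralizer_singleton_iff.2 hg0⟩, ?_⟩
      rw [cj_kb h t.ha, h1, ← hg0b]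
      congr 1
      show g * g0 * a * (g * g0)⁻¹ = _
      group
  intro P hP Q hQ
  obtain ⟨u, hu, rfl⟩ := mem_img_iff.1 hP
  obtain ⟨v, hv, rfl⟩ := mem_img_iff.1 hQ
  obtain ⟨g, hg⟩ := key u hu
  obtain ⟨g', hg'⟩ := key v hv
  refine ⟨f g' * (f g)⁻¹, ?_⟩
  rw [← hg, ← hg', ← cj_mul]
  congr 1
  group

end quo

end Cfsg.Agent.Cit.Nil.Comp
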