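import Cfsg.Agent.Cit.Nil.Ind.Quo
import Cfsg.Agent.Cit.Nil.Ind.SubB

/-!
# The quotient by the centre of a group generated by one component of members

`QW Om` : the facts on the images of the members in `G ⧸ Z(G)`, if `G = ⟨Om⟩`, `Om` connected, `z_K ∉ O₂(G)`.
(The proof is that of `Ind.quo`.)
-/

set_option autoImplicit false
set_option linter.style.haveILetI false
set_option linter.unusedSectionVars false
set_option maxHeartbeats 400000

namespace Cfsg.Agent.Cit.Nil.Comp.SecQuo

open Subgroup Cfsg Cit IndDefs RTwo Three Nil.Ind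

universe u

variable {G : Type u} [Group G]

/-- see the head of the file; `f = mk' Z(G)` -/
structure QW {G' : Type u} [Group G'] [Finite G'] (f : G →* G') (Om : Set (Subgroup G)) : Prop where
  surj : Function.Surjective f
  ker : f.ker = center G
  two : IsPGroup 2 f.ker
  t0 : T0 (img f Om)
  top : sSup (img f Om) = ⊤
  simple : IsSimpleGroup ↥(generalizedFittingSubgroup G')
  na : ¬ IsMulCommutative ↥(generalizedFittingSubgroup G')
  inf : ∀ K ∈ Om, K ⊓ f.ker = ⊥
  zm : ∀ K ∈ Om, zz (K.map f) = f (zz K)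
  three : ∀ K ∈ Om, IndDefs.Three (K.map f) → IndDefs.Three K
  cm : ∀ K ∈ Om, ∀ L ∈ Om, IndDefs.Cm (K.map f) (L.map f) → IndDefs.Cm K L

variable [Finite G] {Om : Set (Subgroup G)} {L : Subgroup G}

theorem qw_of_comp (t : T0 Om) (top : sSup Om = ⊤) (hL : IsComponent L) (hN : L.Normal)
    (huni : ∀ L', IsComponent L' → L' = L) (hZ : pCore 2 G = center G) (hz : ∀ K ∈ Om, zz K ∉ center G) :
    QW (QuotientGroup.mk' (center G)) Om := by
  haveI : Fact (Nat.Prime 2) := ⟨Nat.prime_two⟩
  have h : H8 Om := ⟨t.hyp, t.card⟩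
  obtain ⟨f, hfd⟩ : ∃ f : G →* G ⧸ center G, f = QuotientGroup.mk' (center G) := ⟨_, rfl⟩
  rw [← hfd]
  have hf : Function.Surjective f := by rw [hfd]; exact QuotientGroup.mk'_surjective _
  have hfk : f.ker = center G := by rw [hfd]; exact QuotientGroup.ker_mk' _
  have hC : f.ker ≤ center G := hfk.le
  have h2 : IsPGroup 2 f.ker := by rw [hfk, ← hZ]; exact Lib.Cores.pCore_isPGroup 2
  have hKC : ∀ K ∈ Om, K ⊓ f.ker = ⊥ := by
    intro K hK
    obtain ⟨x, hx⟩ := h.exists_q3 hK
    have hzf : zz K ∉ f.ker := by rw [hfk]; exact hz K hK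
    rw [eq_bot_iff]
    rintro k ⟨hk, hkf⟩
    rw [mem_bot]
    rcases hx.cov k hk with h1 | h1 | ⟨i, h1 | h1⟩
    · exact h1
    · exact absurd (h1 ▸ hkf) hzf
    · exfalso
      apply hzf
      rw [← hx.sq i, ← h1]
      exact mul_mem hkf hkf
    · exfalso
      apply hzf
      have e : zz K = k * k := by
        rw [h1]
        calc zz K = zz K * (zz K * (x i * x i)) := by rw [hx.sq, hx.z2, mul_one]
          _ = zz K * (zz K * x i) * x i := by group
          _ = zz K * (x i * zz K) * x i := by rw [hx.zc]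
          _ = _ := by group
      rw [e]
      exact mul_mem hkf hkf
  have hzm : ∀ K ∈ Om, zz (K.map f) = f (zz K) := fun K hK => QuoCen.zz_map_of_inf h.hyp hK (hKC K hK)
  -- the image of `L`
  have hCL : centralizer (L : Set G) = center G := centralizer_eq huni t.core hZ
  have hperf : Group.IsPerfect L := hL.2.1
  have hCL' : centralizer ((L.map f : Subgroup (G ⧸ center G)) : Set (G ⧸ center G)) = ⊥ := by
    rw [eq_bot_iff]
    intro w hw
    obtain ⟨g, rfl⟩ := hf w
    obtain ⟨X, hX⟩ : ∃ X : Subgroup G, X = (centralizer ((L.map f : Subgroup (G ⧸ center G)) : Set (G ⧸ center G))).comap f :=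
      ⟨_, rfl⟩
    have hgX : g ∈ X := by rw [hX]; exact hw
    have h1 : ⁅X, L⁆ ≤ f.ker := by
      rw [commutator_le]
      intro y hy l hl
      rw [hX, mem_comap, mem_centralizer_iff] at hy
      have h3 := hy (f l) ⟨l, hl, rfl⟩
      rw [MonoidHom.mem_ker, commutatorElement_def, map_mul, map_mul, map_mul, ← h3, map_inv, map_inv]
      group
    have h3 : ⁅⁅X, L⁆, L⁆ = ⊥ := by
      rw [commutator_eq_bot_iff_le_centralizer]
      intro y hy
      rw [mem_centralizer_iff]
      intro l _
      exact mem_center_iff.1 (hC (h1 hy)) l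
    have h4 := SignalizersComponents.Components.commutator_eq_bot_of_commutator_commutator_eq_bot hperf h3
    rw [commutator_eq_bot_iff_le_centralizer, hCL, ← hfk] at h4
    exact MonoidHom.mem_ker.1 (h4 hgX)
  have hLn : (L.map f).Normal := hN.map f hf
  -- `L' ≃ L/Z(L)`
  obtain ⟨g, hg⟩ : ∃ g : ↥L →* ↥(L.map f), g = f.subgroupMap L := ⟨_, rfl⟩
  have hgs : Function.Surjective g := by rw [hg]; exact f.subgroupMap_surjective L
  have hgk : g.ker = center ↥L := by
    ext y
    rw [MonoidHom.mem_ker, mem_center_iff, hg]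
    constructor
    · intro h1 w
      have h3 : (y : G) ∈ f.ker := congrArg Subtype.val h1
      exact Subtype.ext (mem_center_iff.1 (hC h3) w)
    · intro h1
      have h3 : (y : G) ∈ centralizer (L : Set G) := by
        rw [mem_centralizer_iff]
        intro w hw
        exact congrArg Subtype.val (h1 ⟨w, hw⟩)
      rw [hCL, ← hfk] at h3
      exact Subtype.ext (MonoidHom.mem_ker.1 h3)
  have hsimp : IsSimpleGroup ↥(L.map f) := by
    have hs : IsSimpleGroup (↥L ⧸ center ↥L) := hL.2.2
    have e : ↥(L.map f) ≃* ↥L ⧸ center ↥L :=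
      ((QuotientGroup.quotientMulEquivOfEq hgk).symm.trans (QuotientGroup.quotientKerEquivOfSurjective g hgs)).symm
    exact e.isSimpleGroup
  have hna : ¬ IsMulCommutative ↥(L.map f) := by
    intro hcm
    have h1 : L.map f ≤ centralizer ((L.map f : Subgroup (G ⧸ center G)) : Set (G ⧸ center G)) := by
      intro a ha
      rw [mem_centralizer_iff]
      intro b hb
      exact congrArg Subtype.val (hcm.is_comm.comm (⟨b, hb⟩ : ↥(L.map f)) ⟨a, ha⟩)
    rw [hCL', le_bot_iff] at h1
    have h3 : Nontrivial ↥(L.map f) := hsimp.toNontrivial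
    rw [h1] at h3
    exact not_nontrivial _ h3
  have hF : generalizedFittingSubgroup (G ⧸ center G) = L.map f :=
    FixBN.BTheorem.genFitting_eq hLn hsimp hna hCL'
  refine { surj := hf, ker := hfk, two := h2, t0 := ?_, top := ?_, simple := ?_, na := ?_, inf := hKC, zm := hzm, three := ?_, cm := ?_ }
  · refine ⟨QuoCen.hyp_img_central h.hyp hf hC hKC, ?_, ?_⟩
    · rintro _ ⟨K, hK, rfl⟩
      rw [← Nat.card_congr (QuoCen.equivMap (hKC K hK)).toEquiv, t.card K hK]
    · exact ONType.Cz.oddCore_quotient_central t.core (center G) le_rfl (by rw [← hfk]; exact h2)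
  · rw [eq_top_iff]
    intro w _
    obtain ⟨g, rfl⟩ := hf w
    have h1 : (⊤ : Subgroup G) ≤ (sSup (img f Om)).comap f := by
      rw [← top]
      refine sSup_le fun K hK => ?_
      rw [← map_le_iff_le_comap]
      exact le_sSup ⟨K, hK, rfl⟩
    exact h1 (mem_top g)
  · rw [hF]; exact hsimp
  · rw [hF]; exact hna
  · exact fun K hK h3 => three_lift h hf hC h2 hKC hK h3
  · exact fun K hK L hL hc => cm_of_map h hC hKC hK hL hc

end Cfsg.Agent.Cit.Nil.Comp.SecQuo
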