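import Cfsg.Agent.Cit.Nil.Comp.MThree
import Cfsg.Agent.Cit.Nil.Comp.SecQuo
import Cfsg.Agent.Cit.Nil.RTwoM.AN.QuoF

/-!
# S1309 (n6a), AllOne branch, (M3): the family of the members of `X = ⟨K b : b ∈ Cl Z K z a⟩` in `H`, `X ≤ H ≤ C(K z)`

* `SH Z K z a H` : `X ≤ H ≤ C(K z)`, `O(H) = 1`;
* `SH.t0`, `SH.conn`, `SH.nn` : the world of the frame for `restr (K '' Z) H` (= the members of `X`);
* `SH.exists_f` : the quotient map of `H` by `C_H(X)`; `SH.qt`;
* `Tri.exists_partner` : every member of the class has exactly one C-partner in the class.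
-/

set_option autoImplicit false
set_option linter.style.haveILetI false
set_option linter.unusedSectionVars false

namespace Cfsg.Agent.Cit.Nil.Comp

open Subgroup Cfsg Cfsg.Agent.Cit Cfsg.Agent.Cit.Nil.ROne Cfsg.Agent.Cit.Nil.AN
open Cfsg.Agent.OddOrderLocal.NilParts
open Cfsg.Agent.Cit.Nil.RTwoM.Quo (QT QM)
open IndDefs (T0 NIL comp Adj)

universe u

variable {G : Type u} [Group G] {Z : Set G} {K : G → Subgroup G} {z a b u v x y g c : G} {H : Subgroup G}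

/-- an element of `B ∩ O₂(C)`, `B ≤ C`, lies in `O₂(B)` -/
theorem oP_sub {B C : Subgroup G} (h : B ≤ C) {x : G} (hx : x ∈ oP 2 C) (hxB : x ∈ B) : x ∈ oP 2 B := by
  have h1 : oP 2 C ⊓ B ≤ oP 2 B := by
    apply le_oP inf_le_right ((isPGroup_oP 2 C).to_le inf_le_left)
    intro g hg
    rw [mem_normalizer_iff]
    intro w
    have h2 := mem_normalizer_iff.1 (le_normalizer_oP 2 C (h hg)) w
    have h3 := mem_normalizer_iff.1 (le_normalizer (H := B) hg) w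
    rw [mem_inf, mem_inf]
    exact and_congr h2 h3
  exact h1 (mem_inf.2 ⟨hx, hxB⟩)

/-- see the head of the file -/
structure SH (Z : Set G) (K : G → Subgroup G) (z a : G) (H : Subgroup G) : Prop where
  le : Gp K (Cl Z K z a) ≤ H
  cen : ∀ g ∈ H, Ce g (K z)
  core : Cfsg.pPrimeCore 2 H = ⊥

section

variable [Finite G] (h : W Z K) (ao : AllOne Z K) (t : Tri Z K z a b) (s : SH Z K z a H)

include h ao t

/-- the members of `X` are those of the class -/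
theorem Tri.mem_cl_of_ce (hu : u ∈ Z) (hc : ∀ k ∈ K u, Ce k (K z)) : u ∈ Cl Z K z a := by
  have h1 : CP K z u := (cp_iff h t.hz).2 fun k hk l hl => (hc l hl k hk).symm
  exact ao.cls z t.hz a t.ha u hu t.cza h1

theorem Tri.clK (hu : u ∈ Cl Z K z a) : ∀ k ∈ K u, Ce k (K z) := fun k hk l hl =>
  ((t.cp h ao hu).2 l hl k hk).symm

theorem Tri.X_ce {x : G} (hx : x ∈ Gp K (Cl Z K z a)) : Ce x (K z) := by
  have h1 : Gp K (Cl Z K z a) ≤ centralizer (K z : Set G) := Gp_le fun u hu k hk => by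
    rw [mem_centralizer_iff]
    intro w hw
    exact (t.clK h ao hu k hk w hw).symm
  intro k hk
  exact (mem_centralizer_iff.1 (h1 hx) k hk).symm

theorem Tri.X_comm {x : G} (hx : x ∈ Gp K (Cl Z K z a)) : x * z = z * x := t.X_ce h ao hx z (h.mem z t.hz)

/-- `C(z)` acts on the class -/
theorem Tri.conj_cl (hg : g * z = z * g) (hu : u ∈ Cl Z K z a) : g * u * g⁻¹ ∈ Cl Z K z a := by
  have h1 := t.cp h ao hu
  have h2 : CP K z (g * u * g⁻¹) := by
    have h3 := h.cp_conj t.hz (t.clZ h ao hu) h1 g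
    rwa [hg, mul_inv_cancel_right] at h3
  exact ao.cls z t.hz a t.ha _ (h.conjZ u (t.clZ h ao hu) g) t.cza h2

theorem Tri.conj_X (hg : g * z = z * g) {x : G} (hx : x ∈ Gp K (Cl Z K z a)) : g * x * g⁻¹ ∈ Gp K (Cl Z K z a) :=
  gp_conj h (fun _ hu => t.clZ h ao hu) (fun _ hu => t.conj_cl h ao hg hu) hx

include s

theorem SH.leK (hu : u ∈ Cl Z K z a) : K u ≤ H := (le_Gp hu).trans s.le

theorem SH.sub_mem (hu : u ∈ Cl Z K z a) : (K u).subgroupOf H ∈ restr (K '' Z) H :=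
  subgroupOf_mem_restr ⟨u, t.clZ h ao hu, rfl⟩ (s.leK h ao t hu)

theorem SH.exists_cl {A : Subgroup H} (hA : A ∈ restr (K '' Z) H) : ∃ u ∈ Cl Z K z a, A = (K u).subgroupOf H := by
  obtain ⟨u, hu, h1⟩ := mem_restr.1 hA
  refine ⟨u, t.mem_cl_of_ce h ao hu fun k hk => s.cen k ?_, ?_⟩
  · rw [h1] at hk
    exact map_subtype_le A hk
  · rw [h1, subgroupOf, comap_map_eq_self_of_injective H.subtype_injective]

theorem SH.zz_sub (hu : u ∈ Cl Z K z a) : ((zz ((K u).subgroupOf H) : H) : G) = u := by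
  rw [Cit.zz_map h.hyp (s.sub_mem h ao t hu), map_subgroupOf_eq_of_le (s.leK h ao t hu), h.zz_K (t.clZ h ao hu)]

theorem SH.t0 : T0 (restr (K '' Z) H) where
  hyp := h.hyp.restr _
  card := by
    intro A hA
    obtain ⟨u, hu, rfl⟩ := s.exists_cl h ao t hA
    rw [Nat.card_congr (subgroupOfEquivOfLe (s.leK h ao t hu)).toEquiv]
    exact h.card8 (t.clZ h ao hu)
  core := s.core

theorem SH.conn : ∀ A ∈ restr (K '' Z) H, ∀ B ∈ restr (K '' Z) H, B ∈ comp (restr (K '' Z) H) A := by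
  have key : ∀ u ∈ Cl Z K z a, (K u).subgroupOf H ∈ comp (restr (K '' Z) H) ((K a).subgroupOf H) := by
    intro u hu
    have hu' : Relation.ReflTransGen (St Z K z) a u := hu
    clear hu
    induction hu' with
    | refl => exact IndDefs.mem_comp_self
    | @tail c d h1 h2 ih =>
      have hc : c ∈ Cl Z K z a := h1
      have hd : d ∈ Cl Z K z a := Relation.ReflTransGen.tail h1 h2
      refine IndDefs.mem_comp_of ih ⟨s.sub_mem h ao t hc, s.sub_mem h ao t hd, fun h3 => h2.2 ?_⟩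
      intro k hk l hl
      exact congrArg Subtype.val (h3 ⟨k, s.leK h ao t hc hk⟩ hk ⟨l, s.leK h ao t hd hl⟩ hl)
  intro A hA B hB
  obtain ⟨u, hu, rfl⟩ := s.exists_cl h ao t hA
  obtain ⟨v, hv, rfl⟩ := s.exists_cl h ao t hB
  exact IndDefs.comp_trans (IndDefs.comp_symm (key u hu)) (key v hv)

theorem SH.not_nil (hu : u ∈ Cl Z K z a) : ¬ NIL ((K u).subgroupOf H) := by
  intro h1
  have h2 : u ∈ oP 2 H := ⟨_, h1, s.zz_sub h ao t hu⟩
  have huX : u ∈ Gp K (Cl Z K z a) := le_Gp hu (h.mem u (t.clZ h ao hu))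
  have h3 : u ∈ oP 2 (Gp K (Cl Z K z a)) := oP_sub s.le h2 huX
  rw [← cl_eq (t.aO h ao) hu] at h3
  exact ao.not_nil z t.hz u (t.clZ h ao hu) (t.cp h ao hu) (Comp.oP_up h (cl_sub (t.aO h ao) hu) h3)

theorem SH.nn : ∃ A ∈ restr (K '' Z) H, ¬ NIL A :=
  ⟨_, s.sub_mem h ao t (cl_refl z a), s.not_nil h ao t (cl_refl z a)⟩

/-- the kernel -/
theorem SH.ker_iff {g : H} : (∀ A ∈ restr (K '' Z) H, ∀ k ∈ A, g * k = k * g) ↔
    ∀ x ∈ Gp K (Cl Z K z a), (g : G) * x = x * g := by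
  constructor
  · intro h1
    have h2 : Ce (g : G) (Gp K (Cl Z K z a)) := Gp_ce fun u hu k hk =>
      congrArg Subtype.val (h1 _ (s.sub_mem h ao t hu) ⟨k, s.leK h ao t hu hk⟩ hk)
    exact h2
  · intro h1 A hA k hk
    obtain ⟨u, hu, rfl⟩ := s.exists_cl h ao t hA
    exact Subtype.ext (h1 k (le_Gp hu hk))

/-- the quotient map -/
theorem SH.exists_f : ∃ (Y : Type u) (_ : Group Y) (_ : Finite Y) (f : H →* Y), Function.Surjective f ∧
    ∀ g, f g = 1 ↔ ∀ x ∈ Gp K (Cl Z K z a), (g : G) * x = x * g := by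
  obtain ⟨N, hN⟩ : ∃ N : Subgroup H, N = (centralizer (Gp K (Cl Z K z a) : Set G)).subgroupOf H := ⟨_, rfl⟩
  have mN : ∀ g : H, g ∈ N ↔ ∀ x ∈ Gp K (Cl Z K z a), (g : G) * x = x * g := by
    intro g
    rw [hN, mem_subgroupOf, mem_centralizer_iff]
    exact ⟨fun h1 x hx => (h1 x hx).symm, fun h1 x hx => (h1 x hx).symm⟩
  haveI hNn : N.Normal := by
    refine ⟨fun n hn g => ?_⟩
    rw [mN] at hn ⊢
    intro x hx
    have hgz : (g : G)⁻¹ * z = z * (g : G)⁻¹ := by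
      have h1 : (g : G) * z = z * g := s.cen g g.2 z (h.mem z t.hz)
      calc (g : G)⁻¹ * z = (g : G)⁻¹ * (z * g) * (g : G)⁻¹ := by group
        _ = (g : G)⁻¹ * (g * z) * (g : G)⁻¹ := by rw [h1]
        _ = _ := by group
    have h1 := hn _ (t.conj_X h ao hgz hx)
    rw [inv_inv] at h1
    show (g : G) * n * (g : G)⁻¹ * x = x * (g * n * (g : G)⁻¹)
    calc (g : G) * n * (g : G)⁻¹ * x = g * (n * ((g : G)⁻¹ * x * g)) * (g : G)⁻¹ := by group
      _ = g * (((g : G)⁻¹ * x * g) * n) * (g : G)⁻¹ := by rw [h1]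
      _ = x * (g * n * (g : G)⁻¹) := by group
  refine ⟨H ⧸ N, inferInstance, inferInstance, QuotientGroup.mk' N, QuotientGroup.mk'_surjective _, fun g => ?_⟩
  rw [QuotientGroup.mk'_apply, QuotientGroup.eq_one_iff, mN]

theorem SH.qt {Y : Type u} [Group Y] {f : H →* Y} (hf : Function.Surjective f)
    (hk : ∀ g, f g = 1 ↔ ∀ x ∈ Gp K (Cl Z K z a), (g : G) * x = x * g) : QT (restr (K '' Z) H) f where
  t0 := s.t0 h ao t
  conn := s.conn h ao t
  nn := s.nn h ao t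
  surj := hf
  ker g := by rw [hk, s.ker_iff h ao t]

end

section part

variable [Finite G] (h : W Z K) (ao : AllOne Z K) (t : Tri Z K z a b)

include h ao t

/-- every member of the class is conjugate under `X` to `a` or `b` -/
theorem Tri.exists_conj (hu : u ∈ Cl Z K z a) :
    ∃ g ∈ Gp K (Cl Z K z a), u = g * a * g⁻¹ ∨ u = g * b * g⁻¹ := by
  haveI : Fact (Nat.Prime 2) := ⟨Nat.prime_two⟩
  obtain ⟨X, hX⟩ : ∃ X, X = Gp K (Cl Z K z a) := ⟨_, rfl⟩
  rw [← hX]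
  have hle : ∀ v ∈ Cl Z K z a, K v ≤ X := fun v hv => by rw [hX]; exact le_Gp hv
  have hbC := t.b_mem h ao
  have haC : a ∈ Cl Z K z a := cl_refl z a
  have hab : IsPGroup 2 (K a ⊔ K b : Subgroup G) := by
    refine IsPGroup.to_sup_of_normal_right' (h.two t.ha) (h.two t.hb) ?_
    refine fun k hk => ?_
    apply (Subgroup.centralizer_le_normalizer _)
    rw [mem_centralizer_iff]
    intro l hl
    exact (t.cab.2 k hk l hl).symm
  have habX : K a ⊔ K b ≤ X := sup_le (hle a haC) (hle b hbC)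
  have h1 : IsPGroup 2 ((K a ⊔ K b : Subgroup G).subgroupOf X) := hab.comap_subtype
  have h2 : IsPGroup 2 ((K u).subgroupOf X) := (h.two (t.clZ h ao hu)).comap_subtype
  obtain ⟨S, hS⟩ := h1.exists_le_sylow
  obtain ⟨S', hS'⟩ := h2.exists_le_sylow
  obtain ⟨g, hg⟩ := MulAction.exists_smul_eq X S' S
  have hgX : (g : G) ∈ X := g.2
  have hgz : (g : G) * z = z * g := t.X_comm h ao (by rw [← hX]; exact hgX)
  obtain ⟨T, hT⟩ : ∃ T : Subgroup G, T = (S : Subgroup X).map X.subtype := ⟨_, rfl⟩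
  have hT2 : IsPGroup 2 T := by rw [hT]; exact S.isPGroup'.map _
  have haT : K a ≤ T := by
    intro k hk
    rw [hT]
    exact ⟨⟨k, hle a haC hk⟩, hS (mem_subgroupOf.2 (le_sup_left (a := K a) (b := K b) hk)), rfl⟩
  have hbT : K b ≤ T := by
    intro k hk
    rw [hT]
    exact ⟨⟨k, hle b hbC hk⟩, hS (mem_subgroupOf.2 (le_sup_right (a := K a) (b := K b) hk)), rfl⟩
  have hu' : (g : G) * u * (g : G)⁻¹ ∈ Cl Z K z a := t.conj_cl h ao hgz hu
  have huT : K ((g : G) * u * (g : G)⁻¹) ≤ T := by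
    rw [h.conjK u (t.clZ h ao hu)]
    intro k hk
    rw [mem_cj] at hk
    have hkX : (g : G)⁻¹ * k * g ∈ X := hle u hu hk
    have h3 : (⟨(g : G)⁻¹ * k * g, hkX⟩ : X) ∈ (S' : Subgroup X) := hS' (mem_subgroupOf.2 hk)
    have h4 : g * (⟨(g : G)⁻¹ * k * g, hkX⟩ : X) * g⁻¹ ∈ (S : Subgroup X) := by
      rw [← hg]
      exact ⟨_, h3, rfl⟩
    rw [hT]
    refine ⟨_, h4, ?_⟩
    show (g : G) * ((g : G)⁻¹ * k * g) * (g : G)⁻¹ = k
    group
  have huZ := t.clZ h ao hu'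
  have key : (g : G) * u * (g : G)⁻¹ = a ∨ (g : G) * u * (g : G)⁻¹ = b := by
    by_cases h5 : (g : G) * u * (g : G)⁻¹ = a
    · exact Or.inl h5
    · refine t.eq_or h ao hu' fun k hk => ?_
      have h6 := h.com huZ t.ha hT2 huT haT h5
      exact h6.2 _ (h.mem _ huZ) k hk
  refine ⟨(g : G)⁻¹, inv_mem hgX, ?_⟩
  rcases key with h5 | h5
  · left; rw [← h5]; group
  · right; rw [← h5]; group

/-- the C-partner in the class -/
theorem Tri.exists_partner (hu : u ∈ Cl Z K z a) : ∃ v, Tri Z K z u v ∧ (∃ g ∈ Gp K (Cl Z K z a),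
    (u = g * a * g⁻¹ ∧ v = g * b * g⁻¹) ∨ (u = g * b * g⁻¹ ∧ v = g * a * g⁻¹)) := by
  obtain ⟨g, hg, h1⟩ := t.exists_conj h ao hu
  have hgz := t.X_comm h ao hg
  have hcab := h.cp_conj t.ha t.hb t.cab g
  have e : g * z * g⁻¹ = z := by rw [hgz, mul_inv_cancel_right]
  have hza := h.cp_conj t.hz t.ha t.cza g
  have hzb := h.cp_conj t.hz t.hb t.czb g
  rw [e] at hza hzb
  rcases h1 with h1 | h1
  · refine ⟨g * b * g⁻¹, ⟨t.hz, t.clZ h ao hu, h.conjZ b t.hb g, t.cp h ao hu, hzb, ?_⟩, g, hg, Or.inl ⟨h1, rfl⟩⟩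
    rw [h1]; exact hcab
  · refine ⟨g * a * g⁻¹, ⟨t.hz, t.clZ h ao hu, h.conjZ a t.ha g, t.cp h ao hu, hza, ?_⟩, g, hg, Or.inr ⟨h1, rfl⟩⟩
    rw [h1]; exact cp_sym hcab

theorem Tri.cl_of (hu : u ∈ Cl Z K z a) : Cl Z K z u = Cl Z K z a := cl_eq (t.aO h ao) hu

end part

end Cfsg.Agent.Cit.Nil.Comp
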