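import Cfsg.Agent.TwoFusion.Isolated
import Cfsg.Agent.TwoFusion.IsolatedCenter
import Cfsg.Agent.S0215
import Cfsg.Agent.Lib.Cores

/-!
# Glauberman's Z*-theorem modulo a central 2-subgroup

`zstar_central` : `V ≤ Z(X)` a 2-group, `z ∈ X` an involution isolated modulo `V`, `z` centralises the normal subgroups
of odd order of `X`: the `X`-conjugates of `z` commute with `z`.
-/

set_option autoImplicit false
set_option linter.style.haveILetI false

namespace Cfsg.Agent.Cit.Nil.Comp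

open Subgroup Cfsg

/-- the elements which are in the core modulo a central 2-group -/
theorem exists_of_mem_core_quot {X : Type*} [Group X] [Finite X] {V : Subgroup X} [hVn : V.Normal]
    (hVc : V ≤ center X) (hV2 : IsPGroup 2 V) {x : X} (hx : (x : X ⧸ V) ∈ pPrimeCore 2 (X ⧸ V)) :
    ∃ v ∈ V, ∃ o ∈ pPrimeCore 2 X, x = v * o := by
  set P : Subgroup X := (pPrimeCore 2 (X ⧸ V)).comap (QuotientGroup.mk' V) with hP
  haveI hcn : (pPrimeCore 2 (X ⧸ V)).Normal := Cfsg.Agent.Lib.Cores.pPrimeCore_normal 2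
  have hPn : P.Normal := inferInstance
  have hVP : V ≤ P := by
    intro w hw
    rw [hP, mem_comap]
    have h1 : (QuotientGroup.mk' V) w = 1 := by
      rw [← MonoidHom.mem_ker, QuotientGroup.ker_mk']; exact hw
    rw [h1]; exact one_mem _
  have hcard : Nat.card P = Nat.card V * Nat.card (pPrimeCore 2 (X ⧸ V)) :=
    QuotientGroup.card_preimage_mk V (pPrimeCore 2 (X ⧸ V) : Set (X ⧸ V))
  have hidx : (V.subgroupOf P).index = Nat.card (pPrimeCore 2 (X ⧸ V)) := by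
    have h4 := card_mul_index (V.subgroupOf P)
    rw [Nat.card_congr (subgroupOfEquivOfLe hVP).toEquiv, hcard] at h4
    exact Nat.eq_of_mul_eq_mul_left Nat.card_pos h4
  have hodd : Odd (V.subgroupOf P).index := by
    rw [hidx]
    exact Nat.coprime_two_right.mp (Cfsg.Agent.Lib.Cores.pPrimeCore_coprime 2)
  have hc' : V.subgroupOf P ≤ center P := by
    intro w hw
    rw [mem_center_iff]
    intro v
    ext
    have := mem_center_iff.mp (hVc (mem_subgroupOf.mp hw)) v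
    simpa using this
  haveI : (V.subgroupOf P).Normal := Cfsg.Agent.TwoFusion.IsolatedCenter.normal_of_le_center hc'
  obtain ⟨k, hk⟩ := (hV2.comap_subtype (K := P)).exists_card_eq
  have hcop : Nat.Coprime (Nat.card (V.subgroupOf P)) (V.subgroupOf P).index := by
    change Nat.card (V.subgroupOf P) = 2 ^ k at hk
    rw [hk]
    exact Nat.Coprime.pow_left _ (Nat.coprime_two_left.mpr hodd)
  obtain ⟨H, hH⟩ := exists_right_complement'_of_coprime hcop
  have hHn : H.Normal := by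
    refine ⟨fun h hh g => ?_⟩
    obtain ⟨⟨z, h'⟩, hzh⟩ := hH.2 g
    simp only at hzh
    rw [← hzh]
    have hz : (z : P) ∈ center P := hc' z.2
    have h1 : (z : P) * h' * h * ((z : P) * h')⁻¹ = (h' : P) * h * (h' : P)⁻¹ := by
      have h2 := (mem_center_iff.mp hz) ((h' : P) * h * (h' : P)⁻¹)
      calc (z : P) * h' * h * ((z : P) * h')⁻¹ = z * ((h' : P) * h * (h' : P)⁻¹) * (z : P)⁻¹ := by group
        _ = ((h' : P) * h * (h' : P)⁻¹) := by rw [← h2]; group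
    rw [h1]
    exact H.mul_mem (H.mul_mem h'.2 hh) (H.inv_mem h'.2)
  have hHcard : Nat.card H = (V.subgroupOf P).index := hH.symm.index_eq_card.symm
  have hHO : H ≤ pPrimeCore 2 P := Cfsg.Agent.Lib.Cores.le_pPrimeCore hHn (by
    rw [hHcard]
    exact Nat.coprime_two_right.mpr hodd)
  obtain ⟨⟨v, h'⟩, hvh⟩ := hH.2 (⟨x, hx⟩ : P)
  simp only at hvh
  have h5 := Cfsg.Agent.Lib.Cores.map_subtype_pPrimeCore (G := X) 2 (N := P) hPn
  refine ⟨((v : P) : X), mem_subgroupOf.mp v.2, ((h' : P) : X), ?_, (congrArg Subtype.val hvh).symm⟩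
  have h6 : ((h' : P) : X) ∈ (pPrimeCore 2 P).map P.subtype := ⟨h', hHO h'.2, rfl⟩
  rw [h5] at h6
  exact (mem_inf.1 h6).2

/-- Z* modulo a central 2-group, as a theorem on the group `X` -/
theorem zstar_central {X : Type*} [Group X] [Finite X] {V : Subgroup X} (hVc : V ≤ center X) (hV2 : IsPGroup 2 V)
    {z : X} (zz : z * z = 1) (hzV : z ∉ V)
    (iso : ∀ g : X, z * (g * z * g⁻¹) * (g * z * g⁻¹ * z)⁻¹ ∈ V → g * z * g⁻¹ * z⁻¹ ∈ V)
    (hO : ∀ n ∈ pPrimeCore 2 X, z * n = n * z) (g : X) : z * (g * z * g⁻¹) = g * z * g⁻¹ * z := by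
  haveI : V.Normal := Cfsg.Agent.TwoFusion.IsolatedCenter.normal_of_le_center hVc
  have hmk : ∀ x y : X, (x : X ⧸ V) = (y : X ⧸ V) ↔ x * y⁻¹ ∈ V := by
    intro x y
    rw [← QuotientGroup.eq_one_iff, QuotientGroup.mk_mul, QuotientGroup.mk_inv, mul_inv_eq_one]
  set zb : X ⧸ V := (z : X ⧸ V) with hzb
  have zb1 : zb ≠ 1 := fun h3 => hzV ((QuotientGroup.eq_one_iff z).1 h3)
  have zb2 : zb * zb = 1 := by
    rw [hzb, ← QuotientGroup.mk_mul, zz]; rfl
  have hiso : Cfsg.IsIsolatedInvolution zb := by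
    refine ⟨orderOf_eq_prime (by rw [pow_two]; exact zb2) zb1, ?_⟩
    intro gb hcm
    obtain ⟨g, rfl⟩ := QuotientGroup.mk_surjective gb
    have h3 : ((z * (g * z * g⁻¹) : X) : X ⧸ V) = ((g * z * g⁻¹ * z : X) : X ⧸ V) := hcm
    change ((g * z * g⁻¹ : X) : X ⧸ V) = ((z : X) : X ⧸ V)
    rw [hmk] at h3 ⊢
    exact iso g h3
  have hI : Cfsg.Agent.Involutions.ZStar.Iso zb := by
    refine ⟨zb2, fun g => ?_⟩
    have h1 := Cfsg.Agent.TwoFusion.Isolated.odd_orderOf_conj_mul hiso g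
    have h2 : zb * (g * zb * g⁻¹) = zb * (g * zb * g⁻¹ * zb) * zb⁻¹ := by group
    rw [h2]
    have h3 := (MulAut.conj zb).orderOf_eq (g * zb * g⁻¹ * zb)
    rw [MulAut.conj_apply] at h3
    rw [h3]
    exact h1
  have h5 := Cfsg.Agent.S0215.iso_commutator zb hI (g : X ⧸ V)
  have h6 : ((z * g * z⁻¹ * g⁻¹ : X) : X ⧸ V) ∈ pPrimeCore 2 (X ⧸ V) := h5
  obtain ⟨v, hv, o, ho, h7⟩ := exists_of_mem_core_quot hVc hV2 h6
  have hzi : z⁻¹ = z := inv_eq_of_mul_eq_one_right zz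
  have hvc := mem_center_iff.1 (hVc hv)
  have h8 : g * z * g⁻¹ = o⁻¹ * v⁻¹ * z := by
    have h9 : (z * g * z⁻¹ * g⁻¹)⁻¹ = (v * o)⁻¹ := by rw [h7]
    rw [mul_inv_rev v o] at h9
    rw [← h9]
    calc g * z * g⁻¹ = (z * g * z⁻¹ * g⁻¹)⁻¹ * z := by group
      _ = _ := by group
  have h10 : z * o⁻¹ = o⁻¹ * z := hO _ (inv_mem ho)
  have h11 : z * v⁻¹ = v⁻¹ * z := mem_center_iff.1 (hVc (inv_mem hv)) z
  rw [h8]
  calc z * (o⁻¹ * v⁻¹ * z) = (z * o⁻¹) * v⁻¹ * z := by group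
    _ = o⁻¹ * (z * v⁻¹) * z := by rw [h10]; group
    _ = o⁻¹ * v⁻¹ * z * z := by rw [h11]; group

variable {G : Type*} [Group G]

/-- **Z\*** modulo a central 2-group, in a subgroup `X` -/
theorem zstar_four [Finite G] {X V : Subgroup G} (hVc : ∀ v ∈ V, ∀ x ∈ X, v * x = x * v)
    (hV2 : IsPGroup 2 V) {z : G} (hzX : z ∈ X) (zz : z * z = 1) (hzV : z ∉ V)
    (iso : ∀ g ∈ X, z * (g * z * g⁻¹) * (g * z * g⁻¹ * z)⁻¹ ∈ V → g * z * g⁻¹ * z⁻¹ ∈ V)
    (hO : ∀ N : Subgroup G, N ≤ X → (∀ x ∈ X, ∀ n ∈ N, x * n * x⁻¹ ∈ N) → Odd (Nat.card N) →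
      ∀ n ∈ N, z * n = n * z) {g : G} (hg : g ∈ X) : z * (g * z * g⁻¹) = g * z * g⁻¹ * z := by
  have h1 := zstar_central (X := X) (V := V.subgroupOf X) (z := ⟨z, hzX⟩) ?_ (hV2.comap_subtype)
    (Subtype.ext zz) (fun h2 => hzV (mem_subgroupOf.1 h2)) (fun g h2 => mem_subgroupOf.2
      (iso g g.2 (mem_subgroupOf.1 h2))) ?_ ⟨g, hg⟩
  · exact congrArg Subtype.val h1
  · intro w hw
    rw [mem_center_iff]
    exact fun x => Subtype.ext (hVc _ (mem_subgroupOf.1 hw) x x.2).symm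
  · intro n hn
    apply Subtype.ext
    refine hO ((pPrimeCore 2 X).map X.subtype) (map_subtype_le _) ?_ ?_ n ⟨n, hn, rfl⟩
    · rintro x hx _ ⟨m, hm, rfl⟩
      exact ⟨⟨x, hx⟩ * m * ⟨x, hx⟩⁻¹,
        (Cfsg.Agent.Lib.Cores.pPrimeCore_normal 2 : (pPrimeCore 2 X).Normal).conj_mem m hm ⟨x, hx⟩, rfl⟩
    · rw [card_map_of_injective X.subtype_injective]
      exact Nat.coprime_two_right.mp (Cfsg.Agent.Lib.Cores.pPrimeCore_coprime (G := X) 2)

end Cfsg.Agent.Cit.Nil.Comp
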