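import Cfsg.Agent.Cit.Nil.AN.Inst
import Cfsg.Agent.Cit.Nil.Comp.ZStarV
import Cfsg.Agent.Lib.KleinGen
import Cfsg.Agent.StdEven.Syl

/-!
# S1309 (6b), `r = 1`, COMP: the product situation with `m = 2` and two blocks, K-free (helper61)

`TB Z K z u` : `(z, u)` is a C-pair, `Z` contains no three pairwise commuting members, the frame of `z` is the union
of the blocks `{a | CP a u}` and `{b | CP b z}`.

* `BU Z K z u c` : `c` is in the block of `u`, commutes with `u`, `c ≠ u`;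
* `TB.enemy` : an N-partner `x` of `z` and `u` does not commute with `c`;
* `TB.cen_bu` : `C(z u) ∩ C(c) ≤ C(z) ∩ C(u)`.
-/

set_option autoImplicit false
set_option linter.style.haveILetI false
set_option linter.unusedSectionVars false

namespace Cfsg.Agent.Cit.Nil.Comp

open Subgroup Cfsg Cfsg.Agent.Cit Cfsg.Agent.Cit.Nil.ROne

variable {G : Type*} [Group G]

/-- two blocks, `m = 2` -/
structure TB (Z : Set G) (K : G → Subgroup G) (z u : G) : Prop where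
  w : W Z K
  hz : z ∈ Z
  hu : u ∈ Z
  cp : CP K z u
  n3 : ∀ a ∈ Z, ∀ b ∈ Z, ∀ c ∈ Z, CP K a b → CP K a c → CP K b c → False
  ab : ∀ a ∈ Z, ∀ b ∈ Z, CP K a u → CP K b z → CP K a b
  f1 : ∀ v ∈ Z, ∀ y ∈ Z, (CP K v u ∨ CP K v z) → CP K v y → (CP K y u ∨ CP K y z)
  f2 : ∀ y ∈ Z, ∀ v, (v = z ∨ v = u) → CP K v (y * v * y⁻¹) → (CP K y u ∨ CP K y z)

/-- `c` is in the block of `u`, commutes with `u` and is not `u` -/
def BU (Z : Set G) (K : G → Subgroup G) (z u c : G) : Prop := c ∈ Z ∧ CP K c z ∧ NP K c u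

/-! ### Dihedral groups -/

theorem dih_pow {s t ρ : G} (hρ : ρ = s * t) (ss : s * s = 1) (tt : t * t = 1) (k : ℕ) :
    s * ρ ^ k = (ρ ^ k)⁻¹ * s := by
  have hsi : s⁻¹ = s := inv_eq_of_mul_eq_one_right ss
  have hti : t⁻¹ = t := inv_eq_of_mul_eq_one_right tt
  have h1 : s * ρ * s⁻¹ = ρ⁻¹ := by
    rw [hρ, mul_inv_rev, hsi, hti, ← mul_assoc, ss, one_mul]
  have h2 : s * ρ ^ k * s⁻¹ = (ρ ^ k)⁻¹ := by
    rw [← conj_pow, h1, inv_pow]
  rw [← h2, inv_mul_cancel_right]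

theorem dih_comm {s t ρ : G} (hρ : ρ = s * t) (x : G) (h1 : x * s = s * x) (h2 : x * t = t * x) (k : ℕ) :
    Commute x (ρ ^ k) := by
  have h3 : Commute x ρ := by
    change x * ρ = ρ * x
    rw [hρ, ← mul_assoc, h1, mul_assoc, h2, mul_assoc]
  exact h3.pow_right k

/-- the central involution of a dihedral group -/
theorem exists_invol [Finite G] {s t : G} (ss : s * s = 1) (tt : t * t = 1) (hev : ¬ Odd (orderOf (s * t))) :
    ∃ e, e ≠ 1 ∧ e * e = 1 ∧ e * s = s * e ∧ e * t = t * e ∧ (∀ x, x * s = s * x → x * t = t * x → x * e = e * x) ∧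
      ∃ r, (∀ x, x * s = s * x → x * t = t * x → x * r = r * x) ∧ (s * e = r * s * r⁻¹ ∨ s * e = r * t * r⁻¹) := by
  obtain ⟨ρ, hρ⟩ : ∃ ρ, ρ = s * t := ⟨_, rfl⟩
  rw [← hρ] at hev
  obtain ⟨m, hm⟩ := Nat.not_odd_iff_even.1 hev
  have hpos : 0 < orderOf ρ := orderOf_pos ρ
  have hts : t = s * ρ := by rw [hρ, ← mul_assoc, ss, one_mul]
  have hdp := fun k : ℕ => dih_pow hρ ss tt k
  have hee : ρ ^ m * ρ ^ m = 1 := by rw [← pow_add, ← hm, pow_orderOf_eq_one]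
  have hinv : (ρ ^ m)⁻¹ = ρ ^ m := inv_eq_of_mul_eq_one_right hee
  have hes : ρ ^ m * s = s * ρ ^ m := by rw [hdp, hinv]
  refine ⟨ρ ^ m, ?_, hee, hes, ?_, fun x h1 h2 => (dih_comm hρ x h1 h2 m).eq, ?_⟩
  · intro h1
    have h2 := orderOf_dvd_of_pow_eq_one h1
    have h3 := Nat.le_of_dvd (by omega) h2
    omega
  · rw [hts]
    calc ρ ^ m * (s * ρ) = (ρ ^ m * s) * ρ := by group
      _ = s * (ρ ^ m * ρ) := by rw [hes, mul_assoc]
      _ = s * (ρ * ρ ^ m) := by rw [← pow_succ, ← pow_succ']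
      _ = s * ρ * ρ ^ m := by rw [mul_assoc]
  · rcases Nat.even_or_odd' m with ⟨k, hk | hk⟩
    · refine ⟨ρ ^ k, fun x h1 h2 => (dih_comm hρ x h1 h2 k).eq, Or.inl ?_⟩
      have h1 : s * (ρ ^ k)⁻¹ = ρ ^ k * s := by
        rw [mul_inv_eq_iff_eq_mul, mul_assoc, hdp, mul_inv_cancel_left]
      calc s * ρ ^ m = ρ ^ m * s := hes.symm
        _ = ρ ^ k * (ρ ^ k * s) := by rw [hk, two_mul, pow_add, mul_assoc]
        _ = ρ ^ k * (s * (ρ ^ k)⁻¹) := by rw [h1]
        _ = ρ ^ k * s * (ρ ^ k)⁻¹ := (mul_assoc _ _ _).symm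
    · refine ⟨(ρ ^ k)⁻¹, fun x h1 h2 => (dih_comm hρ x h1 h2 k).inv_right.eq, Or.inr ?_⟩
      rw [inv_inv, hts]
      calc s * ρ ^ m = s * (ρ ^ k * (ρ * ρ ^ k)) := by
            rw [← pow_succ', ← pow_add]
            congr 2
            omega
        _ = (s * ρ ^ k) * (ρ * ρ ^ k) := by group
        _ = ((ρ ^ k)⁻¹ * s) * (ρ * ρ ^ k) := by rw [hdp]
        _ = (ρ ^ k)⁻¹ * (s * ρ) * ρ ^ k := by group

/-- two involutions with a product of odd order are interchanged -/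
theorem exists_swap {s t : G} (ss : s * s = 1) (tt : t * t = 1) (hodd : Odd (orderOf (s * t))) :
    ∃ y, y * y = 1 ∧ y * s * y⁻¹ = t ∧ y * t * y⁻¹ = s ∧
      ∀ x, x * s = s * x → x * t = t * x → x * y = y * x := by
  obtain ⟨ρ, hρ⟩ : ∃ ρ, ρ = s * t := ⟨_, rfl⟩
  rw [← hρ] at hodd
  obtain ⟨m, hm⟩ := hodd
  have hts : t = s * ρ := by rw [hρ, ← mul_assoc, ss, one_mul]
  have hdp := fun k : ℕ => dih_pow hρ ss tt k
  obtain ⟨j, hj⟩ : ∃ j, j = m + 1 := ⟨_, rfl⟩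
  have hyy : s * ρ ^ j * (s * ρ ^ j) = 1 := by
    calc s * ρ ^ j * (s * ρ ^ j) = s * ρ ^ j * ((ρ ^ j)⁻¹ * s) := by rw [hdp]
      _ = s * s := by group
      _ = 1 := ss
  have hyi : (s * ρ ^ j)⁻¹ = s * ρ ^ j := inv_eq_of_mul_eq_one_right hyy
  have h1 : s * ρ ^ j * s * (s * ρ ^ j)⁻¹ = t := by
    rw [hyi]
    calc s * ρ ^ j * s * (s * ρ ^ j) = s * ρ ^ j * (s * s) * ρ ^ j := by group
      _ = s * (ρ ^ j * ρ ^ j) := by rw [ss, mul_one, mul_assoc]
      _ = s * ρ := by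
        rw [← pow_add]
        have h2 : j + j = orderOf ρ + 1 := by omega
        rw [h2, pow_succ, pow_orderOf_eq_one, one_mul]
      _ = t := hts.symm
  refine ⟨s * ρ ^ j, hyy, h1, ?_, fun x h2 h3 => ?_⟩
  · calc s * ρ ^ j * t * (s * ρ ^ j)⁻¹ = s * ρ ^ j * (s * ρ ^ j * s * (s * ρ ^ j)) * (s * ρ ^ j) := by
          rw [hyi] at h1 ⊢
          rw [h1]
      _ = (s * ρ ^ j * (s * ρ ^ j)) * s * (s * ρ ^ j * (s * ρ ^ j)) := by group
      _ = s := by rw [hyy, one_mul, mul_one]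
  · have h4 := (dih_comm hρ x h2 h3 j).eq
    calc x * (s * ρ ^ j) = (x * s) * ρ ^ j := by group
      _ = s * (x * ρ ^ j) := by rw [h2, mul_assoc]
      _ = s * ρ ^ j * x := by rw [h4, mul_assoc]

namespace TB

variable {Z : Set G} {K : G → Subgroup G} {z u : G}

section basic

variable (t : TB Z K z u) {v x y c b g : G}

include t

theorem comm : z * u = u * z := t.w.comm_of_cp t.hz t.hu t.cp

theorem symm : TB Z K u z where
  w := t.w
  hz := t.hu
  hu := t.hz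
  cp := t.cp.symm
  n3 := t.n3
  ab a ha b hb h1 h2 := (t.ab b hb a ha h2 h1).symm
  f1 v hv y hy h1 h2 := (t.f1 v hv y hy h1.symm h2).symm
  f2 y hy v h1 h2 := (t.f2 y hy v h1.symm h2).symm

theorem cen_z : Cen K (z * u) z := by
  refine Cen.mul (fun k hk => (t.w.cent t.hz hk).symm) (t.w.cen_of_cp t.hu t.cp)

theorem cen_u : Cen K (z * u) u := by
  rw [t.comm]
  exact t.symm.cen_z

theorem zz : z * z = 1 := t.w.sq z t.hz

theorem uu : u * u = 1 := t.w.sq u t.hu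

theorem zzu : z * (z * u) = u := by rw [← mul_assoc, t.zz, one_mul]

theorem uzu : u * (z * u) = z := by rw [t.comm, ← mul_assoc, t.uu, one_mul]

theorem zuz : z * u * z = u := by rw [t.comm, mul_assoc, t.zz, mul_one]

theorem zuu : z * u * u = z := by rw [mul_assoc, t.uu, mul_one]

/-- `g ∈ C(z u) ∩ C(z)` centralises `u` -/
theorem comm_u (hg : g * (z * u) = z * u * g) (h1 : g * z = z * g) : g * u = u * g := by
  calc g * u = g * (z * (z * u)) := by rw [t.zzu]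
    _ = g * z * (z * u) := by group
    _ = z * g * (z * u) := by rw [h1]
    _ = z * (g * (z * u)) := by group
    _ = z * (z * u) * g := by rw [hg]; group
    _ = u * g := by rw [t.zzu]

theorem conj_u (hg : g * (z * u) = z * u * g) : g * u * g⁻¹ = z * u * (g * z * g⁻¹) := by
  calc g * u * g⁻¹ = g * (z * u * z) * g⁻¹ := by rw [t.zuz]
    _ = g * (z * u) * z * g⁻¹ := by group
    _ = z * u * (g * z * g⁻¹) := by rw [hg]; group

/-- the members of `C(z u)` in the frame are `z` and `u` -/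
theorem om_eq (hv : v ∈ Z) (hc : Cen K (z * u) v) (hs : CP K v u ∨ CP K v z) : v = z ∨ v = u := by
  rcases hs with h1 | h1
  · have h2 : Cen K u v := fun k hk => (h1.2 k hk u (t.w.mem u t.hu)).symm
    have h3 := hc.mul h2
    rw [t.zuu] at h3
    rcases (t.w.cen_iff hv t.hz).1 h3 with h4 | h4
    · exact Or.inl h4
    · exact (t.n3 v hv z t.hz u t.hu h4 h1 t.cp).elim
  · have h2 : Cen K z v := fun k hk => (h1.2 k hk z (t.w.mem z t.hz)).symm
    have h3 := hc.mul h2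
    rw [t.zuz] at h3
    rcases (t.w.cen_iff hv t.hu).1 h3 with h4 | h4
    · exact Or.inr h4
    · exact (t.n3 v hv z t.hz u t.hu h1 h4 t.cp).elim

theorem cases (c1 : v * z = z * v) (c2 : v * u = u * v) :
    v = z ∨ v = u ∨ CP K v z ∨ CP K v u ∨ (NP K v z ∧ NP K v u) := by
  by_cases h1 : v = z
  · exact Or.inl h1
  by_cases h2 : v = u
  · exact Or.inr (Or.inl h2)
  by_cases h3 : CP K v z
  · exact Or.inr (Or.inr (Or.inl h3))
  by_cases h4 : CP K v u
  · exact Or.inr (Or.inr (Or.inr (Or.inl h4)))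
  exact Or.inr (Or.inr (Or.inr (Or.inr ⟨⟨h1, c1, h3⟩, h2, c2, h4⟩)))

theorem bu_of (hc : c ∈ Z) (h1 : CP K c z) (h2 : c * u = u * c) (h3 : c ≠ u) : BU Z K z u c :=
  ⟨hc, h1, h3, h2, fun h4 => t.n3 c hc z t.hz u t.hu h1 h4 t.cp⟩

theorem not_om (hc : BU Z K z u c) : ¬ Cen K (z * u) c := by
  intro h1
  have h2 : Cen K z c := fun k hk => (hc.2.1.2 k hk z (t.w.mem z t.hz)).symm
  have h3 := h1.mul h2
  rw [t.zuz] at h3
  rcases (t.w.cen_iff hc.1 t.hu).1 h3 with h4 | h4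
  · exact hc.2.2.1 h4
  · exact hc.2.2.2.2 h4

theorem bu_comm (hc : BU Z K z u c) : c * z = z * c := t.w.comm_of_cp hc.1 t.hz hc.2.1

theorem bu_comm_h (hc : BU Z K z u c) : c * (z * u) = z * u * c := by
  rw [← mul_assoc, t.bu_comm hc, mul_assoc, hc.2.2.2.1, mul_assoc]

/-- conjugation by an element of `C(z u)` fusing elements of the block of `u` -/
theorem conj_z (hc : c ∈ Z) (hcz : CP K c z) (hg : g * (z * u) = z * u * g)
    (h1 : CP K (g * c * g⁻¹) u ∨ CP K (g * c * g⁻¹) z) : g * z * g⁻¹ = z ∨ g * z * g⁻¹ = u := by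
  have hv : g * z * g⁻¹ ∈ Z := t.w.conjZ z t.hz g
  have h2 : CP K (g * c * g⁻¹) (g * z * g⁻¹) := t.w.cp_conj hc t.hz hcz g
  refine t.om_eq hv ?_ (t.f1 _ (t.w.conjZ c hc g) _ hv h1 h2)
  have h3 := t.w.cen_conj t.hz g t.cen_z
  rwa [hg, mul_inv_cancel_right] at h3

/-- `C(z u) ∩ C(c) ≤ C(z) ∩ C(u)` -/
theorem cen_bu (hc : BU Z K z u c) (hg : g * (z * u) = z * u * g) (hgc : g * c = c * g) :
    g * z = z * g ∧ g * u = u * g := by
  have h1 : g * c * g⁻¹ = c := by rw [hgc, mul_inv_cancel_right]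
  have h2 : g * z * g⁻¹ = z := by
    rcases t.conj_z hc.1 hc.2.1 hg (by rw [h1]; exact Or.inr hc.2.1) with h3 | h3
    · exact h3
    · exfalso
      have h4 := t.w.cp_conj hc.1 t.hz hc.2.1 g
      rw [h1, h3] at h4
      exact hc.2.2.2.2 h4
  have h3 : g * z = z * g := mul_inv_eq_iff_eq_mul.1 h2
  exact ⟨h3, t.comm_u hg h3⟩

/-- two elements of `BU` fused in `C(z u)` -/
theorem bu_conj (hc : BU Z K z u c) (hg : g * (z * u) = z * u * g) (hc' : BU Z K z u (g * c * g⁻¹)) :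
    g * z * g⁻¹ = z := by
  rcases t.conj_z hc.1 hc.2.1 hg (Or.inr hc'.2.1) with h3 | h3
  · exact h3
  · exfalso
    have h4 := t.w.cp_conj hc.1 t.hz hc.2.1 g
    rw [h3] at h4
    exact hc'.2.2.2.2 h4

/-- no element of `Z` interchanges `z` and `u` -/
theorem no_swap (hy : y ∈ Z) (h1 : y * z * y⁻¹ = u) : False := by
  have h2 : y * u * y⁻¹ = z := by
    rw [← h1]
    have hyy := t.w.sq y hy
    calc y * (y * z * y⁻¹) * y⁻¹ = (y * y) * z * (y * y)⁻¹ := by group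
      _ = z := by rw [hyy]; group
  rcases t.f2 y hy z (Or.inl rfl) (by rw [h1]; exact t.cp) with h3 | h3
  · have h4 := t.w.comm_of_cp hy t.hu h3
    rw [h4, mul_inv_cancel_right] at h2
    exact t.cp.1 h2.symm
  · have h4 := t.w.comm_of_cp hy t.hz h3
    rw [h4, mul_inv_cancel_right] at h1
    exact t.cp.1 h1

end basic

section fin

variable [Finite G] (t : TB Z K z u) {v x y c b g : G}

include t

/-- N-partners of both `z` and `u` -/
theorem om_of_np (hx : x ∈ Z) (n1 : NP K x z) (n2 : NP K x u) : Cen K (z * u) x :=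
  t.w.triple_cen hx t.hz t.hu t.cp n1.2.1 n2.2.1 n1.2.2 n2.2.2 n1.1 n2.1

/-- **`x` does not commute with `c`** -/
theorem enemy (hx : x ∈ Z) (n1 : NP K x z) (n2 : NP K x u) (hc : BU Z K z u c) : x * c ≠ c * x := by
  intro hxc
  have hne : x ≠ c := by
    rintro rfl
    exact n1.2.2 hc.2.1
  have hs : ∀ {w : G}, w ∈ Z → CP K w z → ¬ CP K x w := by
    intro w hw h1 h2
    rcases t.f1 w hw x hx (Or.inr h1) h2.symm with h3 | h3
    · exact n2.2.2 h3
    · exact n1.2.2 h3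
  have nc : NP K x c := ⟨hne, hxc, hs hc.1 hc.2.1⟩
  have h1 := t.om_of_np hx n1 n2
  have h2 := t.w.triple_cen hx t.hz hc.1 hc.2.1.symm n1.2.1 nc.2.1 n1.2.2 nc.2.2 n1.1 nc.1
  have h3 : Cen K (u * c) x := by
    have h4 := h1.mul h2
    have h5 : z * u * (z * c) = u * c := by
      rw [← mul_assoc, t.zuz]
    rwa [h5] at h4
  have nuc : NP K u c := hc.2.2.symm
  obtain ⟨a, ha, -, -, h4, -⟩ := t.w.flip t.hu hc.1 nuc
  have hucZ := t.w.mul_mem_of_np t.hu hc.1 nuc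
  have haz : a * z * a⁻¹ = z := by
    rw [mul_inv_eq_iff_eq_mul]
    exact (t.cp.2 z (t.w.mem z t.hz) a ha).symm
  have h5 : CP K (u * c) z := by
    have h6 := t.w.cp_conj hc.1 t.hz hc.2.1 a
    rwa [h4, haz] at h6
  rcases (t.w.cen_iff hx hucZ).1 h3 with h6 | h6
  · rw [h6] at n1
    exact n1.2.2 h5
  · exact hs hucZ h5 h6

end fin

end TB

end Cfsg.Agent.Cit.Nil.Comp
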