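import Cfsg.Agent.Cit.Nil.Comp.TB

/-!
# S1309 (6b), `r = 1`, COMP: the product situation with `m = 2` and two blocks, K-free (helper61)

* `TB.cen_e` : `C(z u) ∩ C(c b)` stabilises `{z, u}` (`c` in the block of `u`, `b` in the block of `z`);
* `TB.odd_of` : `c (c')^g` has odd order for `g ∈ C(z u)` not stabilising `{z, u}`.
-/

set_option autoImplicit false
set_option linter.style.haveILetI false
set_option linter.unusedSectionVars false

namespace Cfsg.Agent.Cit.Nil.Comp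

open Subgroup Cfsg Cfsg.Agent.Cit Cfsg.Agent.Cit.Nil.ROne

variable {G : Type*} [Group G]

namespace TB

variable {Z : Set G} {K : G → Subgroup G} {z u : G} [Finite G] (t : TB Z K z u) {v x y c b g : G}

include t

theorem cp_bc (hc : BU Z K z u c) (hb : BU Z K u z b) : CP K b c := t.ab b hb.1 c hc.1 hb.2.1 hc.2.1

/-- `u c` is in the block of `u` -/
theorem bu_mul (hc : BU Z K z u c) : BU Z K z u (u * c) := by
  obtain ⟨a, ha, -, -, h4, -⟩ := t.w.flip t.hu hc.1 hc.2.2.symm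
  have haz : a * z * a⁻¹ = z := by
    rw [mul_inv_eq_iff_eq_mul]
    exact (t.cp.2 z (t.w.mem z t.hz) a ha).symm
  have h6 := t.w.cp_conj hc.1 t.hz hc.2.1 a
  rw [h4, haz] at h6
  exact ⟨t.w.mul_mem_of_np t.hu hc.1 hc.2.2.symm, h6, (t.w.np_mul t.hu hc.1 hc.2.2.symm).symm⟩

/-- **(8a)** : members of `C(z u)` commuting with `z` and `c b` -/
theorem iso_aux (hc : BU Z K z u c) (hb : BU Z K u z b) (hv : v ∈ Z) (hvh : Cen K (z * u) v)
    (hve : v * (c * b) = c * b * v) (hvz : v * z = z * v) : v = z ∨ v = u := by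
  have hvh' : v * (z * u) = z * u * v := (hvh v (t.w.mem v hv)).symm
  have hvu := t.comm_u hvh' hvz
  rcases t.cases hvz hvu with h1 | h1 | h1 | h1 | ⟨n1, n2⟩
  · exact Or.inl h1
  · exact Or.inr h1
  · exact t.om_eq hv hvh (Or.inr h1)
  · exact t.om_eq hv hvh (Or.inl h1)
  exfalso
  have hne : v * c ≠ c * v := t.enemy hv n1 n2 hc
  have hcc := t.w.sq c hc.1
  have hbb := t.w.sq b hb.1
  set c' := v * c * v⁻¹ with hc'
  set b' := v * b * v⁻¹ with hb'
  have hcZ : c' ∈ Z := t.w.conjZ c hc.1 v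
  have hbZ : b' ∈ Z := t.w.conjZ b hb.1 v
  have e1 : v * z * v⁻¹ = z := by rw [hvz, mul_inv_cancel_right]
  have e2 : v * u * v⁻¹ = u := by rw [hvu, mul_inv_cancel_right]
  have c1 : CP K c' z := by
    have h1 := t.w.cp_conj hc.1 t.hz hc.2.1 v
    rwa [e1] at h1
  have b1 : CP K b' u := by
    have h1 := t.w.cp_conj hb.1 t.hu hb.2.1 v
    rwa [e2] at h1
  have c2 : c' ≠ c := by
    intro h1
    apply hne
    rw [hc', mul_inv_eq_iff_eq_mul] at h1
    exact h1
  -- `c c' = b b'`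
  have h1 : c' * b' = c * b := by
    calc c' * b' = v * (c * b) * v⁻¹ := by rw [hc', hb']; group
      _ = c * b := by rw [hve, mul_inv_cancel_right]
  have cpbc : CP K b c := t.cp_bc hc hb
  have cpb'c : CP K b' c := t.ab b' hbZ c hc.1 b1 hc.2.1
  have hbc : b * c = c * b := t.w.comm_of_cp hb.1 hc.1 cpbc
  have hb'b' := t.w.sq b' hbZ
  have h2 : c * c' = b * b' := by
    calc c * c' = c * (c' * b') * b' := by
          rw [mul_assoc c, mul_assoc c', hb'b', mul_one]
      _ = c * (c * b) * b' := by rw [h1]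
      _ = (c * c) * b * b' := by group
      _ = b * b' := by rw [hcc, one_mul]
  have hcen : Cen K (c * c') c := by
    rw [h2]
    exact Cen.mul (fun k hk => cpbc.2 b (t.w.mem b hb.1) k hk) (fun k hk => cpb'c.2 b' (t.w.mem b' hbZ) k hk)
  have h3 : c * c' = c' * c := by
    have h4 := hcen c (t.w.mem c hc.1)
    -- `c c' c = c c c'`
    rw [mul_assoc] at h4
    exact (mul_left_cancel h4).symm
  have hncp : ¬ CP K c c' := fun h4 => t.n3 c hc.1 c' hcZ z t.hz h4 hc.2.1 c1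
  have np : NP K c c' := ⟨Ne.symm c2, h3, hncp⟩
  have h5 := t.w.np_mul hc.1 hcZ np
  rcases (t.w.cen_iff hc.1 (t.w.mul_mem_of_np hc.1 hcZ np)).1 hcen with h6 | h6
  · exact h5.1 h6
  · exact h5.2.2 h6

/-- **(8)** : `C(z u) ∩ C(c b)` stabilises `{z, u}` -/
theorem cen_e (hc : BU Z K z u c) (hb : BU Z K u z b) (hg : g * (z * u) = z * u * g)
    (hge : g * (c * b) = c * b * g) : g * z * g⁻¹ = z ∨ g * z * g⁻¹ = u := by
  obtain ⟨h, hh⟩ : ∃ h, h = z * u := ⟨_, rfl⟩
  obtain ⟨e, he⟩ : ∃ e, e = c * b := ⟨_, rfl⟩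
  have cpbc : CP K b c := t.cp_bc hc hb
  have hbc : b * c = c * b := t.w.comm_of_cp hb.1 hc.1 cpbc
  have hcc := t.w.sq c hc.1
  have hbb := t.w.sq b hb.1
  have hhh : h * h = 1 := by
    rw [hh]
    calc z * u * (z * u) = z * u * z * u := by group
      _ = 1 := by rw [t.zuz, t.uu]
  have hee : e * e = 1 := by
    rw [he]
    calc c * b * (c * b) = c * (b * c) * b := by group
      _ = (c * c) * (b * b) := by rw [hbc]; group
      _ = 1 := by rw [hcc, hbb, one_mul]
  have hcz := t.bu_comm hc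
  have hcu := hc.2.2.2.1
  have hbu : b * u = u * b := t.w.comm_of_cp hb.1 t.hu hb.2.1
  have hbz : b * z = z * b := hb.2.2.2.1
  have hze : z * e = e * z := by
    rw [he, ← mul_assoc, ← hcz, mul_assoc, ← hbz, mul_assoc]
  have hue : u * e = e * u := by
    rw [he, ← mul_assoc, ← hcu, mul_assoc, ← hbu, mul_assoc]
  have hhe : h * e = e * h := by
    rw [hh, mul_assoc, hue, ← mul_assoc, hze, mul_assoc]
  have hzh : z * h = h * z := by rw [hh, ← mul_assoc, mul_assoc z u z, ← t.comm, ← mul_assoc]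
  -- the four-group `V`
  obtain ⟨V, hV⟩ : ∃ V : Subgroup G, ∀ x, x ∈ V ↔ x = 1 ∨ x = h ∨ x = e ∨ x = h * e := by
    have ehe : e * (h * e) = h := by rw [hhe, ← mul_assoc, hee, one_mul]
    have hhe2 : h * (h * e) = e := by rw [← mul_assoc, hhh, one_mul]
    have heh : h * e * h = e := by rw [hhe, mul_assoc, hhh, mul_one]
    have hee2 : h * e * e = h := by rw [mul_assoc, hee, mul_one]
    have hehe : h * e * (h * e) = 1 := by rw [← mul_assoc, heh, hee]
    have hi : h⁻¹ = h := inv_eq_of_mul_eq_one_right hhh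
    have ei : e⁻¹ = e := inv_eq_of_mul_eq_one_right hee
    refine ⟨{ carrier := {x | x = 1 ∨ x = h ∨ x = e ∨ x = h * e}
              one_mem' := Or.inl rfl
              mul_mem' := ?_
              inv_mem' := ?_ }, fun x => Iff.rfl⟩
    · rintro x y (rfl | rfl | rfl | rfl) (rfl | rfl | rfl | rfl)
      all_goals simp only [one_mul, mul_one, hhh, hee, ehe, hhe2, heh, hee2, hehe, hhe.symm, Set.mem_ofPred_eq,
        true_or, or_true]
    · rintro x (rfl | rfl | rfl | rfl)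
      · exact Or.inl inv_one
      · exact Or.inr (Or.inl hi)
      · exact Or.inr (Or.inr (Or.inl ei))
      · refine Or.inr (Or.inr (Or.inr ?_))
        rw [mul_inv_rev, hi, ei, hhe]
  have hXdef : ∀ x, x ∈ centralizer ({h, e} : Set G) ↔ x * h = h * x ∧ x * e = e * x := by
    intro x
    rw [mem_centralizer_iff]
    constructor
    · exact fun h1 => ⟨(h1 h (Or.inl rfl)).symm, (h1 e (Or.inr rfl)).symm⟩
    · rintro ⟨h1, h2⟩ y (rfl | rfl)
      · exact h1.symm
      · exact h2.symm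
  obtain ⟨X, hX⟩ : ∃ X : Subgroup G, ∀ x, x ∈ X ↔ x * h = h * x ∧ x * e = e * x := ⟨_, hXdef⟩
  have hzX : z ∈ X := (hX z).2 ⟨hzh, hze⟩
  -- conjugates of `z`
  have conjX : ∀ x ∈ X, x * z * x⁻¹ ∈ Z ∧ Cen K (z * u) (x * z * x⁻¹) ∧ x * z * x⁻¹ * (c * b) = c * b * (x * z * x⁻¹) := by
    intro x hx
    obtain ⟨h1, h2⟩ := (hX x).1 hx
    refine ⟨t.w.conjZ z t.hz x, ?_, ?_⟩
    · have h3 := t.w.cen_conj t.hz x t.cen_z
      rw [← hh] at h3 ⊢
      rwa [h1, mul_inv_cancel_right] at h3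
    · rw [← he]
      have h3 : x⁻¹ * e = e * x⁻¹ := by
        rw [inv_mul_eq_iff_eq_mul, ← mul_assoc, h2, mul_inv_cancel_right]
      calc x * z * x⁻¹ * e = x * z * (x⁻¹ * e) := by group
        _ = x * (z * e) * x⁻¹ := by rw [h3]; group
        _ = (x * e) * z * x⁻¹ := by rw [hze]; group
        _ = e * (x * z * x⁻¹) := by rw [h2]; group
  have hnc : ¬ Cen K c u := by
    intro h1
    rcases (t.w.cen_iff t.hu hc.1).1 h1 with h2 | h2
    · exact hc.2.2.1 h2.symm
    · exact hc.2.2.2.2 h2.symm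
  have key : ∀ x ∈ X, z * (x * z * x⁻¹) = x * z * x⁻¹ * z → x * z * x⁻¹ = z ∨ x * z * x⁻¹ = u := fun x hx h1 =>
    t.iso_aux hc hb (conjX x hx).1 (conjX x hx).2.1 (conjX x hx).2.2 h1.symm
  have hgX : g ∈ X := (hX g).2 ⟨by rw [hh]; exact hg, by rw [he]; exact hge⟩
  refine key g hgX (zstar_four (X := X) (V := V) ?_ ?_ hzX t.zz ?_ ?_ ?_ hgX)
  · intro v hv x hx
    obtain ⟨h1, h2⟩ := (hX x).1 hx
    rcases (hV v).1 hv with rfl | rfl | rfl | rfl
    · rw [one_mul, mul_one]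
    · exact h1.symm
    · exact h2.symm
    · rw [mul_assoc, ← h2, ← mul_assoc, ← h1, mul_assoc]
  · intro v
    refine ⟨1, Subtype.ext ?_⟩
    change (v : G) ^ (2 ^ 1) = 1
    rw [pow_one, pow_two]
    rcases (hV v).1 v.2 with h1 | h1 | h1 | h1
    · rw [h1, one_mul]
    · rw [h1, hhh]
    · rw [h1, hee]
    · rw [h1, ← mul_assoc, mul_assoc h e h, ← hhe, ← mul_assoc, hhh, one_mul, hee]
  · -- `z ∉ V`
    intro hzV
    have hzne := t.w.ne z t.hz
    rcases (hV z).1 hzV with h1 | h1 | h1 | h1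
    · exact hzne h1
    · rw [hh] at h1
      exact t.w.ne u t.hu (mul_eq_left.1 h1.symm)
    · -- `z = c b`
      have h2 : c = z * b := by rw [h1, he, mul_assoc, hbb, mul_one]
      refine hnc ?_
      rw [h2]
      exact Cen.mul (fun k hk => t.cp.2 z (t.w.mem z t.hz) k hk) (fun k hk => hb.2.1.2 b (t.w.mem b hb.1) k hk)
    · have h2 : c = u * b := by
        have h3 : u * (c * b) = 1 := by
          have h4 : z * (u * (c * b)) = z * 1 := by
            rw [mul_one, ← mul_assoc, ← hh, ← he]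
            exact h1.symm
          exact mul_left_cancel h4
        have h4 : c * b = u := by
          rw [← t.w.inv t.hu]
          exact (inv_eq_of_mul_eq_one_right h3).symm
        rw [← h4, mul_assoc, hbb, mul_one]
      refine hnc ?_
      rw [h2]
      exact Cen.mul (fun k hk => (t.w.cent t.hu hk).symm) (fun k hk => hb.2.1.2 b (t.w.mem b hb.1) k hk)
  · -- `z` is isolated modulo `V`
    intro x hx h1
    set v := x * z * x⁻¹ with hv
    have hvX : v ∈ X := mul_mem (mul_mem hx hzX) (inv_mem hx)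
    obtain ⟨s, hs⟩ : ∃ s, s = z * v * (v * z)⁻¹ := ⟨_, rfl⟩
    rw [← hs] at h1
    have hsz : s * z = z * s := by
      rcases (hV s).1 h1 with h2 | h2 | h2 | h2
      · rw [h2, one_mul, mul_one]
      · rw [h2, hzh]
      · rw [h2, hze]
      · rw [h2, mul_assoc, ← hze, ← mul_assoc, ← hzh, mul_assoc]
    have hss : s * s = 1 := by
      rcases (hV s).1 h1 with h2 | h2 | h2 | h2
      · rw [h2, one_mul]
      · rw [h2, hhh]
      · rw [h2, hee]
      · rw [h2, ← mul_assoc, mul_assoc h e h, ← hhe, ← mul_assoc, hhh, one_mul, hee]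
    have h3 : z * v = s * (v * z) := by rw [hs]; group
    have h4 : v * z * v⁻¹ = s * z := by
      have h5 : v * z = s * (z * v) := by rw [h3, ← mul_assoc s s, hss, one_mul]
      rw [h5]; group
    have h5 : z * (v * z * v⁻¹) = v * z * v⁻¹ * z := by
      rw [h4, ← mul_assoc, ← hsz]
    have hvZ := (conjX x hx).1
    rw [← hv] at hvZ
    have hs1 : s = 1 := by
      rcases key v hvX h5 with h6 | h6
      · rw [h4] at h6
        exact mul_eq_right.1 h6
      · exact (t.no_swap hvZ h6).elim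
    rw [hs1, one_mul] at h3
    rcases key x hx h3 with h6 | h6
    · rw [← hv] at h6
      rw [h6, mul_inv_cancel]
      exact one_mem V
    · rw [← hv] at h6
      rw [h6, t.w.inv t.hz, ← t.comm, ← hh]
      exact (hV h).2 (Or.inr (Or.inl rfl))
  · -- the core
    intro N hNX hNn hNo n hn
    have hbX : b ∈ X := (hX b).2 ⟨by rw [hh, ← mul_assoc, hbz, mul_assoc, hbu, mul_assoc], by
      rw [he, ← mul_assoc, hbc, mul_assoc]⟩
    have h1 : N ≤ centralizer {z} := by
      refine Cfsg.Agent.Lib.KleinGen.le_of_klein N _ hNo z b t.zz hbb hbz.symm (fun h h1 => hNn z hzX h h1)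
        (fun h h1 => hNn b hbX h h1) inf_le_right ?_ ?_
      · intro m hm
        have h2 := mem_centralizer_singleton_iff.1 (mem_inf.1 hm).2
        have h3 := ((hX m).1 (hNX (mem_inf.1 hm).1)).1
        rw [hh, t.comm] at h3
        exact mem_centralizer_singleton_iff.2 (t.symm.cen_bu hb h3 h2).2
      · intro m hm
        have h2 := mem_centralizer_singleton_iff.1 (mem_inf.1 hm).2
        have h3 := ((hX m).1 (hNX (mem_inf.1 hm).1)).1
        rw [hh, t.comm] at h3
        exact mem_centralizer_singleton_iff.2 (t.symm.cen_bu (t.symm.bu_mul hb) h3 h2).2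
    exact (mem_centralizer_singleton_iff.1 (h1 hn)).symm

/-- a conjugate of an element of `BU` which centralises `z` and `u` -/
theorem of_conj (hc : BU Z K z u c) (hg : g * (z * u) = z * u * g) (h1 : g * c * g⁻¹ * z = z * (g * c * g⁻¹))
    (h2 : g * c * g⁻¹ * u = u * (g * c * g⁻¹)) : g * z * g⁻¹ = z ∨ g * z * g⁻¹ = u := by
  have hZ : g * c * g⁻¹ ∈ Z := t.w.conjZ c hc.1 g
  have hn : ¬ Cen K (z * u) (g * c * g⁻¹) := by
    intro h3
    apply t.not_om hc
    have h4 := t.w.cen_conj hZ g⁻¹ h3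
    have e1 : g⁻¹ * (g * c * g⁻¹) * g⁻¹⁻¹ = c := by group
    have e2 : g⁻¹ * (z * u) * g⁻¹⁻¹ = z * u := by
      rw [inv_inv, mul_assoc, ← hg, inv_mul_cancel_left]
    rwa [e1, e2] at h4
  rcases t.cases h1 h2 with h3 | h3 | h3 | h3 | ⟨n1, n2⟩
  · exact (hn (by rw [h3]; exact t.cen_z)).elim
  · exact (hn (by rw [h3]; exact t.cen_u)).elim
  · exact t.conj_z hc.1 hc.2.1 hg (Or.inr h3)
  · exact t.conj_z hc.1 hc.2.1 hg (Or.inl h3)
  · exact (hn (t.om_of_np hZ n1 n2)).elim

/-- **(10)** : `c₁ c₂^g` has odd order, if `g ∈ C(z u)` does not stabilise `{z, u}` -/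
theorem odd_of {c₁ c₂ : G} (hc1 : BU Z K z u c₁) (hc2 : BU Z K z u c₂) (hg : g * (z * u) = z * u * g)
    (hgz : g * z * g⁻¹ ≠ z) (hgu : g * z * g⁻¹ ≠ u) : Odd (orderOf (c₁ * (g * c₂ * g⁻¹))) := by
  by_contra hodd
  obtain ⟨c, hc⟩ : ∃ c, c = g * c₂ * g⁻¹ := ⟨_, rfl⟩
  rw [← hc] at hodd
  have hcZ : c ∈ Z := by rw [hc]; exact t.w.conjZ c₂ hc2.1 g
  have hch : c * (z * u) = z * u * c := by
    have h1 : g⁻¹ * (z * u) = z * u * g⁻¹ := by
      rw [inv_mul_eq_iff_eq_mul, ← mul_assoc, hg, mul_inv_cancel_right]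
    calc c * (z * u) = g * c₂ * (g⁻¹ * (z * u)) := by rw [hc]; group
      _ = g * (c₂ * (z * u)) * g⁻¹ := by rw [h1]; group
      _ = (g * (z * u)) * c₂ * g⁻¹ := by rw [t.bu_comm_h hc2]; group
      _ = z * u * c := by rw [hg, hc]; group
  -- `c` does not centralise `z`
  have hn : ¬ (c * z = z * c) := by
    intro h1
    have h2 := t.comm_u hch h1
    rw [hc] at h1 h2
    exact (t.of_conj hc2 hg h1 h2).elim hgz hgu
  obtain ⟨e, he1, hee, hes, het, hex, r, hr, hrr⟩ := exists_invol (t.w.sq c₁ hc1.1) (t.w.sq c hcZ) hodd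
  have hhr : r * (z * u) = z * u * r := (hr (z * u) (t.bu_comm_h hc1).symm hch.symm).symm
  have hhe : e * (z * u) = z * u * e := (hex (z * u) (t.bu_comm_h hc1).symm hch.symm).symm
  obtain ⟨b, hb⟩ : ∃ b, b = c₁ * e := ⟨_, rfl⟩
  have hcc := t.w.sq c₁ hc1.1
  have hbc : b * c₁ = c₁ * b := by rw [hb, mul_assoc, hes]
  have hbne : b ≠ c₁ := fun h1 => he1 (by rw [hb] at h1; exact mul_eq_left.1 h1)
  have heb : e = c₁ * b := by rw [hb, ← mul_assoc, hcc, one_mul]
  have hbh : b * (z * u) = z * u * b := by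
    rw [hb, mul_assoc, hhe, ← mul_assoc, t.bu_comm_h hc1, mul_assoc]
  -- `b` is a conjugate of `c₁` or `c`
  have hbZ : b ∈ Z := by
    rw [hb]
    rcases hrr with h1 | h1
    · rw [h1]; exact t.w.conjZ c₁ hc1.1 r
    · rw [h1]; exact t.w.conjZ c hcZ r
  have hconj : ∀ {y : G}, y ∈ Z → ∀ {k : G}, k * (z * u) = z * u * k → Cen K (z * u) (k * y * k⁻¹) → Cen K (z * u) y := by
    intro y hy k hk h3
    have h4 := t.w.cen_conj (t.w.conjZ y hy k) k⁻¹ h3
    have e1 : k⁻¹ * (k * y * k⁻¹) * k⁻¹⁻¹ = y := by group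
    have e2 : k⁻¹ * (z * u) * k⁻¹⁻¹ = z * u := by
      rw [inv_inv, mul_assoc, ← hk, inv_mul_cancel_left]
    rwa [e1, e2] at h4
  have hbn : ¬ Cen K (z * u) b := by
    intro h1
    rw [hb] at h1
    rcases hrr with h2 | h2
    · rw [h2] at h1
      exact t.not_om hc1 (hconj hc1.1 hhr h1)
    · rw [h2] at h1
      have h3 := hconj hcZ hhr h1
      rw [hc] at h3
      exact t.not_om hc2 (hconj hc2.1 hg h3)
  -- `b` centralises `z`, `u`
  obtain ⟨hbz, hbu⟩ := t.cen_bu hc1 hbh hbc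
  have hce : c * (c₁ * b) = c₁ * b * c := by rw [← heb]; exact het.symm
  rcases t.cases hbz hbu with h1 | h1 | h1 | h1 | ⟨n1, n2⟩
  · exact hbn (by rw [h1]; exact t.cen_z)
  · exact hbn (by rw [h1]; exact t.cen_u)
  · -- `b ∈ BU z u`
    by_cases h2 : b = u
    · exact hbn (by rw [h2]; exact t.cen_u)
    have hbB : BU Z K z u b := t.bu_of hbZ h1 hbu h2
    have hncp : ¬ CP K c₁ b := fun h3 => t.n3 c₁ hc1.1 b hbZ z t.hz h3 hc1.2.1 h1
    have np : NP K c₁ b := ⟨Ne.symm hbne, hbc.symm, hncp⟩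
    have heZ : e ∈ Z := by rw [heb]; exact t.w.mul_mem_of_np hc1.1 hbZ np
    have hez : CP K e z := by
      obtain ⟨a, ha, -, -, h4, -⟩ := t.w.flip hc1.1 hbZ np
      have haz : a * z * a⁻¹ = z := by
        rw [mul_inv_eq_iff_eq_mul]
        exact hc1.2.1.2 a ha z (t.w.mem z t.hz)
      have h6 := t.w.cp_conj hbZ t.hz h1 a
      rwa [h4, haz, ← heb] at h6
    have heu : e * u = u * e := by
      rw [heb, mul_assoc, hbu, ← mul_assoc, hc1.2.2.2.1, mul_assoc]
    by_cases h3 : e = u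
    · -- `c` centralises `u`
      have hcu : c * u = u * c := by rw [← h3]; exact het.symm
      apply hn
      have h4 : c * (u * z) = u * z * c := by rw [← t.comm]; exact hch
      exact t.symm.comm_u h4 hcu
    · exact hn (t.cen_bu (t.bu_of heZ hez heu h3) hch het.symm).1
  · -- `b ∈ BU u z`
    by_cases h2 : b = z
    · exact hbn (by rw [h2]; exact t.cen_z)
    have hbB : BU Z K u z b := t.symm.bu_of hbZ h1 hbz h2
    rcases t.cen_e hc1 hbB hch hce with h3 | h3
    · exact hn (mul_inv_eq_iff_eq_mul.1 h3)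
    · exact t.no_swap hcZ h3
  · exact hbn (t.om_of_np hbZ n1 n2)

end TB

end Cfsg.Agent.Cit.Nil.Comp
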